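import Cfsg.Agent.Lib.SmallSimple.Orders3640.Tools
import Cfsg.Agent.Lib.SmallSimple.DegreeGraph6000.Coprime
import Cfsg.Agent.Lib.CharP.Sylow
import Cfsg.Agent.Lib.Cores.Basic
import Cfsg.Agent.S0983

/-!
# Groups of order 12096 without elements of orders 9, 14 and 21
-/

set_option autoImplicit false
set_option linter.style.haveILetI false

namespace Cfsg.Agent.SmallSimple.Order6048

open Subgroup

variable {G : Type*} [Group G] [Finite G]

/-- No elements of orders 9, 14 and 21. -/
def Gap (G : Type*) [Group G] : Prop :=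
  ∀ g : G, orderOf g ≠ 9 ∧ orderOf g ≠ 14 ∧ orderOf g ≠ 21

theorem Gap.subgroup (h : Gap G) (H : Subgroup G) : Gap H := fun g => by
  simpa only [Subgroup.orderOf_coe] using h (g : G)

theorem no_commute {p : ℕ} (hp : p.Prime) (hp7 : p ≠ 7) (h : ∀ g : G, orderOf g ≠ 7 * p) {x : G}
    (hx : orderOf x = 7) : ¬ p ∣ Nat.card (centralizer ({x} : Set G)) := by
  haveI := Fact.mk hp
  intro hd
  obtain ⟨⟨u, hu⟩, huo⟩ := exists_prime_orderOf_dvd_card' (G := centralizer ({x} : Set G)) p hd
  rw [orderOf_mk] at huo
  have hc : Commute x u := (mem_centralizer_singleton_iff.1 hu).symm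
  refine h (x * u) ?_
  rw [hc.orderOf_mul_eq_mul_orderOf_of_coprime (by
    rw [hx, huo]; exact (Nat.coprime_primes (by norm_num) hp).2 hp7.symm), hx, huo]

/-- Elements of order seven are self-centralizing. -/
theorem Gap.cent7 (h : Gap G) (hd : Nat.card G ∣ 12096) {x : G} (hx : orderOf x = 7) :
    Nat.card (centralizer ({x} : Set G)) = 7 := by
  have h2 := no_commute Nat.prime_two (by norm_num) (fun g => (h g).2.1) hx
  have h3 := no_commute Nat.prime_three (by norm_num) (fun g => (h g).2.2) hx
  have hdC : Nat.card (centralizer ({x} : Set G)) ∣ 12096 := (card_subgroup_dvd_card _).trans hd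
  have h7 : 7 ∣ Nat.card (centralizer ({x} : Set G)) := by
    rw [← hx, ← orderOf_mk x (mem_centralizer_singleton_iff.2 rfl : x ∈ centralizer ({x} : Set G))]
    exact orderOf_dvd_natCard _
  have key : ∀ c ∈ (12096 : ℕ).divisors, ¬ 2 ∣ c → ¬ 3 ∣ c → 7 ∣ c → c = 7 := by decide +kernel
  exact key _ (Nat.mem_divisors.2 ⟨hdC, by norm_num⟩) h2 h3 h7

/-- The Sylow subgroups at seven. -/
theorem Gap.sylow7 (h : Gap G) (hd : Nat.card G = 12096 ∨ Nat.card G = 6048 ∨ Nat.card G = 4032 ∨
      Nat.card G = 2016) [Fact (Nat.Prime 7)] (P : Sylow 7 G) :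
    Nat.card (P : Subgroup G) = 7 ∧ Nat.card (centralizer ((P : Subgroup G) : Set G)) = 7 ∧
      Nat.card (Sylow 7 G) = 288 ∧
      Nat.card (normalizer ((P : Subgroup G) : Set G)) * 288 = Nat.card G := by
  have hdvd : Nat.card G ∣ 12096 := by rcases hd with e | e | e | e <;> rw [e] <;> norm_num
  have hP : Nat.card (P : Subgroup G) = 7 := by
    rcases hd with e | e | e | e
    · exact (Basic.card_sylow_eq_pow (a := 1) (m := 1728) (by rw [e]; norm_num) (by norm_num) P).trans (pow_one _)
    · exact (Basic.card_sylow_eq_pow (a := 1) (m := 864) (by rw [e]; norm_num) (by norm_num) P).trans (pow_one _)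
    · exact (Basic.card_sylow_eq_pow (a := 1) (m := 576) (by rw [e]; norm_num) (by norm_num) P).trans (pow_one _)
    · exact (Basic.card_sylow_eq_pow (a := 1) (m := 288) (by rw [e]; norm_num) (by norm_num) P).trans (pow_one _)
  obtain ⟨x, hx, hx1, hxo⟩ := Order2520.exists_gen hP
  have hC : Nat.card (centralizer ((P : Subgroup G) : Set G)) = 7 := by
    rw [← Order2520.cent_eq hP hx hx1, h.cent7 hdvd hxo]
  have he := Centralize.relIndex_centralizer_dvd P hP
  have hN : Nat.card (normalizer ((P : Subgroup G) : Set G)) =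
      7 * (centralizer ((P : Subgroup G) : Set G)).relIndex (normalizer ((P : Subgroup G) : Set G)) := by
    have h1 := relIndex_mul_relIndex ⊥ (centralizer ((P : Subgroup G) : Set G))
      (normalizer ((P : Subgroup G) : Set G)) bot_le (centralizer_le_normalizer _)
    rw [relIndex_bot_left, relIndex_bot_left, hC] at h1
    exact h1.symm
  have hmul := Basic.card_normalizer_mul P
  have hmod : Nat.card (Sylow 7 G) % 7 = 1 := card_sylow_modEq_one 7 G
  rw [hN] at hmul
  generalize Nat.card (Sylow 7 G) = n at hmul hmod ⊢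
  generalize (centralizer ((P : Subgroup G) : Set G)).relIndex (normalizer ((P : Subgroup G) : Set G)) = e
    at hmul hN he
  have he6 : e ∈ (7 - 1 : ℕ).divisors := Nat.mem_divisors.2 ⟨he, by norm_num⟩
  have hn : n = 288 := by
    rw [show (7 - 1 : ℕ).divisors = {1, 2, 3, 6} from by decide] at he6
    simp only [Finset.mem_insert, Finset.mem_singleton] at he6
    rcases hd with g | g | g | g <;> rcases he6 with rfl | rfl | rfl | rfl <;> omega
  subst hn
  exact ⟨hP, hC, rfl, by rw [hN]; linarith⟩

/-- An element of order seven fixes only the identity of a subgroup of order prime to seven. -/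
theorem Gap.inf_cent (h : Gap G) (hd : Nat.card G ∣ 12096) {x : G} (hx : orderOf x = 7)
    (K : Subgroup G) (h7 : ¬ 7 ∣ Nat.card K) :
    Nat.card ↥(K ⊓ centralizer ({x} : Set G)) = 1 := by
  have hk : Nat.card ↥(K ⊓ centralizer ({x} : Set G)) ∣ 7 :=
    h.cent7 hd hx ▸ card_dvd_of_le inf_le_right
  rcases (Nat.dvd_prime (by norm_num)).1 hk with e | e
  · exact e
  · exact absurd (e ▸ card_dvd_of_le inf_le_left) h7

/-- The orders of normal subgroups of order prime to seven. -/
theorem Gap.seven_free (h : Gap G) (hd : Nat.card G ∣ 12096) (hG : 7 ∣ Nat.card G) (K : Subgroup G)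
    [K.Normal] (h7 : ¬ 7 ∣ Nat.card K) :
    Nat.card K = 1 ∨ Nat.card K = 8 ∨ Nat.card K = 64 := by
  haveI : Fact (Nat.Prime 7) := ⟨by norm_num⟩
  obtain ⟨x, hx⟩ := exists_prime_orderOf_dvd_card' (G := G) 7 hG
  have hone := h.inf_cent hd hx K h7
  have hK : Nat.card K ∣ 1728 := (Nat.Coprime.dvd_of_dvd_mul_left
    ((Nat.Prime.coprime_iff_not_dvd (by norm_num)).2 h7).symm
    (show Nat.card K ∣ 7 * 1728 from ((card_subgroup_dvd_card K).trans hd)))
  have hmod : Nat.card K % 7 = 1 := by
    have := DegreeGraph6000.fixed_modEq hx K (by rw [Subgroup.normalizer_eq_top]; trivial)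
    rw [hone] at this
    exact this
  have h3 : ¬ 3 ∣ Nat.card K ∨ 27 ∣ Nat.card K := by
    by_contra hcon
    push Not at hcon
    have := DegreeGraph6000.dvd_card_centralizer hx K h7 Nat.prime_three (k := 1) (by simpa using hcon.1)
      (fun a ha hak => by
        have ha3 : a < 3 := by
          by_contra hlt
          exact hcon.2 ((pow_dvd_pow 3 (not_lt.1 hlt)).trans hak)
        interval_cases a <;> decide)
    rw [hone] at this
    norm_num at this
  have key : ∀ c ∈ (1728 : ℕ).divisors, c % 7 = 1 → (¬ 3 ∣ c ∨ 27 ∣ c) → c = 1 ∨ c = 8 ∨ c = 64 := by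
    decide +kernel
  exact key _ (Nat.mem_divisors.2 ⟨hK, by norm_num⟩) hmod h3

/-- A subgroup of order 2016 has no room in such a group. -/
theorem Gap.no_2016 (h : Gap G) (hd : Nat.card G = 2016) : False := by
  haveI : Fact (Nat.Prime 7) := ⟨by norm_num⟩
  obtain ⟨P⟩ : Nonempty (Sylow 7 G) := inferInstance
  obtain ⟨hP, hC, -, hN⟩ := h.sylow7 (Or.inr (Or.inr (Or.inr hd))) P
  have hle : normalizer ((P : Subgroup G) : Set G) ≤ centralizer ((P : Subgroup G) : Set G) :=
    (eq_of_le_of_card_ge (centralizer_le_normalizer _) (by rw [hC]; omega)).ge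
  have hc := MonoidHom.ker_transferSylow_isComplement' P hle
  have hK := hc.card_mul_card
  rw [hP, hd] at hK
  have := h.seven_free (by rw [hd]; norm_num) (by rw [hd]; norm_num) (MonoidHom.transferSylow P hle).ker
    (by omega)
  omega

/-- A normal subgroup of order divisible by seven has all the Sylow subgroups. -/
theorem Gap.normal_card (h : Gap G)
    (hd : Nat.card G = 12096 ∨ Nat.card G = 6048 ∨ Nat.card G = 4032) (N : Subgroup G) [N.Normal]
    (h7 : 7 ∣ Nat.card N) :
    Nat.card N = 2016 ∨ Nat.card N = 4032 ∨ Nat.card N = 6048 ∨ Nat.card N = 12096 := by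
  haveI : Fact (Nat.Prime 7) := ⟨by norm_num⟩
  obtain ⟨P⟩ : Nonempty (Sylow 7 G) := inferInstance
  have hd4 : Nat.card G = 12096 ∨ Nat.card G = 6048 ∨ Nat.card G = 4032 ∨ Nat.card G = 2016 := by tauto
  obtain ⟨hP, hC, hn, hNP⟩ := h.sylow7 hd4 P
  obtain ⟨x, hx⟩ := exists_prime_orderOf_dvd_card' (G := N) 7 h7
  obtain ⟨Q, hxQ, hx1⟩ := Order2520.exists_sylow (fun R => (h.sylow7 hd4 R).1)
    (show orderOf (x : G) = 7 by rw [Subgroup.orderOf_coe]; exact hx)
  have hQN : (Q : Subgroup G) ≤ N := by
    rw [← Centralize.sylow_le_iff_mem hxQ hx1 (h.sylow7 hd4 Q).1]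
    exact zpowers_le.2 x.2
  have hPN : (P : Subgroup G) ≤ N := by
    obtain ⟨a, rfl⟩ := MulAction.exists_smul_eq G Q P
    intro y hy
    rw [Sylow.coe_subgroup_smul] at hy
    obtain ⟨z, hz, rfl⟩ := hy
    exact (inferInstance : N.Normal).conj_mem z (hQN hz) a
  have hfr := congrArg SetLike.coe (Sylow.normalizer_sup_eq_top' (N := N) P hPN)
  rw [Subgroup.mul_normal] at hfr
  have hidx : N.index = N.relIndex (normalizer ((P : Subgroup G) : Set G)) := by
    rw [← relIndex_top_right, ← Sylow.normalizer_sup_eq_top' (N := N) P hPN, relIndex_sup_right]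
    rfl
  have h1 : N.relIndex (normalizer ((P : Subgroup G) : Set G)) * Nat.card ↥(normalizer ((P : Subgroup G) : Set G) ⊓ N) =
      Nat.card (normalizer ((P : Subgroup G) : Set G)) := by
    rw [mul_comm]; exact Order2520.card_inf_mul _ _
  have h2 : 7 ∣ Nat.card ↥(normalizer ((P : Subgroup G) : Set G) ⊓ N) :=
    hP.symm.dvd.trans (card_dvd_of_le (le_inf le_normalizer hPN))
  have h3 := N.card_mul_index
  rw [hidx] at h3
  rw [← hNP] at h3
  obtain ⟨d, hd7⟩ := h2
  rw [hd7] at h1
  have hd6 : d ∣ 6 := by
    have h42 : Nat.card (normalizer ((P : Subgroup G) : Set G)) ∣ 42 := by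
      rcases hd with e | e | e <;> rw [e] at hNP
      · exact dvd_of_eq (by omega)
      · exact ⟨2, by omega⟩
      · exact ⟨3, by omega⟩
    exact Nat.dvd_of_mul_dvd_mul_left (show 0 < 7 by norm_num)
      ((dvd_mul_left (7 * d) _).trans (h1 ▸ h42))
  have hN' : Nat.card N = 2016 * d := by
    have hpos : 0 < N.relIndex (normalizer ((P : Subgroup G) : Set G)) := Nat.pos_of_ne_zero fun e => by
      rw [e, zero_mul] at h1
      exact Nat.card_pos.ne h1
    refine Nat.eq_of_mul_eq_mul_right hpos ?_
    rw [h3, ← h1]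
    ring
  have hd' : d ∈ (6 : ℕ).divisors := Nat.mem_divisors.2 ⟨hd6, by norm_num⟩
  rw [show (6 : ℕ).divisors = {1, 2, 3, 6} from by decide] at hd'
  simp only [Finset.mem_insert, Finset.mem_singleton] at hd'
  rcases hd' with rfl | rfl | rfl | rfl <;> omega

/-- A normal subgroup of index two or three is simple. -/
theorem Gap.simple (h : Gap G) (hG : Nat.card G = 12096)
    (h8 : ∀ K : Subgroup G, K.Normal → ¬ 7 ∣ Nat.card K → K = ⊥) (N : Subgroup G) [N.Normal]
    (hN : Nat.card N = 4032 ∨ Nat.card N = 6048) : IsSimpleGroup N := by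
  haveI : Fact (Nat.Prime 2) := ⟨Nat.prime_two⟩
  haveI : Nontrivial N := Finite.one_lt_card_iff_nontrivial.1 (by omega)
  refine ⟨fun K hK => ?_⟩
  haveI := hK
  by_cases h7 : 7 ∣ Nat.card K
  · right
    rcases (h.subgroup N).normal_card (by tauto) K h7 with e | e | e | e
    · exact (((h.subgroup N).subgroup K).no_2016 e).elim
    · refine eq_top_of_card_eq _ ?_
      have := card_subgroup_dvd_card K
      rcases hN with e' | e' <;> rw [e, e'] at this ⊢
      norm_num at this
    · refine eq_top_of_card_eq _ ?_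
      have := Subgroup.card_le_card_group K
      omega
    · have := Subgroup.card_le_card_group K
      omega
  · left
    rcases (h.subgroup N).seven_free (by rcases hN with e | e <;> rw [e] <;> norm_num)
      (by rcases hN with e | e <;> rw [e] <;> norm_num) K h7 with e | e | e
    · exact card_eq_one.1 e
    all_goals
      exfalso
      have hex : ∃ n, Nat.card K = 2 ^ n := by
        first
          | exact ⟨3, e⟩
          | exact ⟨6, e⟩
      have hp : IsPGroup 2 K := IsPGroup.of_card hex.choose_spec
      have hle : K ≤ Cfsg.pCore 2 N := CharP.le_pCore hK hp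
      haveI : (Cfsg.pCore 2 N).Characteristic := Cores.pCore_characteristic 2
      have hbot := h8 ((Cfsg.pCore 2 N).map N.subtype) inferInstance (by
        rw [card_map_of_injective N.subtype_injective]
        obtain ⟨n, hn⟩ := IsPGroup.iff_card.1 (CharP.isPGroup_pCore 2 N)
        rw [hn]
        exact fun hd => by
          have := (Nat.prime_dvd_prime_iff_eq (by norm_num) Nat.prime_two).1
            ((show Nat.Prime 7 by norm_num).dvd_of_dvd_pow hd)
          norm_num at this)
      rw [map_eq_bot_iff_of_injective _ N.subtype_injective] at hbot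
      rw [hbot, le_bot_iff] at hle
      rw [hle, card_bot] at e
      omega

/-- The structure of a group of order 12096 without elements of orders 9, 14 and 21. -/
theorem Gap.structure (h : Gap G) (hG : Nat.card G = 12096) :
    IsSimpleGroup G ∨ ∃ S : Subgroup G, S.Normal ∧ IsSimpleGroup S ∧ Nat.card S = 6048 ∧
      centralizer (S : Set G) = ⊥ := by
  haveI : Fact (Nat.Prime 7) := ⟨by norm_num⟩
  haveI : Nontrivial G := Finite.one_lt_card_iff_nontrivial.1 (by omega)
  obtain ⟨x, hx⟩ := exists_prime_orderOf_dvd_card' (G := G) 7 (by rw [hG]; norm_num)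
  obtain ⟨P⟩ : Nonempty (Sylow 7 G) := inferInstance
  obtain ⟨hP, hC, -, hNP⟩ := h.sylow7 (Or.inl hG) P
  -- no normal subgroups of order prime to seven
  have h8 : ∀ K : Subgroup G, K.Normal → ¬ 7 ∣ Nat.card K → K = ⊥ := by
    intro K hK h7
    haveI := hK
    have hfree := h.seven_free (by rw [hG]) (by rw [hG]; norm_num) K h7
    rcases hfree with e | e | e
    · exact card_eq_one.1 e
    · exfalso
      set C := centralizer (K : Set G) with hCdef
      haveI : C.Normal := by rw [hCdef]; infer_instance
      have hC7 : ¬ 7 ∣ Nat.card C := by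
        intro hd
        obtain ⟨y, hy⟩ := exists_prime_orderOf_dvd_card' (G := C) 7 hd
        have hyo : orderOf (y : G) = 7 := by rw [Subgroup.orderOf_coe]; exact hy
        have hle : K ≤ centralizer ({(y : G)} : Set G) := fun k hk =>
          mem_centralizer_singleton_iff.2 (mem_centralizer_iff.1 y.2 k hk)
        have := card_dvd_of_le hle
        rw [e, h.cent7 (by rw [hG]) hyo] at this
        norm_num at this
      have hker : (MulAut.conjNormal (H := K) : G →* MulAut K).ker = C := by
        ext g
        rw [MonoidHom.mem_ker, hCdef, mem_centralizer_iff]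
        constructor
        · intro hg k hk
          have := congrArg Subtype.val (MulEquiv.congr_fun hg (⟨k, hk⟩ : K))
          rw [MulAut.conjNormal_apply, MulAut.one_apply] at this
          exact (mul_inv_eq_iff_eq_mul.1 this).symm
        · intro hg
          refine MulEquiv.ext fun k => Subtype.ext ?_
          rw [MulAut.conjNormal_apply, MulAut.one_apply, ← hg k k.2, mul_inv_cancel_right]
      let f : G →* Equiv.Perm K := (MulAut.toPerm (M := K)).comp (MulAut.conjNormal (H := K))
      have hfk : f.ker = C := by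
        rw [MonoidHom.ker_comp_of_injective]
        · exact hker
        · intro a b hab; exact MulEquiv.ext fun k => Equiv.congr_fun hab k
      have hdvd : C.index ∣ Nat.factorial 8 := by
        rw [← hfk, index_ker, ← e, ← Nat.card_perm]
        exact card_subgroup_dvd_card _
      have hmul := C.card_mul_index
      rcases h.seven_free (by rw [hG]) (by rw [hG]; norm_num) C hC7 with e' | e' | e' <;>
        rw [e', hG] at hmul
      · rw [show C.index = 12096 by omega] at hdvd; norm_num [Nat.factorial] at hdvd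
      · rw [show C.index = 1512 by omega] at hdvd; norm_num [Nat.factorial] at hdvd
      · rw [show C.index = 189 by omega] at hdvd; norm_num [Nat.factorial] at hdvd
    · exfalso
      set L := normalizer ((P : Subgroup G) : Set G)
      have hle : L ⊓ K ≤ K ⊓ centralizer ((P : Subgroup G) : Set G) := by
        rintro u ⟨hu, huK⟩
        refine ⟨huK, mem_centralizer_iff.2 fun y hy => ?_⟩
        have h1 : u * y * u⁻¹ * y⁻¹ ∈ (P : Subgroup G) :=
          mul_mem ((mem_normalizer_iff.1 hu y).1 hy) (inv_mem hy)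
        have h2 : u * y * u⁻¹ * y⁻¹ ∈ K := by
          rw [mul_assoc, mul_assoc]
          refine mul_mem huK ?_
          have := hK.conj_mem _ (inv_mem huK) y
          rwa [mul_assoc] at this
        have h3 : u * y * u⁻¹ * y⁻¹ = 1 := by
          have hd : orderOf (u * y * u⁻¹ * y⁻¹) ∣ Nat.gcd 7 64 :=
            Nat.dvd_gcd (hP ▸ orderOf_mk (u * y * u⁻¹ * y⁻¹) h1 ▸ orderOf_dvd_natCard _)
              (e ▸ orderOf_mk (u * y * u⁻¹ * y⁻¹) h2 ▸ orderOf_dvd_natCard _)
          exact orderOf_eq_one_iff.1 (Nat.dvd_one.1 hd)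
        exact (mul_inv_eq_iff_eq_mul.1 (mul_inv_eq_one.1 h3)).symm
      have hone : Nat.card ↥(L ⊓ K) = 1 := by
        refine Nat.eq_one_of_dvd_coprimes (show Nat.Coprime 64 7 by norm_num) ?_ ?_
        · exact e ▸ card_dvd_of_le inf_le_right
        · exact hC ▸ card_dvd_of_le (hle.trans inf_le_right)
      have hrel := Order2520.card_inf_mul K L
      rw [hone, one_mul, show Nat.card L = 42 by omega] at hrel
      have hd := relIndex_dvd_index_of_normal K L
      have hmul := K.card_mul_index
      rw [hrel] at hd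
      rw [e, hG] at hmul
      rw [show K.index = 189 by omega] at hd
      norm_num at hd
  by_cases hs : IsSimpleGroup G
  · exact Or.inl hs
  right
  obtain ⟨N, hN, hb, ht⟩ : ∃ N : Subgroup G, N.Normal ∧ N ≠ ⊥ ∧ N ≠ ⊤ := by
    by_contra hcon
    push Not at hcon
    exact hs ⟨fun N hN => or_iff_not_imp_left.2 fun h1 => hcon N hN h1⟩
  haveI := hN
  have h7 : 7 ∣ Nat.card N := by
    by_contra h7
    exact hb (h8 N hN h7)
  rcases h.normal_card (Or.inl hG) N h7 with e | e | e | e
  · exact ((h.subgroup N).no_2016 e).elim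
  · exfalso
    haveI := h.simple hG h8 N (Or.inl e)
    have := Cfsg.Agent.S0983.result (G := N) (Basic.not_comm_of_not_prime (by rw [e]; norm_num))
      (by omega) (by omega)
    omega
  · haveI := h.simple hG h8 N (Or.inr e)
    refine ⟨N, hN, inferInstance, e, ?_⟩
    refine h8 _ inferInstance fun h7 => ?_
    obtain ⟨y, hy⟩ := exists_prime_orderOf_dvd_card' (G := centralizer (N : Set G)) 7 h7
    have hle : N ≤ centralizer ({(y : G)} : Set G) := fun k hk =>
      mem_centralizer_singleton_iff.2 (mem_centralizer_iff.1 y.2 k hk)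
    have := card_dvd_of_le hle
    rw [e, h.cent7 (by rw [hG]) (by rw [Subgroup.orderOf_coe]; exact hy)] at this
    norm_num at this
  · exact absurd (eq_top_of_card_eq N (e.trans hG.symm)) ht

end Cfsg.Agent.SmallSimple.Order6048
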