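import Cfsg.Agent.Lib.SmallSimple.Order6048.Pairs
import Cfsg.Agent.Lib.SmallSimple.Order6048.Local

/-!
# The principal block at seven of a simple group of order 6048
-/

set_option autoImplicit false
set_option linter.style.haveILetI false
set_option maxRecDepth 100000

namespace Cfsg.Agent.SmallSimple.Order6048

open Subgroup Cfsg.Agent.Characters Cfsg.Agent.Blocks Cfsg.Agent.PrimeBlock
open scoped ComplexConjugate

universe u

/-- The signed degrees of the two characters beside the trivial one, and the exceptional degree. -/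
theorem degree_spec : ∀ a ∈ ([(-48 : ℤ), -27, -6, 8, 36]), ∀ b ∈ ([(-48 : ℤ), -27, -6, 8, 36]),
    ∀ c ∈ ([(-32 : ℤ), -18, -4, 3, 24]), 1 + (a + b) = c →
      (a = 8 ∧ b = -6 ∨ a = -6 ∧ b = 8) ∧ c = 3 ∨ (a = 8 ∧ b = -27 ∨ a = -27 ∧ b = 8) ∧ c = -18 ∨
      (a = -6 ∧ b = -27 ∨ a = -27 ∧ b = -6) ∧ c = -32 := by decide +kernel

theorem signed_spec : ∀ d ∈ List.range 78, d ∣ 864 → 1 < d → ∀ s ∈ [(1 : ℤ), -1],
    (7 : ℤ) ∣ s - (d : ℤ) → (s * d) ∈ [(-48 : ℤ), -27, -6, 8, 36] := by decide +kernel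

theorem signed_spec' : ∀ d ∈ List.range 78, d ∣ 864 → ∀ s ∈ [(1 : ℤ), -1],
    (7 : ℤ) ∣ s * 3 - (d : ℤ) → (s * d) ∈ [(-32 : ℤ), -18, -4, 3, 24] := by decide +kernel

theorem no_involution_case : ∀ a ∈ [(-4 : ℤ), 0, 4], ∀ b ∈ [(-25 : ℤ), -21, -17, -13, -9, -5, -1, 3, 7, 11, 15, 19, 23],
    216 + 27 * a ^ 2 - 8 * b ^ 2 + 12 * (b - a - 1) ^ 2 ≠ 0 := by decide +kernel

variable {G : Type u} [Group G] [Finite G]

/-- The principal block at seven. -/
structure Block (G : Type u) [Group G] [Finite G] where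
  ca : Cfsg.IrrCharacter G
  cb : Cfsg.IrrCharacter G
  th : Cfsg.IrrCharacter G
  th' : Cfsg.IrrCharacter G
  deg_a : (ca : G → ℂ) 1 = 6
  deg_b : (cb : G → ℂ) 1 = 27
  deg_th : (th : G → ℂ) 1 = 32
  deg_th' : (th' : G → ℂ) 1 = 32
  ne : th ≠ th'
  int_a : ∀ g, ∃ k : ℤ, (ca : G → ℂ) g = (k : ℂ)
  int_b : ∀ g, ∃ k : ℤ, (cb : G → ℂ) g = (k : ℂ)
  rel : ∀ g : G, ¬ 7 ∣ orderOf g → (th : G → ℂ) g = (ca : G → ℂ) g + (cb : G → ℂ) g - 1
  rel' : ∀ g : G, ¬ 7 ∣ orderOf g → (th' : G → ℂ) g = (ca : G → ℂ) g + (cb : G → ℂ) g - 1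
  x : G
  hx : orderOf x = 7
  eqn : ∀ u v : G, ¬ 7 ∣ orderOf u → ¬ 7 ∣ orderOf v →
    (ways u v x : ℂ) * (Nat.card (centralizer ({u} : Set G)) : ℂ) *
        (Nat.card (centralizer ({v} : Set G)) : ℂ) =
      7 * (864 - 144 * ((ca : G → ℂ) u * (ca : G → ℂ) v) - 32 * ((cb : G → ℂ) u * (cb : G → ℂ) v) +
        27 * ((th : G → ℂ) u * (th : G → ℂ) v))

theorem Gap.no_invert (hgap : Gap G) (hG : Nat.card G = 6048) {u x : G} (hx : orderOf x = 7)
    (hu : orderOf u = 2) (hux : u * x * u⁻¹ = x⁻¹) : False := by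
  haveI : Fact (Nat.Prime 7) := ⟨by norm_num⟩
  obtain ⟨Q, hxQ, hx1⟩ := Order2520.exists_sylow (fun R => (hgap.sylow7 (Or.inr (Or.inl hG)) R).1) hx
  obtain ⟨hQ, -, -, hN⟩ := hgap.sylow7 (Or.inr (Or.inl hG)) Q
  have huN : u ∈ normalizer ((Q : Subgroup G) : Set G) := by
    refine Sylow.smul_eq_iff_mem_normalizer.1 ?_
    refine Order2520.eq_of_fixed hQ (inv_mem hxQ) (inv_ne_one.2 hx1) ?_
    rw [← hux, mul_smul, mul_smul, inv_smul_smul,
      Sylow.smul_eq_iff_mem_normalizer.2 (le_normalizer hxQ)]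
  have hd := orderOf_dvd_natCard (⟨u, huN⟩ : normalizer ((Q : Subgroup G) : Set G))
  rw [Subgroup.orderOf_mk, hu] at hd
  omega

theorem orderOf_of_isConj {a b : G} (h : IsConj a b) : orderOf b = orderOf a := by
  obtain ⟨g, rfl⟩ := isConj_iff.1 h
  exact (MulAut.conj g).orderOf_eq a

/-- No two involutions have a product of order seven. -/
theorem Gap.ways_invol (hgap : Gap G) (hG : Nat.card G = 6048) {u v x : G} (hx : orderOf x = 7)
    (hu : orderOf u = 2) (hv : orderOf v = 2) : ways u v x = 0 := by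
  rw [ways, Nat.card_eq_zero]
  refine Or.inl ⟨fun q => ?_⟩
  obtain ⟨⟨a, b⟩, ha, hb, hab⟩ := q
  have ha2 : orderOf a = 2 := by rw [orderOf_of_isConj ha, hu]
  have hb2 : orderOf b = 2 := by rw [orderOf_of_isConj hb, hv]
  have ha' : a⁻¹ = a := inv_eq_of_mul_eq_one_right (by rw [← pow_two, ← ha2, pow_orderOf_eq_one])
  have hb' : b⁻¹ = b := inv_eq_of_mul_eq_one_right (by rw [← pow_two, ← hb2, pow_orderOf_eq_one])
  refine hgap.no_invert hG hx ha2 ?_
  have hab' : a * b = x := hab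
  rw [← hab', mul_inv_rev, hb', ha', ← mul_assoc, show a * a = 1 by rw [← pow_two, ← ha2, pow_orderOf_eq_one],
    one_mul]

theorem exists_block [IsSimpleGroup G] (hG : Nat.card G = 6048) (hgap : Gap G) : Nonempty (Block G) := by
  classical
  haveI : Fact (Nat.Prime 7) := ⟨by norm_num⟩
  haveI : Fact (Nat.Prime 2) := ⟨Nat.prime_two⟩
  haveI : Fact (Nat.Prime 3) := ⟨Nat.prime_three⟩
  have hnc : ¬ IsMulCommutative G := Basic.not_comm_of_not_prime (by rw [hG]; norm_num)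
  obtain ⟨P⟩ : Nonempty (Sylow 7 G) := inferInstance
  obtain ⟨hP, hC, -, hN⟩ := hgap.sylow7 (Or.inr (Or.inl hG)) P
  obtain ⟨D, ht, hts⟩ := exists_pblock' hnc (by norm_num) P hP
  have he : D.e = 3 := by
    have h := relIndex_mul_relIndex ⊥ (centralizer ((P : Subgroup G) : Set G))
      (normalizer ((P : Subgroup G) : Set G)) bot_le (centralizer_le_normalizer _)
    rw [relIndex_bot_left, relIndex_bot_left, D.he, hC] at h
    omega
  obtain ⟨χ, ψ, hχψ, hX'⟩ := Finset.card_eq_two.1 (show (D.X.erase (trivIrr G)).card = 2 by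
    rw [Finset.card_erase_of_mem ht, D.card_X, he])
  have hX : D.X = insert (trivIrr G) {χ, ψ} := by rw [← hX', Finset.insert_erase ht]
  obtain ⟨θ, θ', hθθ, hY⟩ := Finset.card_eq_two.1 (show D.Y.card = 2 by rw [D.card_Y, he])
  have hθ : θ ∈ D.Y := by rw [hY]; simp
  have hθ' : θ' ∈ D.Y := by rw [hY]; simp
  have hmχ : χ ∈ D.X.erase (trivIrr G) := by rw [hX']; simp
  have hmψ : ψ ∈ D.X.erase (trivIrr G) := by rw [hX']; simp
  obtain ⟨hχ1, hχX⟩ := Finset.mem_erase.1 hmχ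
  obtain ⟨hψ1, hψX⟩ := Finset.mem_erase.1 hmψ
  have hθ1 : θ ≠ trivIrr G := fun e => Finset.disjoint_left.1 D.disj ht (e ▸ hθ)
  have hdiv : ∀ ξ : Cfsg.IrrCharacter G, ξ ∈ Cfsg.principalBlock D.M G → deg ξ ∣ 864 := by
    intro ξ hξ
    have h1 : deg ξ ∣ 6048 := by
      obtain ⟨d, hd1, -, hd2⟩ := irr_degree_dvd_card ξ.2
      have : deg ξ = d := by
        have := deg_cast ξ
        rw [hd1] at this
        exact_mod_cast this
      exact hG ▸ this ▸ hd2
    exact ((Nat.Prime.coprime_iff_not_dvd (by norm_num)).2 (D.not_dvd_deg hξ)).symm.dvd_of_dvd_mul_left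
      (show deg ξ ∣ 7 * 864 from h1)
  have hlt : ∀ ξ : Cfsg.IrrCharacter G, ξ ≠ trivIrr G → deg ξ ∈ List.range 78 := by
    intro ξ hξ
    have h1 := deg_sq_lt (G := G) hξ
    rw [hG] at h1
    rw [List.mem_range]
    nlinarith
  have hs : ∀ ξ ∈ D.X, ξ ≠ trivIrr G → D.sgn ξ * (deg ξ : ℤ) ∈ [(-48 : ℤ), -27, -6, 8, 36] := by
    intro ξ hξ hξ1
    refine signed_spec _ (hlt ξ hξ1) (hdiv ξ ((D.mem_block ξ).2 (Or.inl hξ))) ?_ _
      (by rcases D.sgn_eq ξ hξ with e | e <;> simp [e]) (Int.modEq_iff_dvd.1 (D.deg_X ξ hξ))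
    have := deg_ne_one hnc hξ1
    have : 0 < deg ξ := charDegree_pos ξ
    omega
  have hs' : D.ε * (deg θ : ℤ) ∈ [(-32 : ℤ), -18, -4, 3, 24] := by
    refine signed_spec' _ (hlt θ hθ1) (hdiv θ ((D.mem_block θ).2 (Or.inr hθ))) _
      (by rcases D.ε_eq with e | e <;> simp [e]) ?_
    have := Int.modEq_iff_dvd.1 (D.deg_Y θ hθ)
    rwa [he] at this
  have hrel : ∀ g : G, ¬ 7 ∣ orderOf g → (D.ε : ℂ) * (θ : G → ℂ) g =
      1 + ((D.sgn χ : ℂ) * (χ : G → ℂ) g + (D.sgn ψ : ℂ) * (ψ : G → ℂ) g) := fun g hg => by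
    rw [D.rel θ hθ g hg, hX, Finset.sum_insert (by simp [hχ1.symm, hψ1.symm]), Finset.sum_pair hχψ, hts]
    simp
  have hrel1 : 1 + (D.sgn χ * (deg χ : ℤ) + D.sgn ψ * (deg ψ : ℤ)) = D.ε * (deg θ : ℤ) := by
    rw [D.rel_one hθ, hX, Finset.sum_insert (by simp [hχ1.symm, hψ1.symm]), Finset.sum_pair hχψ, hts,
      deg_trivIrr]
    simp
  -- name the characters by their degrees
  obtain ⟨A, B, hA1, hB1, hAB, hXAB, hcase⟩ : ∃ A B : Cfsg.IrrCharacter G,
      A ≠ trivIrr G ∧ B ≠ trivIrr G ∧ A ≠ B ∧ D.X = insert (trivIrr G) {A, B} ∧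
      (D.sgn A * (deg A : ℤ) = 8 ∧ D.sgn B * (deg B : ℤ) = -6 ∧ D.ε * (deg θ : ℤ) = 3 ∨
       D.sgn A * (deg A : ℤ) = 8 ∧ D.sgn B * (deg B : ℤ) = -27 ∧ D.ε * (deg θ : ℤ) = -18 ∨
       D.sgn A * (deg A : ℤ) = -6 ∧ D.sgn B * (deg B : ℤ) = -27 ∧ D.ε * (deg θ : ℤ) = -32) := by
    rcases degree_spec _ (hs χ hχX hχ1) _ (hs ψ hψX hψ1) _ hs' hrel1 with
      ⟨⟨a, b⟩ | ⟨a, b⟩, c⟩ | ⟨⟨a, b⟩ | ⟨a, b⟩, c⟩ | ⟨⟨a, b⟩ | ⟨a, b⟩, c⟩
    · exact ⟨χ, ψ, hχ1, hψ1, hχψ, hX, Or.inl ⟨a, b, c⟩⟩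
    · exact ⟨ψ, χ, hψ1, hχ1, hχψ.symm, by rw [hX, Finset.pair_comm], Or.inl ⟨b, a, c⟩⟩
    · exact ⟨χ, ψ, hχ1, hψ1, hχψ, hX, Or.inr (Or.inl ⟨a, b, c⟩)⟩
    · exact ⟨ψ, χ, hψ1, hχ1, hχψ.symm, by rw [hX, Finset.pair_comm], Or.inr (Or.inl ⟨b, a, c⟩)⟩
    · exact ⟨χ, ψ, hχ1, hψ1, hχψ, hX, Or.inr (Or.inr ⟨a, b, c⟩)⟩
    · exact ⟨ψ, χ, hψ1, hχ1, hχψ.symm, by rw [hX, Finset.pair_comm], Or.inr (Or.inr ⟨b, a, c⟩)⟩
  have hmA : A ∈ D.X := by rw [hXAB]; simp
  have hmB : B ∈ D.X := by rw [hXAB]; simp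
  have hsplit : ∀ {s : ℤ} {d : ℕ} {z : ℤ}, (s = 1 ∨ s = -1) → s * (d : ℤ) = z →
      (0 < z → s = 1 ∧ d = z.natAbs) ∧ (z < 0 → s = -1 ∧ d = z.natAbs) := by
    rintro s d z (rfl | rfl) rfl <;> refine ⟨fun h => ?_, fun h => ?_⟩ <;> omega
  have hsum : ∀ F : Cfsg.IrrCharacter G → ℂ, ∑ ξ ∈ D.X, F ξ = F (trivIrr G) + (F A + F B) := fun F => by
    rw [hXAB, Finset.sum_insert (by simp [hA1.symm, hB1.symm]), Finset.sum_pair hAB]
  have hrelAB : ∀ g : G, ¬ 7 ∣ orderOf g → (D.ε : ℂ) * (θ : G → ℂ) g =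
      1 + ((D.sgn A : ℂ) * (A : G → ℂ) g + (D.sgn B : ℂ) * (B : G → ℂ) g) := fun g hg => by
    rw [D.rel θ hθ g hg, hsum, hts]
    simp
  obtain ⟨x, hx, hx1, hxo⟩ := Order2520.exists_gen hP
  have h1 : ∀ g : G, (trivIrr G : G → ℂ) g = 1 := fun g => by simp
  rcases hcase with ⟨eA, eB, eθ⟩ | ⟨eA, eB, eθ⟩ | ⟨eA, eB, eθ⟩
  · -- no character of degree three on a Sylow subgroup of order 27
    exfalso
    obtain ⟨sA, dA⟩ := (hsplit (D.sgn_eq A hmA) eA).1 (by norm_num)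
    obtain ⟨sB, dB⟩ := (hsplit (D.sgn_eq B hmB) eB).2 (by norm_num)
    obtain ⟨sθ, dθ⟩ := (hsplit D.ε_eq eθ).1 (by norm_num)
    norm_num at dA dB dθ
    have huA : ∀ ξ ∈ Cfsg.principalBlock D.M G, deg ξ = deg A → ξ = A := by
      intro ξ hξ hd
      rcases (D.mem_block ξ).1 hξ with h | h
      · rw [hXAB, Finset.mem_insert, Finset.mem_insert, Finset.mem_singleton] at h
        rcases h with rfl | rfl | rfl
        · rw [deg_trivIrr] at hd; omega
        · rfl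
        · omega
      · have := D.deg_Y_eq h hθ; omega
    have huB : ∀ ξ ∈ Cfsg.principalBlock D.M G, deg ξ = deg B → ξ = B := by
      intro ξ hξ hd
      rcases (D.mem_block ξ).1 hξ with h | h
      · rw [hXAB, Finset.mem_insert, Finset.mem_insert, Finset.mem_singleton] at h
        rcases h with rfl | rfl | rfl
        · rw [deg_trivIrr] at hd; omega
        · omega
        · rfl
      · have := D.deg_Y_eq h hθ; omega
    obtain ⟨T⟩ : Nonempty (Sylow 3 G) := inferInstance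
    have hT : Nat.card (T : Subgroup G) = 27 :=
      Basic.card_sylow_eq_pow (a := 3) (m := 224) (by rw [hG]; norm_num) (by norm_num) T
    haveI := Fintype.ofFinite (T : Subgroup G)
    obtain ⟨k, hk⟩ := sum_subgroup_eq θ (T : Subgroup G)
    rw [Finset.sum_eq_single (1 : (T : Subgroup G))] at hk
    · rw [OneMemClass.coe_one, ← deg_cast, dθ, hT] at hk
      have : ((3 : ℕ) : ℂ) = ((27 * k : ℕ) : ℂ) := by push_cast; exact hk
      have := Nat.cast_injective this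
      omega
    · intro g _ hg
      have hg1 : (g : G) ≠ 1 := fun e => hg (Subtype.ext e)
      have hd := orderOf_dvd_natCard g
      rw [hT, ← Subgroup.orderOf_coe] at hd
      obtain ⟨i, hi, hio⟩ := (Nat.dvd_prime_pow Nat.prime_three).1 (show orderOf (g : G) ∣ 3 ^ 3 from hd)
      have hi1 : i = 1 := by
        interval_cases i
        · exact absurd (orderOf_eq_one_iff.1 (by simpa using hio)) hg1
        · rfl
        · exact absurd hio (by simpa using (hgap (g : G)).1)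
        · have h9 := (hgap ((g : G) ^ 3)).1
          rw [orderOf_pow_of_dvd (by norm_num) (by rw [hio]; norm_num), hio] at h9
          norm_num at h9
      subst hi1
      have hg7 : ¬ 7 ∣ orderOf (g : G) := by rw [hio]; norm_num
      obtain ⟨a, ha⟩ := D.int_of_unique hC ((D.mem_block A).2 (Or.inl hmA)) (D.not_dvd_deg ((D.mem_block A).2 (Or.inl hmA))) huA (g : G)
      obtain ⟨b, hb⟩ := D.int_of_unique hC ((D.mem_block B).2 (Or.inl hmB)) (D.not_dvd_deg ((D.mem_block B).2 (Or.inl hmB))) huB (g : G)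
      have hv : (θ : G → ℂ) (g : G) = ((1 + a - b : ℤ) : ℂ) := by
        have := hrelAB (g : G) hg7
        rw [sA, sB, sθ, ha, hb] at this
        push_cast at this ⊢
        linear_combination this
      have hm := value_mem hnc Nat.prime_three hθ1 hg1 (k := 1) hio hv
      rw [dθ, Finset.mem_filter, Finset.mem_Ioo] at hm
      push_cast at hm
      have : (1 + a - b : ℤ) = 0 := by omega
      rw [hv, this, Int.cast_zero]
    · simp
  · -- no values at an involution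
    exfalso
    obtain ⟨sA, dA⟩ := (hsplit (D.sgn_eq A hmA) eA).1 (by norm_num)
    obtain ⟨sB, dB⟩ := (hsplit (D.sgn_eq B hmB) eB).2 (by norm_num)
    obtain ⟨sθ, dθ⟩ := (hsplit D.ε_eq eθ).2 (by norm_num)
    norm_num at dA dB dθ
    obtain ⟨t, hto⟩ := exists_prime_orderOf_dvd_card' (G := G) 2 (by rw [hG]; norm_num)
    have ht7 : ¬ 7 ∣ orderOf t := by rw [hto]; norm_num
    obtain ⟨a, ha, ha4, halt⟩ := involution_value hnc hA1 hto
    obtain ⟨b, hb, hb4, hblt⟩ := involution_value hnc hB1 hto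
    rw [dA] at ha4 halt
    rw [dB] at hb4 hblt
    have hθt : (θ : G → ℂ) t = ((b - a - 1 : ℤ) : ℂ) := by
      have := hrelAB t ht7
      rw [sA, sB, sθ, ha, hb] at this
      push_cast at this ⊢
      linear_combination -this
    have h := ways_eq D hC hθ hx hx1 ht7 ht7
    rw [hgap.ways_invol hG hxo hto hto, hsum, hts, sA, sB, sθ, ha, hb, hθt, dA, dB, dθ, deg_trivIrr, hG, h1] at h
    have hz : ((216 + 27 * a ^ 2 - 8 * b ^ 2 + 12 * (b - a - 1) ^ 2 : ℤ) : ℂ) = 0 := by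
      push_cast at h ⊢
      linear_combination (-(1 : ℂ) / 28) * h
    rw [abs_lt] at halt hblt
    push_cast at ha4 hb4 halt hblt
    refine no_involution_case a ?_ b ?_ (by exact_mod_cast hz)
    · simp only [List.mem_cons, List.not_mem_nil, or_false]; omega
    · simp only [List.mem_cons, List.not_mem_nil, or_false]; omega
  · obtain ⟨sA, dA⟩ := (hsplit (D.sgn_eq A hmA) eA).2 (by norm_num)
    obtain ⟨sB, dB⟩ := (hsplit (D.sgn_eq B hmB) eB).2 (by norm_num)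
    obtain ⟨sθ, dθ⟩ := (hsplit D.ε_eq eθ).2 (by norm_num)
    norm_num at dA dB dθ
    have huA : ∀ ξ ∈ Cfsg.principalBlock D.M G, deg ξ = deg A → ξ = A := by
      intro ξ hξ hd
      rcases (D.mem_block ξ).1 hξ with h | h
      · rw [hXAB, Finset.mem_insert, Finset.mem_insert, Finset.mem_singleton] at h
        rcases h with rfl | rfl | rfl
        · rw [deg_trivIrr] at hd; omega
        · rfl
        · omega
      · have := D.deg_Y_eq h hθ; omega
    have huB : ∀ ξ ∈ Cfsg.principalBlock D.M G, deg ξ = deg B → ξ = B := by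
      intro ξ hξ hd
      rcases (D.mem_block ξ).1 hξ with h | h
      · rw [hXAB, Finset.mem_insert, Finset.mem_insert, Finset.mem_singleton] at h
        rcases h with rfl | rfl | rfl
        · rw [deg_trivIrr] at hd; omega
        · omega
        · rfl
      · have := D.deg_Y_eq h hθ; omega
    have hr : ∀ g : G, ¬ 7 ∣ orderOf g → (θ : G → ℂ) g = (A : G → ℂ) g + (B : G → ℂ) g - 1 := fun g hg => by
      have := hrelAB g hg
      rw [sA, sB, sθ] at this
      push_cast at this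
      linear_combination -this
    refine ⟨{ ca := A, cb := B, th := θ, th' := θ'
              deg_a := by rw [← deg_cast, dA]; norm_num
              deg_b := by rw [← deg_cast, dB]; norm_num
              deg_th := by rw [← deg_cast, dθ]; norm_num
              deg_th' := by rw [← deg_cast, D.deg_Y_eq hθ' hθ, dθ]; norm_num
              ne := hθθ
              int_a := D.int_of_unique hC ((D.mem_block A).2 (Or.inl hmA)) (D.not_dvd_deg ((D.mem_block A).2 (Or.inl hmA))) huA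
              int_b := D.int_of_unique hC ((D.mem_block B).2 (Or.inl hmB)) (D.not_dvd_deg ((D.mem_block B).2 (Or.inl hmB))) huB
              rel := hr
              rel' := fun g hg => (D.same θ' hθ' θ hθ g hg).trans (hr g hg)
              x := x
              hx := hxo
              eqn := fun u v hu hv => ?_ }⟩
    rw [ways_eq D hC hθ hx hx1 hu hv, hsum, hts, sA, sB, sθ, dA, dB, dθ, deg_trivIrr, hG, h1, h1]
    push_cast
    ring

end Cfsg.Agent.SmallSimple.Order6048
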