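import Cfsg.Agent.Lib.SmallSimple.Order6048.Model

/-!
# Change of coordinates
-/

set_option autoImplicit false
set_option maxRecDepth 100000

namespace Cfsg.Agent.SmallSimple.Order6048.Model

/-- A power of a code. -/
def powN (n : ℕ) : ℕ → ℕ
  | 0 => 0
  | k + 1 => mulN (powN n k) n

/-- The exponent of the centre in a code. -/
def cexp (n : ℕ) : ℕ := (n % 3 + 2 * (n / 9 * (n / 3 % 3))) % 3

/-- The automorphism sending `v` to `u` and `u` to `u ^ i v k ^ l`. -/
def hgen (i l n : ℕ) : ℕ :=
  mulN (mulN (powN (mulN (mulN (9 * i) 3) l) (n / 9)) (powN 9 (n / 3 % 3))) (powN 1 (2 * cexp n))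

/-- The endomorphism with given images of `u` and `v`. -/
def theta (U V n : ℕ) : ℕ :=
  mulN (mulN (powN U (n / 9)) (powN V (n / 3 % 3))) (powN (mulN (invN (mulN V U)) (mulN U V)) (cexp n))

/-- Iteration. -/
def iterN (f : ℕ → ℕ) : ℕ → ℕ → ℕ
  | 0, n => n
  | k + 1, n => f (iterN f k n)

/-- A good change of coordinates. -/
def goodChange (i l e V : ℕ) : Bool :=
  ((List.range 27).all fun n => theta (iterN (hgen i l) e V) V n < 27) &&
    ((List.range 27).all fun n => (List.range 27).all fun m =>
      theta (iterN (hgen i l) e V) V (mulN n m) ==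
        mulN (theta (iterN (hgen i l) e V) V n) (theta (iterN (hgen i l) e V) V m)) &&
    ((List.range 27).all fun n => (List.range 27).all fun m =>
      n == m || theta (iterN (hgen i l) e V) V n != theta (iterN (hgen i l) e V) V m) &&
    (List.range 27).all fun n =>
      theta (iterN (hgen i l) e V) V (hN n) == iterN (hgen i l) e (theta (iterN (hgen i l) e V) V n)

theorem change_spec : ∀ i ∈ [1, 2], ∀ l ∈ List.range 3,
    ∃ e ∈ [1, 5], ∃ V ∈ [3, 4, 5], goodChange i l e V = true := by decide +kernel

theorem code_spec : ∀ n ∈ List.range 27,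
    mulN (mulN (powN 9 (n / 9)) (powN 3 (n / 3 % 3))) (powN 1 (cexp n)) = n := by decide +kernel

theorem iter_hpow : ∀ k ∈ List.range 9, ∀ n ∈ List.range 27, hpow k n = iterN hN k n := by decide +kernel

end Cfsg.Agent.SmallSimple.Order6048.Model
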