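import Cfsg.Agent.Lib.SmallSimple.Order6048.Group
import Cfsg.Agent.Lib.SmallSimple.Order6048.Coord

/-!
# Coordinates on a two-point stabiliser
-/

set_option autoImplicit false
set_option linter.style.haveILetI false
set_option linter.unusedSectionVars false
set_option maxRecDepth 100000

namespace Cfsg.Agent.SmallSimple.Order6048

open Subgroup Cfsg.Agent.SmallSimple.Order6048.Model

universe u

variable {G : Type u} [Group G] [Finite G]

theorem exponent_spec : ∀ n ∈ List.range 27, ∀ m ∈ List.range 27,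
    (mulN n m / 9) % 3 = (n / 9 + m / 9) % 3 ∧ (mulN n m / 3 % 3) % 3 = (n / 3 % 3 + m / 3 % 3) % 3 ∧
      cexp (mulN n m) % 3 = (2 * (m / 9 * (n / 3 % 3)) + cexp n + cexp m) % 3 := by decide +kernel

theorem gen_code_spec : ∀ i ∈ List.range 3, ∀ l ∈ List.range 3,
    mulN (9 * i) 3 < 27 ∧ mulN (mulN (9 * i) 3) l < 27 ∧
      (9 * i) / 9 = i ∧ (9 * i) / 3 % 3 = 0 ∧ cexp (9 * i) = 0 ∧ l / 9 = 0 ∧ l / 3 % 3 = 0 ∧ cexp l = l := by
  decide +kernel

variable [Fact (Nat.Prime 3)]

/-- Coordinates on a Sylow subgroup `T` at three and an element of order eight fixing a second point. -/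
structure Frame (G : Type u) [Group G] [Finite G] [Fact (Nat.Prime 3)] where
  T : Sylow 3 G
  Q : Sylow 3 G
  ne : Q ≠ T
  h : G
  h_order : orderOf h = 8
  h_fix : h • T = T ∧ h • Q = Q
  φ : ℕ → G
  φ_mem : ∀ n < 27, φ n ∈ (T : Subgroup G)
  φ_inj : ∀ n < 27, ∀ m < 27, φ n = φ m → n = m
  φ_surj : ∀ y ∈ (T : Subgroup G), ∃ n < 27, φ n = y
  φ_mul : ∀ n < 27, ∀ m < 27, φ (mulN n m) = φ n * φ m
  φ_conj : ∀ n < 27, h * φ n * h⁻¹ = φ (hN n)
  stab : ∀ g : G, g • T = T → g • Q = Q → g ∈ zpowers h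

theorem hgen_lt (i l : ℕ) (hi : i < 3) (hl : l < 3) : ∀ n < 27, hgen i l n < 27 := by
  have key : ∀ i ∈ List.range 3, ∀ l ∈ List.range 3, ∀ n ∈ List.range 27, hgen i l n < 27 := by decide +kernel
  exact fun n hn => key i (List.mem_range.2 hi) l (List.mem_range.2 hl) n (List.mem_range.2 hn)

theorem powN_lt {n : ℕ} (hn : n < 27) : ∀ k, powN n k < 27
  | 0 => by norm_num [powN]
  | k + 1 => (closed_spec _ (List.mem_range.2 (powN_lt hn k)) n (List.mem_range.2 hn)).1

theorem mulN_lt {n m : ℕ} (hn : n < 27) (hm : m < 27) : mulN n m < 27 :=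
  (closed_spec n (List.mem_range.2 hn) m (List.mem_range.2 hm)).1

/-- The frame. -/
theorem exists_frame [IsSimpleGroup G] (B : Block G) (hG : Nat.card G = 6048) (hgap : Gap G) :
    Nonempty (Frame G) := by
  classical
  obtain ⟨T0⟩ : Nonempty (Sylow 3 G) := inferInstance
  obtain ⟨K, hK⟩ := exists_point B hG hgap T0
  obtain ⟨h28, hNT, hreg⟩ := regular_others B hG hgap K.T
  obtain ⟨Q, hQ⟩ : ∃ Q : Sylow 3 G, Q ≠ K.T := by
    haveI := Finite.one_lt_card_iff_nontrivial.1 (show 1 < Nat.card (Sylow 3 G) by omega)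
    exact exists_ne K.T
  set M := normalizer ((K.T : Subgroup G) : Set G) with hM
  set H := M ⊓ normalizer ((Q : Subgroup G) : Set G) with hHdef
  have hH : Nat.card H = 8 := by
    let f : ↥(K.T : Subgroup G) × ↥H → ↥M := fun q => ⟨(q.1 : G) * q.2, mul_mem (le_normalizer q.1.2) q.2.2.1⟩
    have hinj : Function.Injective f := by
      rintro ⟨p, x⟩ ⟨p', x'⟩ hpx
      have he : (p : G) * x = (p' : G) * x' := congrArg Subtype.val hpx
      have hm : (p' : G)⁻¹ * p = (x' : G) * (x : G)⁻¹ := by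
        rw [inv_mul_eq_iff_eq_mul, ← mul_assoc, ← he, mul_inv_cancel_right]
      have hp : p = p' := by
        by_contra hne
        refine hQ (fixed_sylow B hG hgap (T := K.T) (g := (p' : G)⁻¹ * p) (mul_mem (inv_mem p'.2) p.2)
          (fun e => hne (Subtype.ext (inv_mul_eq_one.1 e).symm)) ?_)
        rw [hm]
        exact Sylow.smul_eq_iff_mem_normalizer.2 (mul_mem x'.2.2 (inv_mem x.2.2))
      subst hp
      exact Prod.ext rfl (Subtype.ext (mul_left_cancel he))
    have hsurj : Function.Surjective f := by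
      rintro ⟨g, hg⟩
      obtain ⟨p, hp, hpQ⟩ := hreg Q (g • Q) hQ fun e => hQ ((smul_left_cancel_iff g).1
        (e.trans (Sylow.smul_eq_iff_mem_normalizer.2 hg).symm))
      refine ⟨(⟨p, hp⟩, ⟨p⁻¹ * g, M.mul_mem (M.inv_mem (le_normalizer hp)) hg,
        Sylow.smul_eq_iff_mem_normalizer.1 ?_⟩), Subtype.ext ?_⟩
      · rw [mul_smul, ← hpQ, inv_smul_smul]
      · show p * (p⁻¹ * g) = g
        rw [mul_inv_cancel_left]
    have h1 := Nat.card_eq_of_bijective f ⟨hinj, hsurj⟩
    rw [Nat.card_prod, K.card_T, hNT] at h1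
    omega
  obtain ⟨h, hhH, hh8, hinv, hgen'⟩ := K.exists_eight H hH inf_le_left
  have hN : h ∈ M := hhH.1
  obtain ⟨v, hv, hvz⟩ := K.exists_outside
  set u := h * v * h⁻¹ with hu'
  have hu : u ∈ (K.T : Subgroup G) := (mem_normalizer_iff.1 hN v).1 hv
  obtain ⟨k, hk, huv⟩ := K.comm_mod hu hv
  have hncomm := K.not_commute_image (Or.inr hh8) hN hv hvz
  have hk1 : k ≠ 1 := fun e => hncomm (by
    show v * u = u * v
    rw [huv, e, mul_one])
  have hkT := K.z_mem hk
  have hk3 : orderOf k = 3 := orderOf_eq_prime (K.cube k hkT) hk1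
  have hkc : ∀ {x : G}, x ∈ (K.T : Subgroup G) → Commute x k := fun hx => K.comm_z hk hx
  have hmod : ∀ {x : G}, x ∈ (K.T : Subgroup G) → ∀ {a b : ℕ}, a % 3 = b % 3 → x ^ a = x ^ b :=
    fun {x} hx {a b} hab => by rw [pow_eq_pow_mod a (K.cube x hx), pow_eq_pow_mod b (K.cube x hx), hab]
  have hvu : v * u = u * v * k ^ 2 := by
    rw [huv, mul_assoc, ← pow_succ', K.cube k hkT, mul_one]
  have hva : ∀ a : ℕ, v * u ^ a = u ^ a * v * k ^ (2 * a) := by
    intro a
    induction a with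
    | zero => simp
    | succ a ih =>
      rw [pow_succ, ← mul_assoc, ih, mul_assoc (u ^ a * v), ← ((hkc hu).pow_right (2 * a)).eq, ← mul_assoc,
        mul_assoc (u ^ a) v, hvu]
      group
  have hba : ∀ b a : ℕ, v ^ b * u ^ a = u ^ a * v ^ b * k ^ (2 * (a * b)) := by
    intro b a
    induction b with
    | zero => simp
    | succ b ih =>
      rw [pow_succ' v b, mul_assoc v, ih, ← mul_assoc, ← mul_assoc, hva, mul_assoc (u ^ a * v),
        ← (((hkc hv).pow_left b).pow_right (2 * a)).eq]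
      simp only [mul_assoc, ← pow_add]
      rw [show 2 * a + 2 * (a * b) = 2 * (a * (b + 1)) by ring]
  let φ : ℕ → G := fun n => u ^ (n / 9) * v ^ (n / 3 % 3) * k ^ cexp n
  have hφmem : ∀ n, φ n ∈ (K.T : Subgroup G) := fun n =>
    mul_mem (mul_mem (pow_mem hu _) (pow_mem hv _)) (pow_mem hkT _)
  have hφmul : ∀ n < 27, ∀ m < 27, φ (mulN n m) = φ n * φ m := by
    intro n hn m hm
    obtain ⟨ea, eb, ec⟩ := exponent_spec n (List.mem_range.2 hn) m (List.mem_range.2 hm)
    show u ^ (mulN n m / 9) * v ^ (mulN n m / 3 % 3) * k ^ cexp (mulN n m) = _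
    rw [hmod hu ea, hmod hv eb, hmod hkT ec]
    show _ = u ^ (n / 9) * v ^ (n / 3 % 3) * k ^ cexp n * (u ^ (m / 9) * v ^ (m / 3 % 3) * k ^ cexp m)
    set a := n / 9
    set b := n / 3 % 3
    set a' := m / 9
    set b' := m / 3 % 3
    set c := cexp n
    set c' := cexp m
    symm
    calc u ^ a * v ^ b * k ^ c * (u ^ a' * v ^ b' * k ^ c')
        = u ^ a * v ^ b * ((k ^ c * u ^ a') * v ^ b' * k ^ c') := by group
      _ = u ^ a * (v ^ b * u ^ a') * (k ^ c * v ^ b') * k ^ c' := by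
          rw [← ((hkc (pow_mem hu a')).pow_right c).eq]; group
      _ = u ^ a * u ^ a' * v ^ b * (k ^ (2 * (a' * b)) * v ^ b') * (k ^ c * k ^ c') := by
          rw [hba, ← ((hkc (pow_mem hv b')).pow_right c).eq]; group
      _ = u ^ (a + a') * v ^ (b + b') * k ^ (2 * (a' * b) + c + c') := by
          rw [← ((hkc (pow_mem hv b')).pow_right _).eq, pow_add, pow_add, pow_add, pow_add]; group
  have hφ0 : φ 0 = 1 := by simp [φ, cexp]
  have hk2' : ∀ {a b : ℕ}, k ^ a = k ^ b → a % 3 = b % 3 := fun {a b} e => by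
    have := pow_eq_pow_iff_modEq.1 e
    rw [hk3] at this
    exact this
  -- distinct codes give distinct elements
  have hker : ∀ n < 27, φ n = 1 → n = 0 := by
    intro n hn e
    have key : ∀ n ∈ List.range 27, n / 9 = 0 → n / 3 % 3 = 0 → cexp n = 0 → n = 0 := by decide +kernel
    have e' : u ^ (n / 9) * v ^ (n / 3 % 3) * k ^ cexp n = 1 := e
    have ha : n / 9 = 0 := by
      by_contra ha
      refine hncomm ?_
      have hcu : Commute v (u ^ (n / 9)) := by
        have : u ^ (n / 9) = (v ^ (n / 3 % 3) * k ^ cexp n)⁻¹ := eq_inv_of_mul_eq_one_left (by rwa [← mul_assoc])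
        rw [this]
        exact (((Commute.refl v).pow_right _).mul_right ((hkc hv).pow_right _)).inv_right
      have : u ∈ zpowers (u ^ (n / 9)) := by
        have h12 : n / 9 = 1 ∨ n / 9 = 2 := by omega
        rcases h12 with e1 | e1 <;> rw [e1]
        · rw [pow_one]; exact mem_zpowers _
        · refine mem_zpowers_iff.2 ⟨2, ?_⟩
          rw [zpow_ofNat, ← pow_mul, hmod hu (show (2 * 2) % 3 = 1 % 3 from rfl), pow_one]
      obtain ⟨j, hj⟩ := mem_zpowers_iff.1 this
      show Commute v u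
      rw [← hj]
      exact hcu.zpow_right j
    rw [ha, pow_zero, one_mul] at e'
    have hb : n / 3 % 3 = 0 := by
      by_contra hb
      refine hvz ?_
      have h12 : n / 3 % 3 = 1 ∨ n / 3 % 3 = 2 := by omega
      have hm : v ^ (n / 3 % 3) ∈ zpowers K.z := by
        rw [eq_inv_of_mul_eq_one_left e']; exact inv_mem (pow_mem hk _)
      rcases h12 with e1 | e1 <;> rw [e1] at hm
      · simpa using hm
      · have : v = (v ^ 2) ^ 2 := by rw [← pow_mul, hmod hv (show (2 * 2) % 3 = 1 % 3 from rfl), pow_one]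
        exact this ▸ pow_mem hm 2
    rw [hb, pow_zero, one_mul] at e'
    have hc := hk2' (e'.trans (pow_zero k).symm)
    have : cexp n < 3 := Nat.mod_lt _ (by norm_num)
    exact key n (List.mem_range.2 hn) ha hb (by omega)
  have hφinj : ∀ n < 27, ∀ m < 27, φ n = φ m → n = m := by
    intro n hn m hm e
    obtain ⟨hmi, hmm, -⟩ := inv_spec m (List.mem_range.2 hm)
    have h0 : φ (mulN (invN m) n) = 1 := by
      rw [hφmul _ hmi _ hn, e, ← hφmul _ hmi _ hm, hmm, hφ0]
    have h1 := hker _ (mulN_lt hmi hn) h0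
    have key : ∀ n ∈ List.range 27, ∀ m ∈ List.range 27, mulN (invN m) n = 0 → n = m := by decide +kernel
    exact key n (List.mem_range.2 hn) m (List.mem_range.2 hm) h1
  have hsurj : ∀ y ∈ (K.T : Subgroup G), ∃ n < 27, φ n = y := by
    intro y hy
    have hb : Function.Bijective fun n : Fin 27 => (⟨φ n, hφmem n⟩ : (K.T : Subgroup G)) := by
      rw [Nat.bijective_iff_injective_and_card]
      exact ⟨fun a b hab => Fin.ext (hφinj a a.isLt b b.isLt (congrArg Subtype.val hab)),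
        by rw [Nat.card_fin, K.card_T]⟩
    obtain ⟨n, hn⟩ := hb.2 ⟨y, hy⟩
    exact ⟨n, n.isLt, congrArg Subtype.val hn⟩
  -- the image of `u`
  obtain ⟨N0, hN0, hN0e⟩ := hsurj (h * u * h⁻¹) ((mem_normalizer_iff.1 hN u).1 hu)
  have hhu : h * u * h⁻¹ = u ^ (N0 / 9) * v ^ (N0 / 3 % 3) * k ^ cexp N0 := hN0e.symm
  set i := N0 / 9
  set j := N0 / 3 % 3
  set l := cexp N0
  have hi3 : i < 3 := by omega
  have hl3 : l < 3 := Nat.mod_lt _ (by norm_num)
  have hj1 : j = 1 := by
    have hA := K.conj_commutator hN hinv hk huv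
    rw [← hu', hhu] at hA
    have e1 : u ^ i * v ^ j * k ^ l * u = u ^ (i + 1) * v ^ j * k ^ (2 * (1 * j) + l) := by
      rw [mul_assoc _ (k ^ l), ← ((hkc hu).pow_right l).eq, ← mul_assoc, mul_assoc (u ^ i) (v ^ j) u]
      have := hba j 1
      rw [pow_one] at this
      rw [this]
      simp only [mul_assoc, ← pow_add]
      rw [← mul_assoc, ← pow_succ]
    have e2 : u * (u ^ i * v ^ j * k ^ l) * k⁻¹ = u ^ (i + 1) * v ^ j * k ^ (l + 2) := by
      rw [show k⁻¹ = k ^ 2 from (eq_inv_of_mul_eq_one_left (by rw [← pow_succ]; exact K.cube k hkT)).symm,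
        pow_succ' u i, pow_add k]
      group
    rw [e1, e2] at hA
    have := hk2' (mul_left_cancel hA)
    omega
  have hi0 : i ≠ 0 := by
    intro e
    rw [e, hj1, pow_zero, one_mul, pow_one] at hhu
    have e2 : h ^ 2 * v * (h ^ 2)⁻¹ = v * k ^ l := by rw [← hhu, hu']; simp [pow_two, mul_assoc]
    obtain ⟨d, hd, e3⟩ := K.coset_pow (pow_mem hN 2) (pow_mem hk l) e2 2
    refine K.no_coset_fix ?_ (pow_mem (pow_mem hN 2) 2) hv hvz hd e3
    rw [← pow_mul, orderOf_pow_of_dvd (by norm_num) (by rw [hh8]; norm_num), hh8]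
  have hφpow : ∀ n < 27, ∀ a : ℕ, φ (powN n a) = φ n ^ a := by
    intro n hn a
    induction a with
    | zero => simpa [powN] using hφ0
    | succ a ih =>
      rw [pow_succ, ← ih, ← hφmul _ (powN_lt hn a) n hn]
      rfl
  have hφ9 : φ 9 = u := by simp [φ, cexp]
  have hφ1 : φ 1 = k := by simp [φ, cexp]
  have hφ3 : φ 3 = v := by simp [φ, cexp]
  have hhk : h * k * h⁻¹ = k ^ 2 := by
    obtain ⟨m, hm⟩ := mem_zpowers_iff.1 hk
    rw [← hm, ← conj_zpow, hinv, inv_zpow, hm]
    exact (eq_inv_of_mul_eq_one_left (by rw [← pow_succ]; exact K.cube k hkT)).symm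
  obtain ⟨ga, gb, g1, g2, g3, g4, g5, g6⟩ := gen_code_spec i (List.mem_range.2 hi3) l (List.mem_range.2 hl3)
  have hφX : φ (mulN (mulN (9 * i) 3) l) = h * u * h⁻¹ := by
    rw [hφmul _ ga _ (by omega), hφmul _ (by omega) _ (by norm_num), hφ3, hhu, hj1, pow_one]
    congr 1
    · congr 1
      show u ^ (9 * i / 9) * v ^ (9 * i / 3 % 3) * k ^ cexp (9 * i) = u ^ i
      rw [g1, g2, g3, pow_zero, pow_zero, mul_one, mul_one]
    · show u ^ (l / 9) * v ^ (l / 3 % 3) * k ^ cexp l = k ^ l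
      rw [g4, g5, g6, pow_zero, pow_zero, one_mul, one_mul]
  have hconj : ∀ n < 27, h * φ n * h⁻¹ = φ (hgen i l n) := by
    intro n hn
    have hX := mulN_lt ga (show l < 27 by omega)
    rw [hgen, hφmul _ (mulN_lt (powN_lt hX _) (powN_lt (by norm_num) _)) _ (powN_lt (by norm_num) _),
      hφmul _ (powN_lt hX _) _ (powN_lt (by norm_num) _), hφpow _ hX, hφpow 9 (by norm_num),
      hφpow 1 (by norm_num), hφX, hφ9, hφ1]
    show h * (u ^ (n / 9) * v ^ (n / 3 % 3) * k ^ cexp n) * h⁻¹ = _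
    rw [show h * (u ^ (n / 9) * v ^ (n / 3 % 3) * k ^ cexp n) * h⁻¹ = (h * u ^ (n / 9) * h⁻¹) *
      (h * v ^ (n / 3 % 3) * h⁻¹) * (h * k ^ cexp n * h⁻¹) by group, ← conj_pow, ← conj_pow, ← conj_pow, hhk,
      ← hu', pow_mul]
  have hiter : ∀ e n, n < 27 → iterN (hgen i l) e n < 27 ∧ h ^ e * φ n * (h ^ e)⁻¹ = φ (iterN (hgen i l) e n) := by
    intro e
    induction e with
    | zero => intro n hn; exact ⟨hn, by simp [iterN]⟩
    | succ e ih =>
      intro n hn
      obtain ⟨a, b⟩ := ih n hn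
      refine ⟨hgen_lt i l hi3 hl3 _ a, ?_⟩
      rw [pow_succ', show h * h ^ e * φ n * (h * h ^ e)⁻¹ = h * (h ^ e * φ n * (h ^ e)⁻¹) * h⁻¹ by group, b,
        hconj _ a]
      rfl
  obtain ⟨e, he, V, hV, hgood⟩ := change_spec i (by
    simp only [List.mem_cons, List.not_mem_nil, or_false]; omega) l (List.mem_range.2 hl3)
  simp only [goodChange, Bool.and_eq_true, List.all_eq_true, List.mem_range, decide_eq_true_eq,
    Bool.or_eq_true, beq_iff_eq, bne_iff_ne] at hgood
  obtain ⟨⟨⟨hlt, hmul⟩, hinj⟩, hcon⟩ := hgood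
  set θ := theta (iterN (hgen i l) e V) V
  have he' : e = 1 ∨ e = 5 := by simpa using he
  have hcop : Nat.Coprime (orderOf h) e := by rcases he' with rfl | rfl <;> rw [hh8] <;> norm_num
  have hzp : zpowers (h ^ e) = zpowers h := eq_of_le_of_card_ge (zpowers_le.2 (pow_mem (mem_zpowers h) e))
    (by rw [Nat.card_zpowers, Nat.card_zpowers, hcop.orderOf_pow])
  refine ⟨{ T := K.T
            Q := Q
            ne := hQ
            h := h ^ e
            h_order := by rw [hcop.orderOf_pow, hh8]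
            h_fix := ⟨Sylow.smul_eq_iff_mem_normalizer.2 (pow_mem hhH.1 e),
              Sylow.smul_eq_iff_mem_normalizer.2 (pow_mem hhH.2 e)⟩
            φ := fun n => φ (θ n)
            φ_mem := fun n _ => hφmem _
            φ_inj := fun n hn m hm hnm => (hinj n hn m hm).resolve_right (fun h' => h'
              (hφinj _ (hlt n hn) _ (hlt m hm) hnm))
            φ_surj := fun y hy => ?_
            φ_mul := fun n hn m hm => by
              show φ (θ (mulN n m)) = _
              rw [hmul n hn m hm, hφmul _ (hlt n hn) _ (hlt m hm)]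
            φ_conj := fun n hn => by
              show h ^ e * φ (θ n) * (h ^ e)⁻¹ = φ (θ (Model.hN n))
              rw [(hiter e _ (hlt n hn)).2, hcon n hn]
            stab := fun g h1 h2 => ?_ }⟩
  · obtain ⟨m, hm, rfl⟩ := hsurj y hy
    have hb : Function.Bijective fun n : Fin 27 => (⟨θ n, hlt n n.isLt⟩ : Fin 27) := by
      rw [← Finite.injective_iff_bijective]
      intro a b hab
      by_contra hne
      exact ((hinj a a.isLt b b.isLt).resolve_left fun e => hne (Fin.ext e)) (congrArg Fin.val hab)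
    obtain ⟨n, hn⟩ := hb.2 ⟨m, hm⟩
    exact ⟨n, n.isLt, congrArg φ (congrArg Fin.val hn)⟩
  · rw [hzp, hgen']
    exact ⟨Sylow.smul_eq_iff_mem_normalizer.1 h1, Sylow.smul_eq_iff_mem_normalizer.1 h2⟩

end Cfsg.Agent.SmallSimple.Order6048
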