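import Cfsg.Agent.Lib.SmallSimple.Order6048.Values

/-!
# The Sylow subgroups at three and the two-point stabilisers
-/

set_option autoImplicit false
set_option linter.style.haveILetI false
set_option linter.unusedSectionVars false
set_option maxRecDepth 100000

namespace Cfsg.Agent.SmallSimple.Order6048

open Subgroup Cfsg.Agent.Characters

universe u

variable {G : Type u} [Group G] [Finite G]

/-- A Sylow subgroup at three with a generator of its centre. -/
structure Point (G : Type u) [Group G] [Finite G] [Fact (Nat.Prime 3)] where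
  T : Sylow 3 G
  z : G
  hz : z ∈ (T : Subgroup G)
  z_order : orderOf z = 3
  central : ∀ u ∈ (T : Subgroup G), u * z = z * u
  cent9 : ∀ y ∈ (T : Subgroup G), y ∉ zpowers z → Nat.card (centralizer ({y} : Set G)) = 9
  centz : Nat.card (centralizer ({z} : Set G)) = 54 ∨ Nat.card (centralizer ({z} : Set G)) = 108
  centre : ∀ u ∈ (T : Subgroup G), (∀ v ∈ (T : Subgroup G), v * u = u * v) → u ∈ zpowers z
  card_T : Nat.card (T : Subgroup G) = 27
  cube : ∀ u ∈ (T : Subgroup G), u ^ 3 = 1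

theorem mem_zpowers_three {z y : G} (hz : orderOf z = 3) (hy : y ∈ zpowers z) :
    y = 1 ∨ y = z ∨ y = z⁻¹ := by
  obtain ⟨k, hk⟩ := (mem_powers_iff_mem_zpowers.2 hy : y ∈ Submonoid.powers z)
  have hk' : z ^ (k % 3) = y := by rw [← hz, pow_mod_orderOf]; exact hk
  have : k % 3 < 3 := Nat.mod_lt _ (by norm_num)
  have h2 : z ^ 2 = z⁻¹ := eq_inv_of_mul_eq_one_left
    (by rw [← pow_succ, show 2 + 1 = orderOf z by omega, pow_orderOf_eq_one])
  interval_cases h : k % 3
  · exact Or.inl (by simpa using hk'.symm)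
  · exact Or.inr (Or.inl (by simpa using hk'.symm))
  · exact Or.inr (Or.inr (hk'.symm.trans h2))

theorem ne_inv_of_three {z : G} (hz : orderOf z = 3) : z ≠ z⁻¹ := by
  intro e
  have h2 : z * z = 1 := mul_eq_one_iff_eq_inv.2 e
  have hd := orderOf_dvd_of_pow_eq_one (show z ^ 2 = 1 by rw [pow_two]; exact h2)
  rw [hz] at hd
  norm_num at hd

section Facts

variable [IsSimpleGroup G] (B : Block G) (hG : Nat.card G = 6048) (hgap : Gap G)
  [Fact (Nat.Prime 3)]
include B hG hgap

/-- Every Sylow subgroup at three is pointed. -/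
theorem exists_point (T : Sylow 3 G) : ∃ K : Point G, K.T = T := by
  obtain ⟨z, hz, hzo, hza, hc, honly, hcen⟩ := exists_centre B hG hgap T
  refine ⟨⟨T, z, hz, hzo, hc, fun y hy hyz => ?_, ?_, hcen, card_sylow3 hG hgap T, fun u hu => ?_⟩, rfl⟩
  · have hy1 : y ≠ 1 := fun e => hyz (e ▸ one_mem _)
    rcases three_cases B hG hgap (order_three hG hgap (card_sylow3 hG hgap T) hy hy1) with ⟨e, -⟩ | ⟨-, e⟩
    · rcases honly y hy hy1 e with rfl | rfl
      · exact absurd (mem_zpowers y) hyz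
      · exact absurd (inv_mem (mem_zpowers z)) hyz
    · exact e
  · rcases three_cases B hG hgap hzo with ⟨-, e⟩ | ⟨e, -⟩
    · exact e
    · exact absurd hza e
  · rcases eq_or_ne u 1 with rfl | hu1
    · exact one_pow 3
    · rw [← order_three hG hgap (card_sylow3 hG hgap T) hu hu1, pow_orderOf_eq_one]

/-- A central element of one Sylow subgroup lying in another one is central there. -/
theorem central_of_mem (K L : Point G) (h : K.z ∈ (L.T : Subgroup G)) : K.z ∈ zpowers L.z := by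
  by_contra hn
  have := L.cent9 K.z h hn
  rcases K.centz with e | e <;> omega

/-- The centralizer of the centre holds one Sylow subgroup. -/
theorem eq_of_centre (K L : Point G) (h : K.z ∈ (L.T : Subgroup G)) : K.T = L.T := by
  by_contra hne
  set C := centralizer ({K.z} : Set G) with hC
  have hKC : (K.T : Subgroup G) ≤ C := fun u hu =>
    mem_centralizer_singleton_iff.2 (K.central u hu)
  have hLC : (L.T : Subgroup G) ≤ C := fun u hu => by
    refine mem_centralizer_singleton_iff.2 ?_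
    obtain ⟨k, hk⟩ := mem_zpowers_iff.1 (central_of_mem B hG hgap K L h)
    rw [← hk]
    exact (Commute.zpow_right (L.central u hu) k).eq
  set D := (K.T : Subgroup G) ⊓ (L.T : Subgroup G) with hD
  -- `D` has order nine
  have hD27 : Nat.card D ∣ 3 ^ 3 := (card_dvd_of_le inf_le_left).trans K.card_T.dvd
  have hzD : K.z ∈ D := ⟨K.hz, h⟩
  have hrel := Order2520.card_inf_mul (L.T : Subgroup G) (K.T : Subgroup G)
  rw [K.card_T] at hrel
  have hle : (L.T : Subgroup G).relIndex (K.T : Subgroup G) ≤ (L.T : Subgroup G).relIndex C :=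
    relIndex_le_of_le_right hKC (by
      intro e
      have h1 := relIndex_mul_relIndex ⊥ (L.T : Subgroup G) C bot_le hLC
      rw [e, mul_zero, relIndex_bot_left] at h1
      exact Nat.card_pos.ne h1)
  have hCL := relIndex_mul_relIndex ⊥ (L.T : Subgroup G) C bot_le hLC
  rw [relIndex_bot_left, relIndex_bot_left, L.card_T] at hCL
  have hD9 : 9 ≤ Nat.card D := by
    obtain ⟨i, hi, hio⟩ := (Nat.dvd_prime_pow Nat.prime_three).1 hD27
    rw [← hD, hio] at hrel
    rw [hio]
    rcases K.centz with e | e <;> rw [← hC] at e <;> rw [e] at hCL <;> interval_cases i <;> omega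
  have hDne : ¬ D = (K.T : Subgroup G) := fun e => hne (Sylow.ext (eq_of_le_of_card_ge
    (e ▸ inf_le_right : (K.T : Subgroup G) ≤ (L.T : Subgroup G)) (by rw [K.card_T, L.card_T])))
  have hDlt : Nat.card D < 27 := by
    by_contra hge
    exact hDne (eq_of_le_of_card_ge inf_le_left (by rw [K.card_T]; omega))
  have hD9' : Nat.card D = 9 := by
    obtain ⟨i, hi, hio⟩ := (Nat.dvd_prime_pow Nat.prime_three).1 hD27
    rw [hio] at hD9 hDlt ⊢
    interval_cases i <;> omega
  obtain ⟨y, hyD, hyz⟩ := SetLike.not_le_iff_exists.1 (show ¬ D ≤ zpowers K.z from fun hle' => by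
    have := Nat.le_of_dvd Nat.card_pos (card_dvd_of_le hle')
    rw [hD9', Nat.card_zpowers, K.z_order] at this
    omega)
  have hyc := K.cent9 y hyD.1 hyz
  haveI hDc : IsMulCommutative D := IsPGroup.isMulCommutative_of_card_eq_prime_sq (p := 3) (by rw [hD9']; norm_num)
  have hDy : D = centralizer ({y} : Set G) := by
    refine eq_of_le_of_card_ge (fun u hu => mem_centralizer_singleton_iff.2 ?_) (by rw [hyc, hD9'])
    exact congrArg Subtype.val (hDc.is_comm.comm (⟨u, hu⟩ : D) ⟨y, hyD⟩)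
  -- the normalizer of `D` in `C` is small
  set N := C ⊓ normalizer (D : Set G) with hN
  have hnorm : ∀ (R : Sylow 3 G), Nat.card (R : Subgroup G) = 27 → D ≤ (R : Subgroup G) →
      (R : Subgroup G) ≤ normalizer (D : Set G) := by
    intro R hR hDR
    have hidx : D.relIndex (R : Subgroup G) = 3 := by
      have h1 := relIndex_mul_relIndex ⊥ D (R : Subgroup G) bot_le hDR
      rw [relIndex_bot_left, relIndex_bot_left, hD9', hR] at h1
      omega
    haveI : (D.subgroupOf (R : Subgroup G)).Normal := by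
      refine Subgroup.normal_of_index_eq_minFac_card ?_
      rw [show (D.subgroupOf (R : Subgroup G)).index = D.relIndex (R : Subgroup G) from rfl, hidx, hR]
      norm_num
    exact normal_subgroupOf_iff_le_normalizer hDR |>.1 inferInstance
  have hKN : (K.T : Subgroup G) ≤ N := le_inf hKC (hnorm K.T K.card_T inf_le_left)
  have hLN : (L.T : Subgroup G) ≤ N := le_inf hLC (hnorm L.T L.card_T inf_le_right)
  letI : MulAction N D :=
    { smul := fun g x => ⟨(g : G) * x * (g : G)⁻¹, (mem_normalizer_iff.1 g.2.2 x).1 x.2⟩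
      one_smul := fun x => Subtype.ext (by show (1 : G) * x * (1 : G)⁻¹ = x; simp)
      mul_smul := fun g g' x => Subtype.ext (by
        show ((g : G) * g') * x * ((g : G) * g')⁻¹ = g * (g' * x * (g' : G)⁻¹) * (g : G)⁻¹
        group) }
  have horb : Nat.card (MulAction.orbit N (⟨y, hyD⟩ : D)) ≤ 6 := by
    have hsub : MulAction.orbit N (⟨y, hyD⟩ : D) ⊆ {d : D | (d : G) ∉ zpowers K.z} := by
      rintro d ⟨g, rfl⟩ hd
      refine hyz ?_
      obtain ⟨k, hk⟩ := mem_zpowers_iff.1 hd
      have hgz : Commute (g : G) K.z := mem_centralizer_singleton_iff.1 g.2.1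
      have hk' : K.z ^ k = (g : G) * y * (g : G)⁻¹ := hk
      have : y = K.z ^ k := by
        have h1 : (g : G)⁻¹ * K.z ^ k * g = y := by rw [hk']; group
        rw [← h1, mul_assoc, ← (hgz.zpow_right k).eq, inv_mul_cancel_left]
      exact this ▸ zpow_mem (mem_zpowers _) k
    refine le_trans (Nat.card_mono (Set.toFinite _) hsub) ?_
    have hset : {d : D | (d : G) ∉ zpowers K.z} = (↑((zpowers K.z).subgroupOf D) : Set D)ᶜ := rfl
    have := Set.ncard_compl (↑((zpowers K.z).subgroupOf D) : Set D)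
    rw [← hset, ← Nat.card_coe_set_eq, ← Nat.card_coe_set_eq, SetLike.coe_sort_coe,
      Nat.card_congr (subgroupOfEquivOfLe (zpowers_le.2 hzD)).toEquiv, Nat.card_zpowers, K.z_order, hD9'] at this
    omega
  have hstab : Nat.card (MulAction.stabilizer N (⟨y, hyD⟩ : D)) ≤ 9 := by
    rw [← hyc]
    refine Nat.card_le_card_of_injective (fun g => ⟨((g : N) : G), mem_centralizer_singleton_iff.2 ?_⟩)
      fun a b hab => Subtype.ext (Subtype.ext (by simpa using hab))
    exact mul_inv_eq_iff_eq_mul.1 (congrArg Subtype.val g.2)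
  have hN54 : Nat.card N ≤ 54 := by
    have h1 := (MulAction.stabilizer N (⟨y, hyD⟩ : D)).card_mul_index
    rw [MulAction.index_stabilizer, ← Nat.card_coe_set_eq] at h1
    rw [← h1]
    exact le_trans (Nat.mul_le_mul hstab horb) (by norm_num)
  have h27 : 27 ∣ Nat.card N := K.card_T.symm.dvd.trans (card_dvd_of_le hKN)
  have hne' : K.T.subtype hKN ≠ L.T.subtype hLN := fun e => hne (Sylow.subtype_injective e)
  haveI : Nontrivial (Sylow 3 N) := ⟨⟨_, _, hne'⟩⟩
  have hone : 1 < Nat.card (Sylow 3 N) := Finite.one_lt_card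
  have hmod : Nat.card (Sylow 3 N) % 3 = 1 := card_sylow_modEq_one 3 N
  have hdvd := (K.T.subtype hKN).card_dvd_index
  have hmul := ((K.T.subtype hKN : Sylow 3 N) : Subgroup N).card_mul_index
  rw [Sylow.coe_subtype, Nat.card_congr (subgroupOfEquivOfLe hKN).toEquiv, K.card_T] at hmul
  rw [Sylow.coe_subtype] at hdvd
  have hile : ((K.T : Subgroup G).subgroupOf N).index ≤ 2 := by omega
  have := Nat.le_of_dvd (Nat.pos_of_ne_zero index_ne_zero_of_finite) hdvd
  omega

/-- The Sylow subgroups at three meet trivially. -/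
theorem sylow_ti {T T' : Sylow 3 G} {y : G} (hy : y ∈ (T : Subgroup G)) (hy' : y ∈ (T' : Subgroup G))
    (hy1 : y ≠ 1) : T = T' := by
  obtain ⟨K, rfl⟩ := exists_point B hG hgap T
  obtain ⟨L, rfl⟩ := exists_point B hG hgap T'
  by_cases hyz : y ∈ zpowers K.z
  · refine eq_of_centre B hG hgap K L ?_
    rcases mem_zpowers_three K.z_order hyz with rfl | rfl | rfl
    · exact absurd rfl hy1
    · exact hy'
    · exact inv_inv K.z ▸ inv_mem hy'
  · have hcen : ∀ {M : Point G}, y ∈ (M.T : Subgroup G) → y ∉ zpowers M.z →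
        zpowers y ⊔ zpowers M.z = centralizer ({y} : Set G) := by
      intro M hm hn
      refine eq_of_le_of_card_ge (sup_le (zpowers_le.2 (mem_centralizer_singleton_iff.2 rfl))
        (zpowers_le.2 (mem_centralizer_singleton_iff.2 (M.central y hm).symm))) ?_
      rw [M.cent9 y hm hn]
      by_contra hlt
      have hd : Nat.card ↥(zpowers y ⊔ zpowers M.z) ∣ 3 ^ 3 := (card_dvd_of_le (sup_le
        (zpowers_le.2 hm) (zpowers_le.2 M.hz))).trans M.card_T.dvd
      obtain ⟨i, hi, hio⟩ := (Nat.dvd_prime_pow Nat.prime_three).1 hd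
      have hi1 : i ≤ 1 := by
        rw [hio] at hlt
        interval_cases i <;> omega
      exact hn ((eq_of_le_of_card_ge (le_sup_right : zpowers M.z ≤ zpowers y ⊔ zpowers M.z) (by
        rw [hio, Nat.card_zpowers, M.z_order]
        interval_cases i <;> omega)) ▸ le_sup_left (b := zpowers M.z) (mem_zpowers y))
    have hyL : y ∉ zpowers L.z := fun h => by
      rcases mem_zpowers_three L.z_order h with rfl | rfl | rfl
      · exact hy1 rfl
      · exact hyz (central_of_mem B hG hgap L K hy)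
      · exact hyz (inv_mem (central_of_mem B hG hgap L K (inv_inv L.z ▸ inv_mem hy)))
    refine (eq_of_centre B hG hgap L K ?_).symm
    have hmem : L.z ∈ zpowers y ⊔ zpowers K.z := by
      rw [hcen hy hyz, ← hcen hy' hyL]
      exact le_sup_right (a := zpowers y) (mem_zpowers _)
    exact sup_le (zpowers_le.2 hy) (zpowers_le.2 K.hz) hmem

theorem fixed_sylow {T Q : Sylow 3 G} {g : G} (hg : g ∈ (T : Subgroup G)) (hg1 : g ≠ 1) (h : g • Q = Q) :
    Q = T := by
  have hgN : g ∈ normalizer ((Q : Subgroup G) : Set G) := Sylow.smul_eq_iff_mem_normalizer.1 h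
  have hp : IsPGroup 3 (zpowers g) := IsPGroup.of_card (n := 1)
    (by rw [Nat.card_zpowers, order_three hG hgap (card_sylow3 hG hgap T) hg hg1, pow_one])
  have hle : zpowers g ≤ normalizer ((Q : Subgroup G) : Set G) := zpowers_le.2 hgN
  have hsup := hp.to_sup_of_normal_right' Q.isPGroup' hle
  have heq := Q.is_maximal' hsup le_sup_right
  exact sylow_ti B hG hgap (T := Q) (T' := T) (heq.le (le_sup_left (b := (Q : Subgroup G)) (mem_zpowers g))) hg hg1

/-- A Sylow subgroup is regular on the other ones, of which there are 27. -/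
theorem regular_others (T : Sylow 3 G) :
    Nat.card (Sylow 3 G) = 28 ∧ Nat.card (normalizer ((T : Subgroup G) : Set G)) = 216 ∧
      ∀ Q R : Sylow 3 G, Q ≠ T → R ≠ T → ∃ p ∈ (T : Subgroup G), p • Q = R := by
  classical
  haveI := Fintype.ofFinite (Sylow 3 G)
  have hfree : ∀ Q : Sylow 3 G, Q ≠ T → Function.Injective fun p : (T : Subgroup G) => (p : G) • Q := by
    intro Q hQ p q hpq
    by_contra hne
    have h1 : ((q : G)⁻¹ * p) • Q = Q := by
      rw [mul_smul]
      exact inv_smul_eq_iff.2 hpq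
    exact hQ (fixed_sylow B hG hgap (mul_mem (inv_mem q.2) p.2)
      (fun e => hne (Subtype.ext (inv_mul_eq_one.1 e).symm)) h1)
  have hT := card_sylow3 hG hgap T
  have hmul := Basic.card_normalizer_mul T
  have h27 : 27 ∣ Nat.card (normalizer ((T : Subgroup G) : Set G)) :=
    hT.symm.dvd.trans (card_dvd_of_le le_normalizer)
  obtain ⟨Q0, hQ0⟩ : ∃ Q : Sylow 3 G, Q ≠ T := by
    haveI := Finite.one_lt_card_iff_nontrivial.1
      (Basic.one_lt_card_sylow (p := 3) (not_comm hG hgap) (by rw [hG]; norm_num))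
    exact exists_ne T
  -- the other Sylow subgroups fall into orbits of length 27
  letI : MulAction (T : Subgroup G) {Q : Sylow 3 G // Q ≠ T} :=
    { smul := fun p Q => ⟨(p : G) • Q.1, fun e => Q.2 ((smul_left_cancel_iff (p : G)).1
        (e.trans (Sylow.smul_eq_iff_mem_normalizer.2 (le_normalizer p.2)).symm))⟩
      one_smul := fun Q => Subtype.ext (one_smul G Q.1)
      mul_smul := fun p q Q => Subtype.ext (mul_smul (p : G) (q : G) Q.1) }
  have hdvd : 27 ∣ Nat.card {Q : Sylow 3 G // Q ≠ T} := by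
    haveI := Fintype.ofFinite (MulAction.orbitRel.Quotient (T : Subgroup G) {Q : Sylow 3 G // Q ≠ T})
    rw [Nat.card_congr (MulAction.selfEquivSigmaOrbits (T : Subgroup G) _), Nat.card_sigma]
    refine Finset.dvd_sum fun ω _ => ?_
    rw [Nat.card_congr (MulAction.orbitEquivQuotientStabilizer (T : Subgroup G) _)]
    have : MulAction.stabilizer (T : Subgroup G) (Quotient.out ω : {Q : Sylow 3 G // Q ≠ T}) = ⊥ := by
      refine (eq_bot_iff_forall _).2 fun p hp => ?_
      refine hfree _ (Quotient.out ω).2 ?_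
      show (p : G) • _ = (((1 : (T : Subgroup G)) : G)) • _
      rw [OneMemClass.coe_one, one_smul]
      exact congrArg Subtype.val (MulAction.mem_stabilizer_iff.1 hp)
    rw [← index_eq_card, this, index_bot, hT]
  have hn : Nat.card {Q : Sylow 3 G // Q ≠ T} = Nat.card (Sylow 3 G) - 1 := by
    rw [Nat.card_eq_fintype_card, Fintype.card_subtype_compl, Fintype.card_subtype_eq, ← Nat.card_eq_fintype_card]
  rw [hn] at hdvd
  obtain ⟨j, hj⟩ := h27
  rw [hj, hG] at hmul
  have hn28 : Nat.card (Sylow 3 G) = 28 := by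
    have hd : Nat.card (Sylow 3 G) ∈ (224 : ℕ).divisors := Nat.mem_divisors.2 ⟨⟨j, by
      rw [mul_assoc] at hmul
      have : j * Nat.card (Sylow 3 G) = 224 := by omega
      rw [mul_comm]; exact this.symm⟩, by norm_num⟩
    have key : ∀ n ∈ (224 : ℕ).divisors, 27 ∣ n - 1 → 1 < n → n = 28 := by decide +kernel
    exact key _ hd hdvd (Basic.one_lt_card_sylow (not_comm hG hgap) (by rw [hG]; norm_num))
  refine ⟨hn28, by rw [hn28] at hmul; omega, fun Q R hQ hR => ?_⟩
  have hbij : Function.Bijective fun p : (T : Subgroup G) => (p • (⟨Q, hQ⟩ : {Q : Sylow 3 G // Q ≠ T})) := by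
    rw [Nat.bijective_iff_injective_and_card]
    exact ⟨fun p q h => hfree Q hQ (congrArg Subtype.val h), by rw [hT, hn, hn28]⟩
  obtain ⟨p, hp⟩ := hbij.2 ⟨R, hR⟩
  exact ⟨p, p.2, congrArg Subtype.val hp⟩

end Facts

section Stab

variable [Fact (Nat.Prime 3)] (K : Point G) {Q : Sylow 3 G}

/-- An involution normalising a pointed Sylow subgroup and no coset outside the centre inverts modulo
the centre. -/
theorem Point.invert_mod {t y : G} (hto : orderOf t = 2)
    (ht : t ∈ normalizer ((K.T : Subgroup G) : Set G)) (hy : y ∈ (K.T : Subgroup G))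
    (hab : ∀ a ∈ (K.T : Subgroup G), ∀ b ∈ (K.T : Subgroup G), ∃ c ∈ zpowers K.z, a * b = b * a * c)
    (htz : ∀ c ∈ zpowers K.z, t * c * t⁻¹ ∈ zpowers K.z) :
    y * (t * y * t⁻¹) ∈ zpowers K.z := by
  haveI : Fact (Nat.Prime 2) := ⟨Nat.prime_two⟩
  haveI : Finite (ConjAct G) := Finite.of_equiv G ConjAct.toConjAct.toEquiv
  set q := y * (t * y * t⁻¹) with hq
  have hty : t * y * t⁻¹ ∈ (K.T : Subgroup G) := (mem_normalizer_iff.1 ht y).1 hy
  have hqT : q ∈ (K.T : Subgroup G) := mul_mem hy hty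
  by_contra hqz
  have ht2 : t * t = 1 := by rw [← pow_two, ← hto, pow_orderOf_eq_one]
  obtain ⟨c, hc, hcomm⟩ := hab _ hty _ hy
  have himg : t * q * t⁻¹ = q * c := by
    have e : t * (t * y * t⁻¹) * t⁻¹ = y := by
      rw [show t * (t * y * t⁻¹) * t⁻¹ = (t * t) * y * (t * t)⁻¹ by group, ht2]; simp
    rw [hq, show t * (y * (t * y * t⁻¹)) * t⁻¹ = (t * y * t⁻¹) * (t * (t * y * t⁻¹) * t⁻¹) by group, e, hcomm]
  set s : Set G := {x | ∃ d ∈ zpowers K.z, x = q * d} with hs
  have hs3 : Nat.card s = 3 := by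
    rw [← K.z_order, ← Nat.card_zpowers]
    refine (Nat.card_congr ((Equiv.mulLeft q).subtypeEquiv fun d => ?_)).symm
    constructor
    · intro hd; exact ⟨d, hd, rfl⟩
    · rintro ⟨d', hd', e⟩
      exact mul_left_cancel (show q * d = q * d' from e) ▸ hd'
  have hsm : ∀ x : G, ConjAct.toConjAct t • x = t * x * t⁻¹ := fun x => by
    rw [ConjAct.smul_def, ConjAct.ofConjAct_toConjAct]
  have h := Order2520.fixed_mod (G := ConjAct G) (p := 2) (x := ConjAct.toConjAct t)
    (by rw [← map_pow, ← hto, pow_orderOf_eq_one, map_one]) s (by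
      rintro x ⟨d, hd, rfl⟩
      refine ⟨c * (t * d * t⁻¹), mul_mem hc (htz d hd), ?_⟩
      rw [hsm, show t * (q * d) * t⁻¹ = (t * q * t⁻¹) * (t * d * t⁻¹) by group, himg, mul_assoc])
  rw [hs3] at h
  obtain ⟨⟨x, ⟨d, hd, rfl⟩, hfix⟩⟩ : Nonempty {a : G // a ∈ s ∧ ConjAct.toConjAct t • a = a} := by
    by_contra hempty
    rw [not_nonempty_iff] at hempty
    rw [Nat.card_of_isEmpty] at h
    norm_num at h
  rw [hsm] at hfix
  have hdT : d ∈ (K.T : Subgroup G) := zpowers_le.2 K.hz hd
  have hxz : q * d ∉ zpowers K.z := fun hx => hqz (by simpa using mul_mem hx (inv_mem hd))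
  have hmem : t ∈ centralizer ({q * d} : Set G) :=
    mem_centralizer_singleton_iff.2 (mul_inv_eq_iff_eq_mul.1 hfix)
  have hd9 := orderOf_dvd_natCard (⟨t, hmem⟩ : centralizer ({q * d} : Set G))
  rw [Subgroup.orderOf_mk, hto, K.cent9 _ (mul_mem hqT hdT) hxz] at hd9
  norm_num at hd9

/-- Commutators fall into the centre. -/
theorem Point.comm_mod {a b : G} (ha : a ∈ (K.T : Subgroup G)) (hb : b ∈ (K.T : Subgroup G)) :
    ∃ c ∈ zpowers K.z, a * b = b * a * c := by
  set T := (K.T : Subgroup G)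
  set Z := (zpowers K.z).subgroupOf T with hZ
  haveI : Z.Normal := ⟨fun n hn g => by
    rw [hZ, mem_subgroupOf] at hn ⊢
    obtain ⟨k, hk⟩ := mem_zpowers_iff.1 hn
    rw [coe_mul, coe_mul, ← hk, (Commute.zpow_right (K.central g g.2) k).eq, coe_inv, mul_inv_cancel_right]
    exact zpow_mem (mem_zpowers _) k⟩
  have hcard : Nat.card (T ⧸ Z) = 3 ^ 2 := by
    have h1 := Z.card_eq_card_quotient_mul_card_subgroup
    rw [hZ, Nat.card_congr (subgroupOfEquivOfLe (zpowers_le.2 K.hz)).toEquiv, Nat.card_zpowers, K.z_order,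
      K.card_T] at h1
    rw [hZ]
    omega
  haveI hc : IsMulCommutative (T ⧸ Z) := IsPGroup.isMulCommutative_of_card_eq_prime_sq hcard
  have h := hc.is_comm.comm (QuotientGroup.mk (⟨a, ha⟩ : T)) (QuotientGroup.mk (⟨b, hb⟩ : T))
  rw [← QuotientGroup.mk_mul, ← QuotientGroup.mk_mul, eq_comm, QuotientGroup.eq, hZ, mem_subgroupOf] at h
  refine ⟨_, h, ?_⟩
  simp [mul_assoc]

theorem Point.conj_centre {g : G} (hg : g ∈ normalizer ((K.T : Subgroup G) : Set G)) :
    g * K.z * g⁻¹ = K.z ∨ g * K.z * g⁻¹ = K.z⁻¹ := by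
  have hgz : g * K.z * g⁻¹ ∈ (K.T : Subgroup G) := (mem_normalizer_iff.1 hg _).1 K.hz
  have hmem := K.centre _ hgz fun v hv => by
    obtain ⟨v', hv', rfl⟩ : ∃ v' ∈ (K.T : Subgroup G), v = g * v' * g⁻¹ :=
      ⟨g⁻¹ * v * g, (mem_normalizer_iff.1 hg _).2 (by simpa [mul_assoc] using hv), by group⟩
    rw [show g * v' * g⁻¹ * (g * K.z * g⁻¹) = g * (v' * K.z) * g⁻¹ by group, K.central v' hv']
    group
  rcases mem_zpowers_three K.z_order hmem with e | e | e
  · refine absurd e fun e => ?_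
    have := K.z_order
    rw [show K.z = 1 by simpa [mul_assoc] using congrArg (fun x => g⁻¹ * x * g) e, orderOf_one] at this
    norm_num at this
  · exact Or.inl e
  · exact Or.inr e

theorem Point.centre_mem {g : G} (hg : g ∈ normalizer ((K.T : Subgroup G) : Set G)) {c : G}
    (hc : c ∈ zpowers K.z) : g * c * g⁻¹ ∈ zpowers K.z := by
  obtain ⟨k, rfl⟩ := mem_zpowers_iff.1 hc
  rw [← conj_zpow]
  rcases K.conj_centre hg with e | e <;> rw [e]
  · exact zpow_mem (mem_zpowers _) k
  · exact zpow_mem (inv_mem (mem_zpowers _)) k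

theorem Point.exists_outside : ∃ v ∈ (K.T : Subgroup G), v ∉ zpowers K.z := by
  refine SetLike.not_le_iff_exists.1 fun hle => ?_
  have := Nat.le_of_dvd Nat.card_pos (card_dvd_of_le hle)
  rw [K.card_T, Nat.card_zpowers, K.z_order] at this
  omega

theorem Point.comm_z {c a : G} (hc : c ∈ zpowers K.z) (ha : a ∈ (K.T : Subgroup G)) : Commute a c := by
  obtain ⟨k, rfl⟩ := mem_zpowers_iff.1 hc
  exact Commute.zpow_right (K.central a ha) k

theorem Point.z_mem {c : G} (hc : c ∈ zpowers K.z) : c ∈ (K.T : Subgroup G) := zpowers_le.2 K.hz hc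

/-- The elements commuting with one outside the centre. -/
theorem Point.cent_form {v y : G} (hv : v ∈ (K.T : Subgroup G)) (hvz : v ∉ zpowers K.z)
    (hy : Commute v y) : ∃ i < 3, ∃ c ∈ zpowers K.z, y = v ^ i * c := by
  set C := centralizer ({v} : Set G)
  let f : Fin 3 × zpowers K.z → C := fun q => ⟨v ^ (q.1 : ℕ) * q.2,
    mem_centralizer_singleton_iff.2 (((Commute.refl v).pow_right _).mul_right (K.comm_z q.2.2 hv)).symm.eq⟩
  have hkey : ∀ i j : ℕ, i < 3 → j ≤ i → (v ^ j)⁻¹ * v ^ i ∈ zpowers K.z → i = j := by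
    intro i j hi hji h
    rw [show v ^ i = v ^ j * v ^ (i - j) by rw [← pow_add]; congr 1; omega, inv_mul_cancel_left] at h
    by_contra hne
    have hpos : i - j = 1 ∨ i - j = 2 := by omega
    rcases hpos with e | e <;> rw [e] at h
    · exact hvz (by simpa using h)
    · refine hvz ?_
      have e : v = (v ^ 2)⁻¹ := eq_inv_of_mul_eq_one_left (by rw [← pow_succ']; exact K.cube v hv)
      exact e ▸ inv_mem h
  have hinj : Function.Injective f := by
    rintro ⟨i, c⟩ ⟨j, d⟩ h
    have h' : v ^ (i : ℕ) * (c : G) = v ^ (j : ℕ) * (d : G) := congrArg Subtype.val h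
    have hij : (i : ℕ) = j := by
      rcases le_total (j : ℕ) i with hle | hle
      · refine hkey i j i.isLt hle ?_
        rw [show (v ^ (j : ℕ))⁻¹ * v ^ (i : ℕ) = d * (c : G)⁻¹ by
          rw [inv_mul_eq_iff_eq_mul, ← mul_assoc, ← h', mul_inv_cancel_right]]
        exact mul_mem d.2 (inv_mem c.2)
      · refine (hkey j i j.isLt hle ?_).symm
        rw [show (v ^ (i : ℕ))⁻¹ * v ^ (j : ℕ) = c * (d : G)⁻¹ by
          rw [inv_mul_eq_iff_eq_mul, ← mul_assoc, h', mul_inv_cancel_right]]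
        exact mul_mem c.2 (inv_mem d.2)
    refine Prod.ext (Fin.ext hij) (Subtype.ext ?_)
    rw [hij] at h'
    exact mul_left_cancel h'
  have hbij := (Nat.bijective_iff_injective_and_card f).2 ⟨hinj, by
    rw [Nat.card_prod, Nat.card_fin, Nat.card_zpowers, K.z_order, K.cent9 v hv hvz]⟩
  obtain ⟨⟨i, c⟩, hic⟩ := hbij.2 ⟨y, mem_centralizer_singleton_iff.2 hy.symm.eq⟩
  exact ⟨i, i.isLt, c, c.2, (congrArg Subtype.val hic).symm⟩

theorem Point.coset_pow {g v c : G} (hg : g ∈ normalizer ((K.T : Subgroup G) : Set G))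
    (hc : c ∈ zpowers K.z) (he : g * v * g⁻¹ = v * c) :
    ∀ n : ℕ, ∃ d ∈ zpowers K.z, g ^ n * v * (g ^ n)⁻¹ = v * d
  | 0 => ⟨1, one_mem _, by simp⟩
  | n + 1 => by
    obtain ⟨d, hd, e⟩ := Point.coset_pow hg hc he n
    refine ⟨c * (g * d * g⁻¹), mul_mem hc (K.centre_mem hg hd), ?_⟩
    rw [pow_succ', show g * g ^ n * v * (g * g ^ n)⁻¹ = g * (g ^ n * v * (g ^ n)⁻¹) * g⁻¹ by group, e,
      show g * (v * d) * g⁻¹ = (g * v * g⁻¹) * (g * d * g⁻¹) by group, he, mul_assoc]

theorem Point.invert {t y : G} (hto : orderOf t = 2)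
    (ht : t ∈ normalizer ((K.T : Subgroup G) : Set G)) (hy : y ∈ (K.T : Subgroup G)) :
    ∃ c ∈ zpowers K.z, t * y * t⁻¹ = y⁻¹ * c :=
  ⟨_, K.invert_mod hto ht hy (fun _ ha _ hb => K.comm_mod ha hb) fun _ hc => K.centre_mem ht hc,
    by group⟩

/-- An involution fixes no coset of the centre outside it. -/
theorem Point.no_coset_fix {t v c : G} (hto : orderOf t = 2)
    (ht : t ∈ normalizer ((K.T : Subgroup G) : Set G)) (hv : v ∈ (K.T : Subgroup G))
    (hvz : v ∉ zpowers K.z) (hc : c ∈ zpowers K.z) : t * v * t⁻¹ ≠ v * c := by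
  intro e
  obtain ⟨d, hd, e2⟩ := K.invert hto ht hv
  rw [e] at e2
  have h2 : v ^ 2 = d * c⁻¹ := by
    have h := congrArg (fun x => v * x * c⁻¹) e2
    simpa [pow_two, mul_assoc] using h
  have e3 : v = (v ^ 2)⁻¹ := eq_inv_of_mul_eq_one_left (by rw [← pow_succ']; exact K.cube v hv)
  exact hvz (e3 ▸ inv_mem (h2 ▸ mul_mem hd (inv_mem hc)))

/-- An element of order four or eight moves an element out of its centralizer. -/
theorem Point.not_commute_image {g v : G} (hgo : orderOf g = 4 ∨ orderOf g = 8)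
    (hg : g ∈ normalizer ((K.T : Subgroup G) : Set G)) (hv : v ∈ (K.T : Subgroup G))
    (hvz : v ∉ zpowers K.z) : ¬ Commute v (g * v * g⁻¹) := by
  intro hcm
  obtain ⟨i, hi, c, hc, e⟩ := K.cent_form hv hvz hcm
  have hi0 : i ≠ 0 := by
    rintro rfl
    rw [pow_zero, one_mul] at e
    refine hvz ?_
    have h := K.centre_mem (inv_mem hg) hc
    rw [← e] at h
    simpa [mul_assoc] using h
  have e2 : g ^ 2 * v * (g ^ 2)⁻¹ = v * (c ^ i * (g * c * g⁻¹)) := by
    rw [show g ^ 2 * v * (g ^ 2)⁻¹ = g * (g * v * g⁻¹) * g⁻¹ by simp [pow_two, mul_assoc], e,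
      show g * (v ^ i * c) * g⁻¹ = (g * v ^ i * g⁻¹) * (g * c * g⁻¹) by group, ← conj_pow, e,
      (K.comm_z hc (pow_mem hv i)).mul_pow, ← pow_mul, mul_assoc]
    congr 1
    interval_cases i
    · exact absurd rfl hi0
    · simp
    · rw [show 2 * 2 = 3 + 1 from rfl, pow_add, K.cube v hv, one_mul, pow_one]
  obtain ⟨j, hj⟩ : ∃ j, orderOf ((g ^ 2) ^ j) = 2 := by
    rcases hgo with h | h
    · refine ⟨1, ?_⟩
      rw [pow_one, orderOf_pow_of_dvd (by norm_num) (by rw [h]; norm_num), h]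
    · refine ⟨2, ?_⟩
      rw [← pow_mul, orderOf_pow_of_dvd (by norm_num) (by rw [h]; norm_num), h]
  obtain ⟨d, hd, e3⟩ := K.coset_pow (pow_mem hg 2) (mul_mem (pow_mem hc i) (K.centre_mem hg hc)) e2 j
  exact K.no_coset_fix hj (pow_mem (pow_mem hg 2) j) hv hvz hd e3

theorem Point.comm_inv {a b k : G} (ha : a ∈ (K.T : Subgroup G)) (hk : k ∈ zpowers K.z)
    (h : a * b = b * a * k) : b * a⁻¹ = a⁻¹ * b * k := by
  have h1 := congrArg (fun x => a⁻¹ * x * a⁻¹) h
  simp only [show a⁻¹ * (a * b) * a⁻¹ = b * a⁻¹ by group] at h1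
  rw [h1, show a⁻¹ * (b * a * k) * a⁻¹ = a⁻¹ * b * (a * k * a⁻¹) by group, (K.comm_z hk ha).eq,
    mul_inv_cancel_right]

theorem Point.comm_shift {a b k c d : G} (ha : a ∈ (K.T : Subgroup G)) (hb : b ∈ (K.T : Subgroup G))
    (hc : c ∈ zpowers K.z) (hd : d ∈ zpowers K.z) (hk : k ∈ zpowers K.z) (h : a * b = b * a * k) :
    a * c * (b * d) = b * d * (a * c) * k := by
  have e1 : a * c * (b * d) = a * b * (c * d) := by
    rw [mul_assoc a c, ← mul_assoc c, ← (K.comm_z hc hb).eq]; group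
  have e2 : b * d * (a * c) = b * a * (c * d) := by
    rw [mul_assoc b d, ← mul_assoc d, ← (K.comm_z hd ha).eq, mul_assoc a d c,
      (K.comm_z hc (K.z_mem hd)).eq]
    group
  rw [e1, e2, h, mul_assoc, (K.comm_z (mul_mem hc hd) (K.z_mem hk)).eq]
  group

/-- What an automorphism does to a commutator. -/
theorem Point.conj_commutator {h a b k : G} (hN : h ∈ normalizer ((K.T : Subgroup G) : Set G))
    (hinv : h * K.z * h⁻¹ = K.z⁻¹) (hk : k ∈ zpowers K.z) (e : a * b = b * a * k) :
    h * a * h⁻¹ * (h * b * h⁻¹) = h * b * h⁻¹ * (h * a * h⁻¹) * k⁻¹ := by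
  have hk' : h * k * h⁻¹ = k⁻¹ := by
    obtain ⟨n, rfl⟩ := mem_zpowers_iff.1 hk
    rw [← conj_zpow, hinv, inv_zpow]
  rw [show h * a * h⁻¹ * (h * b * h⁻¹) = h * (a * b) * h⁻¹ by group, e, ← hk']
  group

theorem Point.inv_ne {k : G} (hk : k ∈ zpowers K.z) (hk1 : k ≠ 1) : k ≠ k⁻¹ := by
  rcases mem_zpowers_three K.z_order hk with rfl | rfl | rfl
  · exact absurd rfl hk1
  · exact ne_inv_of_three K.z_order
  · rw [inv_inv]; exact (ne_inv_of_three K.z_order).symm

/-- The element of order eight of a two-point stabiliser. -/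
theorem Point.exists_eight (H : Subgroup G) (hH : Nat.card H = 8)
    (hHN : H ≤ normalizer ((K.T : Subgroup G) : Set G)) :
    ∃ h ∈ H, orderOf h = 8 ∧ h * K.z * h⁻¹ = K.z⁻¹ ∧ zpowers h = H := by
  obtain ⟨h, hh, hne⟩ := SetLike.not_le_iff_exists.1 (show ¬ H ≤ centralizer ({K.z} : Set G) from fun hle => by
    have := card_dvd_of_le hle
    rw [hH] at this
    rcases K.centz with e | e <;> rw [e] at this <;> norm_num at this)
  have hN := hHN hh
  have hinv : h * K.z * h⁻¹ = K.z⁻¹ := (K.conj_centre hN).resolve_left fun e =>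
    hne (mem_centralizer_singleton_iff.2 (mul_inv_eq_iff_eq_mul.1 e))
  have hmem : ∀ {a : G}, a ∈ (K.T : Subgroup G) → h * a * h⁻¹ ∈ (K.T : Subgroup G) := fun ha =>
    (mem_normalizer_iff.1 hN _).1 ha
  obtain ⟨v, hv, hvz⟩ := K.exists_outside
  obtain ⟨v2, hv2, hne2⟩ : ∃ v2 ∈ (K.T : Subgroup G), v2 * v ≠ v * v2 := by
    by_contra hcon
    push Not at hcon
    exact hvz (K.centre v hv hcon)
  have hd : orderOf h ∣ 2 ^ 3 := by
    have := orderOf_dvd_natCard (⟨h, hh⟩ : H)
    rwa [Subgroup.orderOf_mk, hH] at this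
  obtain ⟨i, hi, hio⟩ := (Nat.dvd_prime_pow Nat.prime_two).1 hd
  have hh8 : orderOf h = 8 := by
    interval_cases i
    · exfalso
      have h1 : h = 1 := orderOf_eq_one_iff.1 (by simpa using hio)
      rw [h1] at hne
      exact hne (one_mem _)
    · -- an involution centralises the commutators
      exfalso
      have hto : orderOf h = 2 := by simpa using hio
      obtain ⟨k, hk, e⟩ := K.comm_mod hv2 hv
      have hk1 : k ≠ 1 := fun e1 => hne2 (by rw [e, e1, mul_one])
      obtain ⟨c1, hc1, e1⟩ := K.invert hto hN hv2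
      obtain ⟨c2, hc2, e2⟩ := K.invert hto hN hv
      have hA := K.conj_commutator hN hinv hk e
      rw [e1, e2] at hA
      have hk' : v2⁻¹ * v⁻¹ = v⁻¹ * v2⁻¹ * k := by
        have h0 : (v * v2)⁻¹ = (v2 * v * k⁻¹)⁻¹ := by rw [e, mul_inv_cancel_right]
        simp only [mul_inv_rev, inv_inv] at h0
        rw [h0, ← (K.comm_z hk (mul_mem (inv_mem hv) (inv_mem hv2))).eq]
      rw [K.comm_shift (inv_mem hv2) (inv_mem hv) hc1 hc2 hk hk'] at hA
      exact K.inv_ne hk hk1 (mul_left_cancel hA)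
    · -- so does an element of order four
      exfalso
      have h4 : orderOf h = 4 := by simpa using hio
      have hto : orderOf (h ^ 2) = 2 := by
        rw [orderOf_pow_of_dvd (by norm_num) (by rw [h4]; norm_num), h4]
      obtain ⟨c, hc, e2⟩ := K.invert hto (pow_mem hN 2) hv
      have e2' : h * (h * v * h⁻¹) * h⁻¹ = v⁻¹ * c := by rw [← e2]; simp [pow_two, mul_assoc]
      obtain ⟨k, hk, e⟩ := K.comm_mod hv (hmem hv)
      have hk1 : k ≠ 1 := fun e1 => K.not_commute_image (Or.inl h4) hN hv hvz (by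
        show v * _ = _ * v
        rw [e, e1, mul_one])
      have hA := K.conj_commutator hN hinv hk e
      rw [e2'] at hA
      have hs := K.comm_shift (hmem hv) (inv_mem hv) (one_mem _) hc hk (K.comm_inv hv hk e)
      rw [mul_one] at hs
      rw [hs] at hA
      exact K.inv_ne hk hk1 (mul_left_cancel hA)
    · simpa using hio
  refine ⟨h, hh, hh8, hinv, eq_of_le_of_card_ge (zpowers_le.2 hh) ?_⟩
  rw [hH, Nat.card_zpowers, hh8]

end Stab

end Cfsg.Agent.SmallSimple.Order6048
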