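import Mathlib

/-!
# The involution swapping two of twenty-eight points

The twenty-eight points are the codes `0, …, 26` of the Heisenberg group of order 27 and the further
point `27`. An element of order eight acts on the group by automorphisms. We list the involutions that
swap `0` and `27` and normalise it, and check that all but two of them generate too much.
-/

set_option autoImplicit false
set_option maxRecDepth 100000

namespace Cfsg.Agent.SmallSimple.Order6048.Model

/-- The product of two codes. -/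
def mulN (n m : ℕ) : ℕ :=
  9 * ((n / 9 + m / 9) % 3) + 3 * ((n / 3 % 3 + m / 3 % 3) % 3) +
    (n % 3 + m % 3 + n / 9 * (m / 3 % 3)) % 3

/-- The inverse of a code. -/
def invN (n : ℕ) : ℕ :=
  9 * ((3 - n / 9) % 3) + 3 * ((3 - n / 3 % 3) % 3) + (2 * (n % 3) + n / 9 * (n / 3 % 3)) % 3

/-- The automorphism of order eight. -/
def hN (n : ℕ) : ℕ :=
  9 * ((n / 9 + n / 3 % 3) % 3) + 3 * (n / 9) +
    (2 * (n % 3) + 2 * (n / 9 * (n / 9)) + n / 9 * (n / 3 % 3)) % 3

/-- Its powers. -/
def hpow : ℕ → ℕ → ℕ
  | 0, n => n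
  | k + 1, n => hN (hpow k n)

/-- The exponent locating a code in its orbit. -/
def kOf (n : ℕ) : ℕ :=
  ([0, 0, 0, 7, 7, 7, 3, 3, 3, 0, 0, 0, 1, 1, 1, 6, 6, 6, 4, 4, 4, 2, 2, 2, 5, 5, 5] : List ℕ).getD n 0

/-- The orbit of a code: three of length eight, and the centre. -/
def jOf (n : ℕ) : ℕ :=
  ([3, 3, 3, 0, 2, 1, 0, 2, 1, 0, 1, 2, 2, 1, 0, 2, 0, 1, 0, 1, 2, 2, 0, 1, 2, 1, 0] : List ℕ).getD n 3

/-- The image of a code, from the images of `9`, `10`, `11` and of the centre. -/
def img (s wz n0 n1 n2 x : ℕ) : ℕ :=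
  if x = 0 then 27
  else if x = 27 then 0
  else if x = 1 then wz
  else if x = 2 then 3 - wz
  else hpow (s * kOf x % 8)
    (match jOf x with
      | 0 => n0
      | 1 => n1
      | _ => n2)

/-- Translation by a code, fixing `27`. -/
def transN (p x : ℕ) : ℕ := if x = 27 then 27 else mulN p x

/-- The image of `x` under the product that fixes `27`. -/
def prodN (w : ℕ → ℕ) (p x : ℕ) : ℕ := w (transN (invN (w p)) (w (transN p (w x))))

/-- The product does not lie in the point stabiliser. -/
def bad (w : ℕ → ℕ) (p : ℕ) : Bool :=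
  (List.range 8).all fun k => (List.range 27).any fun x => prodN w p x != mulN (prodN w p 0) (hpow k x)

/-- The first solution. -/
def sol : List ℕ :=
  [27, 2, 1, 6, 17, 20, 3, 23, 11, 9, 12, 8, 10, 15, 26, 13, 16, 4, 18, 24, 5, 25, 22, 7, 19, 21, 14, 0]

/-- The second solution. -/
def sol' : List ℕ :=
  [27, 2, 1, 3, 23, 11, 6, 17, 20, 18, 24, 5, 19, 21, 14, 25, 22, 7, 9, 12, 8, 13, 16, 4, 10, 15, 26, 0]

/-- A candidate is ruled out or is one of the two solutions. -/
def settled (s wz n0 n1 n2 : ℕ) : Bool :=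
  bad (img s wz n0 n1 n2) 1 || bad (img s wz n0 n1 n2) 3 ||
    (List.range 28).map (img s wz n0 n1 n2) == sol || (List.range 28).map (img s wz n0 n1 n2) == sol'

/-- The twenty-four codes outside the centre. -/
def outer : List ℕ := (List.range 24).map (· + 3)

/-- All candidates are settled, for one exponent. -/
def searchOK (s : ℕ) : Bool :=
  outer.all fun n0 => (jOf n0 != 0 || hpow (s * kOf n0 % 8) n0 == 9) == false ||
    outer.all fun n1 => (jOf n0 != 1 || hpow (s * kOf n0 % 8) n1 == 9) == false ||
      (match jOf n1 with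
        | 0 => hpow (s * kOf n1 % 8) n0 != 10
        | 1 => hpow (s * kOf n1 % 8) n1 != 10
        | _ => false) ||
      outer.all fun n2 =>
        (img s 1 n0 n1 n2 n0 != 9 || img s 1 n0 n1 n2 n1 != 10 || img s 1 n0 n1 n2 n2 != 11) ||
          settled s 1 n0 n1 n2 && settled s 2 n0 n1 n2

theorem search1 : searchOK 1 = true := by decide +kernel
theorem search3 : searchOK 3 = true := by decide +kernel
theorem search5 : searchOK 5 = true := by decide +kernel
theorem search7 : searchOK 7 = true := by decide +kernel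

/-- The semi-regularity of the even powers outside the centre. -/
theorem fixed_spec : ∀ k ∈ [2, 4, 6], ∀ n ∈ List.range 27, hpow k n = n → n < 3 := by decide +kernel

theorem closed_spec : ∀ n ∈ List.range 27, ∀ m ∈ List.range 27,
    mulN n m < 27 ∧ hN n < 27 ∧ hN (mulN n m) = mulN (hN n) (hN m) := by decide +kernel

theorem inv_spec : ∀ n ∈ List.range 27, invN n < 27 ∧ mulN (invN n) n = 0 ∧ mulN 0 n = n := by
  decide +kernel

theorem orbit_spec : ∀ n ∈ List.range 27, 3 ≤ n → kOf n < 8 ∧ jOf n < 3 ∧ hpow (kOf n) (9 + jOf n) = n := by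
  decide +kernel

end Cfsg.Agent.SmallSimple.Order6048.Model
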