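import Cfsg.Agent.Lib.PrimeBlock.Integer
import Cfsg.Agent.Lib.PrimeBlock.ThreePrimes
import Cfsg.Agent.Lib.SelfThree.Simple

/-!
# Class multiplication into a self-centralizing Sylow subgroup of prime order
-/

set_option autoImplicit false
set_option linter.style.haveILetI false
set_option linter.unusedSectionVars false

namespace Cfsg.Agent.SmallSimple.Order6048

open Subgroup Cfsg.Agent.Characters Cfsg.Agent.Blocks Cfsg.Agent.PrimeBlock
open scoped ComplexConjugate

universe u

variable {G : Type u} [Group G] [Finite G] {p : ℕ} [Fact p.Prime] {P : Sylow p G}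

/-- The number of ways to write `x` as a product from the classes of `u` and `v`. -/
noncomputable def ways (u v x : G) : ℕ :=
  Nat.card {q : G × G // IsConj u q.1 ∧ IsConj v q.2 ∧ q.1 * q.2 = x}

/-- Only the principal block counts towards the products lying in `P`. -/
theorem ways_eq (D : PBlock P) (hC : Nat.card (centralizer ((P : Subgroup G) : Set G)) = p)
    {θ : Cfsg.IrrCharacter G} (hθ : θ ∈ D.Y) {x u v : G} (hx : x ∈ (P : Subgroup G)) (hx1 : x ≠ 1)
    (hu : ¬ p ∣ orderOf u) (hv : ¬ p ∣ orderOf v) :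
    (ways u v x : ℂ) * (Nat.card (centralizer ({u} : Set G)) : ℂ) *
        (Nat.card (centralizer ({v} : Set G)) : ℂ) =
      (Nat.card G : ℂ) * (∑ χ ∈ D.X, (D.sgn χ : ℂ) * ((χ : G → ℂ) u * (χ : G → ℂ) v) / (deg χ : ℂ)
        + -(D.ε : ℂ) * ((θ : G → ℂ) u * (θ : G → ℂ) v) / (deg θ : ℂ)) := by
  classical
  haveI := Fintype.ofFinite (Cfsg.IrrCharacter G)
  rw [ways, SelfThree.class_constant u v x]
  congr 1
  rw [← Finset.sum_subset (Finset.subset_univ (D.X ∪ D.Y)) fun χ _ hχ => by
    rw [D.eq_zero_of_notMem hC (fun hm => hχ (Finset.mem_union.2 ((D.mem_block χ).1 hm))) hx hx1,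
      map_zero, mul_zero, zero_div], Finset.sum_union D.disj]
  congr 1
  · refine Finset.sum_congr rfl fun χ hχ => ?_
    rw [D.val_X' hχ hx hx1, map_intCast, deg_cast, mul_comm ((χ : G → ℂ) u * (χ : G → ℂ) v)]
  · rw [Finset.sum_congr rfl fun θ' hθ' => by
      rw [D.same θ' hθ' θ hθ u hu, D.same θ' hθ' θ hθ v hv, ← deg_cast, D.deg_Y_eq hθ' hθ]]
    rw [← Finset.sum_div, ← Finset.mul_sum, ← map_sum, D.sum_Y hx hx1, map_neg, map_intCast,
      mul_comm ((θ : G → ℂ) u * (θ : G → ℂ) v)]

/-- A squared sum over some characters is at most the order of the centralizer. -/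
theorem column_le [Fintype (Cfsg.IrrCharacter G)] (g : G) (A : Finset (Cfsg.IrrCharacter G)) :
    ∑ χ ∈ A, Complex.normSq ((χ : G → ℂ) g) ≤ (Nat.card (centralizer ({g} : Set G)) : ℝ) := by
  have h := second_orthogonality g g
  rw [if_pos (IsConj.refl g)] at h
  have h' : ∑ χ : Cfsg.IrrCharacter G, Complex.normSq ((χ : G → ℂ) g) =
      (Nat.card (centralizer ({g} : Set G)) : ℝ) := by
    have := congrArg Complex.re h
    rw [Complex.re_sum, Complex.natCast_re] at this
    simpa only [Complex.mul_conj, Complex.ofReal_re] using this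
  rw [← h']
  exact Finset.sum_le_sum_of_subset_of_nonneg (Finset.subset_univ A) fun χ _ _ => Complex.normSq_nonneg _

/-- Two elements with the same large values on some characters are conjugate. -/
theorem isConj_of_column [Fintype (Cfsg.IrrCharacter G)] {g g' : G}
    (A : Finset (Cfsg.IrrCharacter G)) (heq : ∀ χ ∈ A, (χ : G → ℂ) g = (χ : G → ℂ) g')
    (hbig : (Nat.card (centralizer ({g} : Set G)) : ℝ) + Nat.card (centralizer ({g'} : Set G)) <
      4 * ∑ χ ∈ A, Complex.normSq ((χ : G → ℂ) g)) : IsConj g g' := by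
  by_contra hne
  have h1 := second_orthogonality g g
  have h2 := second_orthogonality g' g'
  have h3 := second_orthogonality g g'
  rw [if_pos (IsConj.refl g)] at h1
  rw [if_pos (IsConj.refl g')] at h2
  rw [if_neg hne] at h3
  have e1 := congrArg Complex.re h1
  have e2 := congrArg Complex.re h2
  have e3 := congrArg Complex.re h3
  rw [Complex.re_sum, Complex.natCast_re] at e1 e2
  rw [Complex.re_sum, Complex.zero_re] at e3
  simp only [Complex.mul_conj, Complex.ofReal_re] at e1 e2
  have htot : ∑ χ : Cfsg.IrrCharacter G, Complex.normSq ((χ : G → ℂ) g + (χ : G → ℂ) g') =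
      (Nat.card (centralizer ({g} : Set G)) : ℝ) + Nat.card (centralizer ({g'} : Set G)) := by
    simp only [Complex.normSq_add, Finset.sum_add_distrib, ← Finset.mul_sum, e1, e2, e3, mul_zero,
      add_zero]
  have hle : ∑ χ ∈ A, Complex.normSq ((χ : G → ℂ) g + (χ : G → ℂ) g') ≤
      ∑ χ : Cfsg.IrrCharacter G, Complex.normSq ((χ : G → ℂ) g + (χ : G → ℂ) g') :=
    Finset.sum_le_sum_of_subset_of_nonneg (Finset.subset_univ A) fun χ _ _ => Complex.normSq_nonneg _
  have hA : ∀ χ ∈ A, Complex.normSq ((χ : G → ℂ) g + (χ : G → ℂ) g') =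
      4 * Complex.normSq ((χ : G → ℂ) g) := fun χ hχ => by
    rw [← heq χ hχ, ← two_mul, Complex.normSq_mul, Complex.normSq_ofNat]; norm_num
  rw [htot, Finset.sum_congr rfl hA, ← Finset.mul_sum] at hle
  linarith

/-- The sum of a character over a subgroup is a multiple of the order. -/
theorem sum_subgroup_eq (χ : Cfsg.IrrCharacter G) (H : Subgroup G) [Fintype H] :
    ∃ k : ℕ, ∑ g : H, (χ : G → ℂ) g = (Nat.card H : ℂ) * k := by
  haveI := Fintype.ofFinite G
  obtain ⟨m, hm⟩ := classInner_char_nat (isCharacter_restrict H (irr_isCharacter χ)) (isCharacter_one (G := H))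
  refine ⟨m, ?_⟩
  rw [← hm, classInner_def, ← mul_assoc, mul_inv_cancel₀ (by exact_mod_cast Nat.card_pos.ne'), one_mul]
  simp

end Cfsg.Agent.SmallSimple.Order6048
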