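import Cfsg.Agent.Lib.SmallSimple.Order6048.Frame

/-!
# Simple groups of order 6048 without elements of orders 9, 14 and 21 are isomorphic
-/

set_option autoImplicit false
set_option linter.style.haveILetI false
set_option linter.unusedSectionVars false
set_option maxRecDepth 100000

namespace Cfsg.Agent.SmallSimple.Order6048

open Subgroup Cfsg.Agent.SmallSimple.Order6048.Model

universe u

/-- The automorphism on the twenty-eight codes. -/
def hExt (x : ℕ) : ℕ := if x = 27 then 27 else Model.hN x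

/-- Its powers. -/
def hpExt (k x : ℕ) : ℕ := if x = 27 then 27 else hpow k x

/-- The four generating permutations, by their values. -/
def genSet : Set (Equiv.Perm (Fin 28)) :=
  {p | (∀ x : Fin 28, ((p x : Fin 28) : ℕ) = transN 9 x) ∨ (∀ x : Fin 28, ((p x : Fin 28) : ℕ) = transN 3 x) ∨
    (∀ x : Fin 28, ((p x : Fin 28) : ℕ) = hExt x) ∨ ∀ x : Fin 28, ((p x : Fin 28) : ℕ) = sol.getD x 0}

theorem hpow_facts : ∀ k ∈ List.range 8, ∀ x ∈ List.range 27,
    hpow k x < 27 ∧ hpow k 0 = 0 ∧ (k % 2 = 0 → x < 3 → hpow k x = x) := by decide +kernel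

theorem sol_spec : ∀ x ∈ List.range 28, sol'.getD (hpExt 4 x) 0 = sol.getD x 0 ∧ hExt x = hpExt 1 x := by
  decide +kernel

theorem code_facts : mulN (invN (mulN 3 9)) (mulN 9 3) = 1 ∧ mulN 0 0 = 0 ∧ mulN 1 0 = 1 ∧ mulN 3 0 = 3 := by
  decide +kernel

theorem mulN_cases : ∀ n ∈ List.range 27, mulN n 0 = n := by decide +kernel

variable {G : Type u} [Group G] [Finite G] [Fact (Nat.Prime 3)]

namespace Frame

variable (F : Frame G)

theorem φ_zero : F.φ 0 = 1 := by
  have h := F.φ_mul 0 (by norm_num) 0 (by norm_num)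
  rw [code_facts.2.1] at h
  exact left_eq_mul.1 h

theorem φ_inv {n : ℕ} (hn : n < 27) : F.φ (invN n) = (F.φ n)⁻¹ := by
  obtain ⟨h1, h2, -⟩ := inv_spec n (List.mem_range.2 hn)
  exact eq_inv_of_mul_eq_one_left (by rw [← F.φ_mul _ h1 _ hn, h2, F.φ_zero])

/-- The points. -/
noncomputable def pt (x : ℕ) : Sylow 3 G := if x = 27 then F.T else F.φ x • F.Q

theorem pt_inf : F.pt 27 = F.T := if_pos rfl

theorem pt_of_lt {x : ℕ} (hx : x < 27) : F.pt x = F.φ x • F.Q := if_neg (by omega)

theorem pt_zero : F.pt 0 = F.Q := by rw [F.pt_of_lt (by norm_num), F.φ_zero, one_smul]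

theorem smul_T {n : ℕ} (hn : n < 27) : F.φ n • F.T = F.T :=
  Sylow.smul_eq_iff_mem_normalizer.2 (le_normalizer (F.φ_mem n hn))

theorem φ_smul {p x : ℕ} (hp : p < 27) (hx : x < 28) : F.φ p • F.pt x = F.pt (transN p x) := by
  rcases eq_or_ne x 27 with rfl | hne
  · rw [transN, if_pos rfl, F.pt_inf, F.smul_T hp]
  · have hx' : x < 27 := by omega
    rw [transN, if_neg hne, F.pt_of_lt hx', F.pt_of_lt (mulN_lt hp hx'), F.φ_mul p hp x hx', mul_smul]

theorem h_pow_fix (k : ℕ) : F.h ^ k • F.T = F.T ∧ F.h ^ k • F.Q = F.Q := by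
  induction k with
  | zero => simp
  | succ k ih =>
    constructor
    · rw [pow_succ, mul_smul, F.h_fix.1, ih.1]
    · rw [pow_succ, mul_smul, F.h_fix.2, ih.2]

theorem hpow_lt {x : ℕ} (hx : x < 27) : ∀ k, hpow k x < 27
  | 0 => hx
  | k + 1 => (closed_spec _ (List.mem_range.2 (hpow_lt hx k)) 0 (by simp)).2.1

theorem φ_conj_pow {n : ℕ} (hn : n < 27) : ∀ k : ℕ, F.h ^ k * F.φ n * (F.h ^ k)⁻¹ = F.φ (hpow k n)
  | 0 => by simp [hpow]
  | k + 1 => by
    rw [pow_succ', show F.h * F.h ^ k * F.φ n * (F.h * F.h ^ k)⁻¹ =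
      F.h * (F.h ^ k * F.φ n * (F.h ^ k)⁻¹) * F.h⁻¹ by group, φ_conj_pow hn k, F.φ_conj _ (hpow_lt hn k)]
    rfl

theorem h_smul (k : ℕ) {x : ℕ} (hx : x < 28) : F.h ^ k • F.pt x = F.pt (hpExt k x) := by
  rcases eq_or_ne x 27 with rfl | hne
  · rw [hpExt, if_pos rfl, F.pt_inf, (F.h_pow_fix k).1]
  · have hx' : x < 27 := by omega
    rw [hpExt, if_neg hne, F.pt_of_lt hx', F.pt_of_lt (hpow_lt hx' k), ← F.φ_conj_pow hx' k, mul_smul,
      mul_smul, inv_smul_eq_iff.2 (F.h_pow_fix k).2.symm]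

theorem pt_inj {x y : ℕ} (hx : x < 28) (hy : y < 28) (h : F.pt x = F.pt y) : x = y := by
  have hne : ∀ {n : ℕ}, n < 27 → F.φ n • F.Q ≠ F.T := fun {n} hn e => F.ne ((smul_left_cancel_iff (F.φ n)).1
    (e.trans (F.smul_T hn).symm))
  rcases eq_or_ne x 27 with rfl | hx' <;> rcases eq_or_ne y 27 with rfl | hy'
  · rfl
  · rw [F.pt_inf, F.pt_of_lt (by omega)] at h
    exact absurd h.symm (hne (by omega))
  · rw [F.pt_inf, F.pt_of_lt (by omega)] at h
    exact absurd h (hne (by omega))
  · have hx27 : x < 27 := by omega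
    have hy27 : y < 27 := by omega
    rw [F.pt_of_lt hx27, F.pt_of_lt hy27] at h
    obtain ⟨hyi, hyy, -⟩ := inv_spec y (List.mem_range.2 hy27)
    have hfix : F.φ (mulN (invN y) x) • F.Q = F.Q := by
      rw [F.φ_mul _ hyi _ hx27, mul_smul, h, F.φ_inv hy27, inv_smul_smul]
    have hlt := mulN_lt hyi hx27
    obtain ⟨k, hk⟩ := mem_zpowers_iff.1 (F.stab _ (F.smul_T hlt) hfix)
    have hd1 : orderOf (F.φ (mulN (invN y) x)) ∣ 8 := by
      rw [← F.h_order, ← hk, ← Nat.card_zpowers F.h]
      exact Subgroup.orderOf_dvd_natCard (zpowers F.h) (zpow_mem (mem_zpowers F.h) k)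
    obtain ⟨i, hi⟩ := IsPGroup.iff_orderOf.1 F.T.isPGroup' ⟨_, F.φ_mem _ hlt⟩
    rw [Subgroup.orderOf_mk] at hi
    have h1 : F.φ (mulN (invN y) x) = 1 := by
      refine orderOf_eq_one_iff.1 (Nat.eq_one_of_dvd_coprimes (show Nat.Coprime 8 (3 ^ i) from
        Nat.Coprime.pow_right _ (by norm_num)) hd1 hi.dvd)
    have key : ∀ x ∈ List.range 27, ∀ y ∈ List.range 27, mulN (invN y) x = 0 → x = y := by decide +kernel
    exact key x (List.mem_range.2 hx27) y (List.mem_range.2 hy27)
      (F.φ_inj _ hlt 0 (by norm_num) (h1.trans F.φ_zero.symm))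

/-- The labelling of the Sylow subgroups. -/
theorem exists_equiv (h28 : Nat.card (Sylow 3 G) = 28) :
    ∃ e : Fin 28 ≃ Sylow 3 G, ∀ x : Fin 28, e x = F.pt x := by
  have hb : Function.Bijective fun x : Fin 28 => F.pt x := by
    rw [Nat.bijective_iff_injective_and_card]
    exact ⟨fun a b h => Fin.ext (F.pt_inj a.isLt b.isLt h), by rw [Nat.card_fin, h28]⟩
  exact ⟨Equiv.ofBijective _ hb, fun x => rfl⟩

end Frame

variable [IsSimpleGroup G]

theorem search_of_odd {s : ℕ} (hs : s < 8) (hodd : s % 2 = 1) : searchOK s = true := by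
  obtain rfl | rfl | rfl | rfl : s = 1 ∨ s = 3 ∨ s = 5 ∨ s = 7 := by omega
  · exact search1
  · exact search3
  · exact search5
  · exact search7

/-- The permutations representing the group. -/
theorem exists_iso (B : Block G) (hG : Nat.card G = 6048) (hgap : Gap G) :
    Nonempty (G ≃* ↥(Subgroup.closure genSet)) := by
  classical
  haveI : Fact (Nat.Prime 2) := ⟨Nat.prime_two⟩
  obtain ⟨F⟩ := exists_frame B hG hgap
  obtain ⟨h28, -, hreg⟩ := regular_others B hG hgap F.T
  obtain ⟨e, he⟩ := F.exists_equiv h28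
  set ι : G →* Equiv.Perm (Fin 28) :=
    (Equiv.permCongrHom e.symm).toMonoidHom.comp (MulAction.toPermHom G (Sylow 3 G)) with hιdef
  have hι : ∀ (g : G) (x : Fin 28), F.pt (ι g x : Fin 28) = g • F.pt x := fun g x => by
    rw [← he, ← he, hιdef]
    simp [Equiv.permCongrHom, Equiv.permCongr_apply]
  have hιi : Function.Injective ι := by
    rw [← MonoidHom.ker_eq_bot_iff]
    refine ι.normal_ker.eq_bot_or_eq_top.resolve_right fun htop => ?_
    obtain ⟨g, hg⟩ := MulAction.exists_smul_eq G F.T F.Q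
    have h := hι g ⟨27, by norm_num⟩
    rw [MonoidHom.mem_ker.1 (htop ▸ mem_top g), Equiv.Perm.one_apply] at h
    simp only [F.pt_inf, hg] at h
    exact F.ne h.symm
  -- an involution interchanging the two points
  obtain ⟨t, hto⟩ := exists_prime_orderOf_dvd_card' (G := G) 2 (by rw [hG]; norm_num)
  obtain ⟨R, hR⟩ : ∃ R : Sylow 3 G, t • R ≠ R := by
    by_contra hcon
    push Not at hcon
    refine orderOf_ne_one hto (by norm_num) (hιi (Equiv.ext fun x => ?_))
    rw [map_one, Equiv.Perm.one_apply]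
    exact Fin.ext (F.pt_inj (ι t x).isLt x.isLt ((hι t x).trans (hcon _)))
  obtain ⟨g0, hg0⟩ := MulAction.exists_smul_eq G R F.T
  have hne0 : g0 • (t • R) ≠ F.T := fun e' => hR ((smul_left_cancel_iff g0).1 (e'.trans hg0.symm))
  obtain ⟨p, hp, hpQ⟩ := hreg (g0 • (t • R)) F.Q hne0 F.ne
  set g := p * g0 with hg
  have hgR : g • R = F.T := by
    rw [hg, mul_smul, hg0, Sylow.smul_eq_iff_mem_normalizer.2 (le_normalizer hp)]
  have hgtR : g • (t • R) = F.Q := by rw [hg, mul_smul, hpQ]
  set w := g * t * g⁻¹ with hw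
  have hw2 : w * w = 1 := by
    rw [hw, show g * t * g⁻¹ * (g * t * g⁻¹) = g * (t * t) * g⁻¹ by group,
      show t * t = 1 by rw [← pow_two, ← hto, pow_orderOf_eq_one]]
    simp
  have hwT : w • F.T = F.Q := by rw [← hgR, hw, mul_smul, inv_smul_smul, mul_smul, hgtR]
  have hwQ : w • F.Q = F.T := by rw [← hwT, ← mul_smul, hw2, one_smul]
  -- its values
  let wf : ℕ → ℕ := fun x => if hx : x < 28 then (ι w ⟨x, hx⟩ : Fin 28) else 0
  have hwf : ∀ {x}, x < 28 → wf x < 28 ∧ F.pt (wf x) = w • F.pt x := fun {x} hx => by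
    simp only [wf, dif_pos hx]
    exact ⟨(ι w ⟨x, hx⟩).isLt, hι w ⟨x, hx⟩⟩
  have hw27 : wf 27 = 0 := F.pt_inj (hwf (by norm_num)).1 (by norm_num) (by
    rw [(hwf (by norm_num)).2, F.pt_inf, hwT, F.pt_zero])
  have hw0 : wf 0 = 27 := F.pt_inj (hwf (by norm_num)).1 (by norm_num) (by
    rw [(hwf (by norm_num)).2, F.pt_zero, hwQ, F.pt_inf])
  have hww : ∀ {x}, x < 28 → wf (wf x) = x := fun {x} hx => F.pt_inj (hwf (hwf hx).1).1 hx (by
    rw [(hwf (hwf hx).1).2, (hwf hx).2, ← mul_smul, hw2, one_smul])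
  have hwlt : ∀ {x}, x < 27 → x ≠ 0 → wf x < 27 := fun {x} hx hx0 => by
    have h1 := (hwf (show x < 28 by omega)).1
    by_contra hge
    have h2 := hww (show x < 28 by omega)
    rw [show wf x = 27 by omega, hw27] at h2
    exact hx0 h2.symm
  have hwpos : ∀ {x}, x < 27 → wf x ≠ 0 := fun {x} hx e0 => by
    have h2 := hww (show x < 28 by omega)
    rw [e0, hw0] at h2
    omega
  -- the exponent
  have hwinv : w⁻¹ = w := inv_eq_of_mul_eq_one_right hw2
  obtain ⟨m, hm⟩ := (mem_powers_iff_mem_zpowers.2 (F.stab (w * F.h * w⁻¹)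
    (by rw [hwinv, mul_smul, mul_smul, hwT, F.h_fix.2, hwQ])
    (by rw [hwinv, mul_smul, mul_smul, hwQ, F.h_fix.1, hwT])) : w * F.h * w⁻¹ ∈ Submonoid.powers F.h)
  set s := m % 8 with hsdef
  have hs8 : s < 8 := Nat.mod_lt _ (by norm_num)
  have hws : ∀ k : ℕ, w * F.h ^ k = F.h ^ (s * k % 8) * w := by
    intro k
    have e1 : F.h ^ s = w * F.h * w⁻¹ := by
      rw [hsdef, ← F.h_order, pow_mod_orderOf]; exact hm
    rw [← F.h_order, pow_mod_orderOf, pow_mul, e1, conj_pow, inv_mul_cancel_right]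
  have hodd : s % 2 = 1 := by
    by_contra heven
    have e1 := hws 4
    rw [show s * 4 % 8 = 0 by omega, pow_zero, one_mul] at e1
    have h4 : F.h ^ 4 = 1 := mul_left_cancel (e1.trans (mul_one w).symm)
    have := orderOf_dvd_of_pow_eq_one h4
    rw [F.h_order] at this
    norm_num at this
  have hwh : ∀ (k : ℕ) {x}, x < 27 → x ≠ 0 → wf (hpow k x) = hpow (s * k % 8) (wf x) := by
    intro k x hx hx0
    have hlt := Frame.hpow_lt hx k
    refine F.pt_inj (hwf (by omega)).1 (lt_trans (Frame.hpow_lt (hwlt hx hx0) _) (by norm_num)) ?_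
    have e1 := F.h_smul k (show x < 28 by omega)
    rw [hpExt, if_neg (show x ≠ 27 by omega)] at e1
    have e2 := F.h_smul (s * k % 8) (show wf x < 28 from (hwf (show x < 28 by omega)).1)
    rw [hpExt, if_neg (show wf x ≠ 27 by have := hwlt hx hx0; omega)] at e2
    rw [(hwf (by omega)).2, ← e1, ← e2, (hwf (show x < 28 by omega)).2, ← mul_smul, hws, mul_smul]
  -- the centre
  have hcz : ∀ {x}, x = 1 ∨ x = 2 → wf x = 1 ∨ wf x = 2 := by
    intro x hx
    have hx27 : x < 27 := by omega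
    have hx0 : x ≠ 0 := by omega
    have e1 := hwh 2 hx27 hx0
    rw [(hpow_facts 2 (by simp) x (List.mem_range.2 hx27)).2.2 rfl (by omega)] at e1
    have hlt := fixed_spec (s * 2 % 8) (by
      simp only [List.mem_cons, List.not_mem_nil, or_false]; omega) (wf x)
      (List.mem_range.2 (hwlt hx27 hx0)) e1.symm
    have := hwpos hx27
    omega
  have hz1 := hcz (x := 1) (Or.inl rfl)
  have hz2 := hcz (x := 2) (Or.inr rfl)
  have hz12 : wf 2 = 3 - wf 1 := by
    have : wf 1 ≠ wf 2 := fun e' => by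
      have h1 := hww (show 1 < 28 by norm_num)
      rw [e', hww (show 2 < 28 by norm_num)] at h1
      omega
    omega
  have hout : ∀ {x}, 3 ≤ x → x < 27 → 3 ≤ wf x ∧ wf x < 27 := by
    intro x hx3 hx
    refine ⟨?_, hwlt hx (by omega)⟩
    by_contra hlt
    have h0 := hwpos hx
    have h2 := hww (show x < 28 by omega)
    have hc := hcz (x := wf x) (by omega)
    omega
  obtain ⟨a0, b0⟩ := hout (show 3 ≤ 9 by norm_num) (by norm_num)
  obtain ⟨a1, b1⟩ := hout (show 3 ≤ 10 by norm_num) (by norm_num)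
  obtain ⟨a2, b2⟩ := hout (show 3 ≤ 11 by norm_num) (by norm_num)
  -- the values follow a candidate
  have himg : ∀ wz, ∀ x, 3 ≤ x → x < 27 → img s wz (wf 9) (wf 10) (wf 11) x = wf x := by
    intro wz x hx3 hx
    obtain ⟨hk, hj, hxe⟩ := orbit_spec x (List.mem_range.2 hx) hx3
    rw [img, if_neg (by omega), if_neg (by omega), if_neg (by omega), if_neg (by omega)]
    conv_rhs => rw [← hxe, hwh (kOf x) (show 9 + jOf x < 27 by omega) (by omega)]
    generalize jOf x = j at hj
    interval_cases j <;> rfl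
  have hall : ∀ x < 28, img s (wf 1) (wf 9) (wf 10) (wf 11) x = wf x := by
    intro x hx
    rcases eq_or_ne x 0 with rfl | h0
    · simp [img, hw0]
    rcases eq_or_ne x 27 with rfl | h27
    · simp [img, hw27]
    rcases eq_or_ne x 1 with rfl | h1
    · simp [img]
    rcases eq_or_ne x 2 with rfl | h2
    · simp [img, hz12]
    exact himg _ x (by omega) (by omega)
  have hrec : ∀ i < 3, ∀ n, n = wf (9 + i) →
      hpow (s * kOf n % 8) (wf (9 + jOf n)) = 9 + i := by
    intro i hi n hn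
    obtain ⟨hn3, hn27⟩ := hout (show 3 ≤ 9 + i by omega) (by omega)
    rw [← hn] at hn3 hn27
    obtain ⟨hk, hj, hne'⟩ := orbit_spec n (List.mem_range.2 hn27) hn3
    rw [← hwh (kOf n) (show 9 + jOf n < 27 by omega) (by omega), hne', hn, hww (by omega)]
  have hmem : ∀ n, 3 ≤ n → n < 27 → n ∈ outer := fun n h3 hlt => by
    simp only [outer, List.mem_map, List.mem_range]
    exact ⟨n - 3, by omega, by omega⟩
  have hset : settled s (wf 1) (wf 9) (wf 10) (wf 11) = true := by
    have h0 := List.all_eq_true.1 (search_of_odd hs8 hodd) _ (hmem _ a0 b0)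
    rw [Bool.or_eq_true] at h0
    have c0 : (jOf (wf 9) != 0 || hpow (s * kOf (wf 9) % 8) (wf 9) == 9) = true := by
      rcases eq_or_ne (jOf (wf 9)) 0 with e0 | e0
      · have := hrec 0 (by norm_num) (wf 9) rfl
        rw [e0] at this
        simp [this]
      · simp [e0]
    rw [c0] at h0
    simp only [Bool.true_eq_false, beq_iff_eq, false_or] at h0
    have h1 := List.all_eq_true.1 h0 _ (hmem _ a1 b1)
    have c1 : (jOf (wf 9) != 1 || hpow (s * kOf (wf 9) % 8) (wf 10) == 9) = true := by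
      rcases eq_or_ne (jOf (wf 9)) 1 with e0 | e0
      · have := hrec 0 (by norm_num) (wf 9) rfl
        rw [e0] at this
        simp [this]
      · simp [e0]
    rw [c1] at h1
    simp only [Bool.or_eq_true, Bool.true_eq_false, beq_iff_eq, false_or] at h1
    have c2 : ¬ ((match jOf (wf 10) with
        | 0 => hpow (s * kOf (wf 10) % 8) (wf 9) != 10
        | 1 => hpow (s * kOf (wf 10) % 8) (wf 10) != 10
        | _ => false) = true) := by
      have := hrec 1 (by norm_num) (wf 10) rfl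
      obtain ⟨-, hj, -⟩ := orbit_spec (wf 10) (List.mem_range.2 b1) a1
      generalize jOf (wf 10) = j at hj this
      interval_cases j <;> simp_all
    have h2 := List.all_eq_true.1 (h1.resolve_left c2) _ (hmem _ a2 b2)
    rw [himg 1 _ a0 b0, himg 1 _ a1 b1, himg 1 _ a2 b2, hww (by norm_num), hww (by norm_num),
      hww (by norm_num)] at h2
    simp only [bne_self_eq_false, Bool.false_or, Bool.and_eq_true] at h2
    rcases hz1 with e1 | e1 <;> rw [e1]
    · exact h2.1
    · exact h2.2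
  -- the products
  have hbad : ∀ p, p = 1 ∨ p = 3 → bad (img s (wf 1) (wf 9) (wf 10) (wf 11)) p = false := by
    intro p hp
    have hp27 : p < 27 := by omega
    have hwp := hwlt hp27 (by omega)
    obtain ⟨hiq, hiq0, -⟩ := inv_spec (wf p) (List.mem_range.2 hwp)
    set γ := w * F.φ (invN (wf p)) * w * F.φ p * w with hγ
    set fw := img s (wf 1) (wf 9) (wf 10) (wf 11)
    have htr : ∀ {q x}, q < 27 → x < 28 → transN q x < 28 := fun {q x} hq hx => by
      unfold transN
      split_ifs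
      · norm_num
      · exact lt_trans (mulN_lt hq (by omega)) (by norm_num)
    have hγx : ∀ x < 28, prodN fw p x < 28 ∧ F.pt (prodN fw p x) = γ • F.pt x := by
      intro x hx
      have l1 := (hwf hx).1
      have l2 := htr hp27 l1
      have l3 := (hwf l2).1
      have l4 := htr hiq l3
      rw [prodN, hall x hx, hall _ l2, hall p (by omega), hall _ l4]
      refine ⟨(hwf l4).1, ?_⟩
      rw [(hwf l4).2, ← F.φ_smul hiq l3, (hwf l2).2, ← F.φ_smul hp27 l1, (hwf hx).2, hγ]
      simp only [mul_smul]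
    have hT : γ • F.T = F.T := by
      obtain ⟨-, h'⟩ := hγx 27 (by norm_num)
      rw [F.pt_inf] at h'
      rw [← h', prodN, hall 27 (by norm_num), hw27]
      have e1 : transN p 0 = p := by
        rcases hp with rfl | rfl
        · exact code_facts.2.2.1
        · exact code_facts.2.2.2
      rw [e1, hall p (by omega), show transN (invN (wf p)) (wf p) = 0 by
        rw [transN, if_neg (by omega), hiq0], hall 0 (by norm_num), hw0, F.pt_inf]
    obtain ⟨hr28, hr⟩ := hγx 0 (by norm_num)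
    rw [F.pt_zero] at hr
    set r := prodN fw p 0 with hrdef
    have hr27 : r < 27 := by
      by_contra hge
      rw [show r = 27 by omega, F.pt_inf] at hr
      exact F.ne ((smul_left_cancel_iff γ).1 (hr.symm.trans hT.symm))
    rw [F.pt_of_lt hr27] at hr
    obtain ⟨k, hk⟩ := (mem_powers_iff_mem_zpowers.2 (F.stab ((F.φ r)⁻¹ * γ)
      (by rw [mul_smul, hT, inv_smul_eq_iff, F.smul_T hr27])
      (by rw [mul_smul, ← hr, inv_smul_smul])) : (F.φ r)⁻¹ * γ ∈ Submonoid.powers F.h)
    have hγe : γ = F.φ r * F.h ^ (k % 8) := by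
      rw [← F.h_order, pow_mod_orderOf, show F.h ^ k = (F.φ r)⁻¹ * γ from hk, mul_inv_cancel_left]
    rw [Bool.eq_false_iff]
    intro hb
    simp only [bad, List.all_eq_true, List.any_eq_true, List.mem_range, bne_iff_ne, ← hrdef] at hb
    obtain ⟨x, hx, hxne⟩ := hb (k % 8) (Nat.mod_lt _ (by norm_num))
    refine hxne ?_
    obtain ⟨hl, he'⟩ := hγx x (by omega)
    have hh := F.h_smul (k % 8) (show x < 28 by omega)
    rw [hpExt, if_neg (by omega)] at hh
    have hlk := Frame.hpow_lt hx (k % 8)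
    refine F.pt_inj hl (lt_trans (mulN_lt hr27 hlk) (by norm_num)) ?_
    rw [he', hγe, mul_smul, hh, F.φ_smul hr27 (by omega), transN, if_neg (by omega)]
  simp only [settled, hbad 1 (Or.inl rfl), hbad 3 (Or.inr rfl), Bool.false_or, Bool.or_eq_true,
    beq_iff_eq] at hset
  -- the involution with the values of the first solution
  obtain ⟨w', hw'⟩ : ∃ w' : G, ∀ x : Fin 28, F.pt (sol.getD x 0) = w' • F.pt x := by
    rcases hset with h | h
    · refine ⟨w, fun x => ?_⟩
      rw [← h, List.getD_eq_getElem _ _ (by simp), List.getElem_map, List.getElem_range,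
        hall _ x.isLt, (hwf x.isLt).2]
    · refine ⟨w * F.h ^ 4, fun x => ?_⟩
      have hlt : hpExt 4 x < 28 := by
        unfold hpExt
        split_ifs with h27
        · norm_num
        · exact lt_trans (Frame.hpow_lt (show (x : ℕ) < 27 by omega) 4) (by norm_num)
      rw [← (sol_spec x (List.mem_range.2 x.isLt)).1, ← h, List.getD_eq_getElem _ _ (by simpa using hlt),
        List.getElem_map, List.getElem_range, hall _ hlt, (hwf hlt).2, mul_smul w (F.h ^ 4), F.h_smul 4 x.isLt]
  -- generation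
  set S0 : Set G := {F.φ 9, F.φ 3, F.h, w'} with hS0
  set L := Subgroup.closure S0 with hL
  have hh : ∀ k : ℕ, F.h ^ k ∈ L := fun k => pow_mem (subset_closure (by simp [hS0])) k
  have h9 : F.φ 9 ∈ L := subset_closure (by simp [hS0])
  have h3 : F.φ 3 ∈ L := subset_closure (by simp [hS0])
  have h1 : F.φ 1 ∈ L := by
    rw [← code_facts.1, F.φ_mul _ (inv_spec _ (List.mem_range.2 (mulN_lt (by norm_num) (by norm_num)))).1 _
      (mulN_lt (by norm_num) (by norm_num)), F.φ_inv (mulN_lt (by norm_num) (by norm_num)),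
      F.φ_mul 3 (by norm_num) 9 (by norm_num), F.φ_mul 9 (by norm_num) 3 (by norm_num)]
    exact mul_mem (inv_mem (mul_mem h3 h9)) (mul_mem h9 h3)
  have hφpow : ∀ n < 27, F.φ n ∈ L → ∀ a : ℕ, F.φ (powN n a) ∈ L := by
    intro n hn hmem' a
    induction a with
    | zero => rw [powN, F.φ_zero]; exact one_mem _
    | succ a ih =>
      rw [powN, F.φ_mul _ (powN_lt hn a) _ hn]
      exact mul_mem ih hmem'
  have hφL : ∀ n < 27, F.φ n ∈ L := by
    intro n hn
    rw [← code_spec n (List.mem_range.2 hn),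
      F.φ_mul _ (mulN_lt (powN_lt (by norm_num) _) (powN_lt (by norm_num) _)) _ (powN_lt (by norm_num) _),
      F.φ_mul _ (powN_lt (by norm_num) _) _ (powN_lt (by norm_num) _)]
    exact mul_mem (mul_mem (hφpow 9 (by norm_num) h9 _) (hφpow 3 (by norm_num) h3 _)) (hφpow 1 (by norm_num) h1 _)
  have hM : ∀ g : G, g • F.T = F.T → g ∈ L := by
    intro g hg'
    have hy : ι g ⟨0, by norm_num⟩ ≠ ⟨27, by norm_num⟩ := fun e' => by
      have h := hι g ⟨0, by norm_num⟩
      rw [e'] at h
      simp only [F.pt_inf, F.pt_zero] at h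
      exact F.ne ((smul_left_cancel_iff g).1 (h.symm.trans hg'.symm))
    set y : ℕ := ((ι g ⟨0, by norm_num⟩ : Fin 28) : ℕ) with hydef
    have hy27 : y < 27 := by
      have := (ι g ⟨0, by norm_num⟩).isLt
      by_contra hge
      exact hy (Fin.ext (show y = 27 by omega))
    have hgQ : F.φ y • F.Q = g • F.Q := by
      have h := hι g ⟨0, by norm_num⟩
      rw [← hydef, F.pt_of_lt hy27] at h
      simpa only [F.pt_zero] using h
    have hs' := F.stab ((F.φ y)⁻¹ * g) (by rw [mul_smul, hg', inv_smul_eq_iff, F.smul_T hy27])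
      (by rw [mul_smul, ← hgQ, inv_smul_smul])
    obtain ⟨k, hk⟩ := (mem_powers_iff_mem_zpowers.2 hs' : (F.φ y)⁻¹ * g ∈ Submonoid.powers F.h)
    rw [show g = F.φ y * F.h ^ k by rw [show F.h ^ k = (F.φ y)⁻¹ * g from hk, mul_inv_cancel_left]]
    exact mul_mem (hφL y hy27) (hh k)
  have hwT' : w' • F.T = F.Q := by
    have h := hw' ⟨27, by norm_num⟩
    rw [show sol.getD ((⟨27, by norm_num⟩ : Fin 28) : ℕ) 0 = 0 from rfl, F.pt_zero] at h
    simpa only [F.pt_inf] using h.symm
  have htop : L = ⊤ := by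
    refine eq_top_iff.2 fun g _ => ?_
    by_cases hg' : g • F.T = F.T
    · exact hM g hg'
    · obtain ⟨p, hp, hpQ⟩ := hreg (g • F.T) F.Q hg' F.ne
      have hin := hM (w'⁻¹ * (p * g)) (by rw [mul_smul, mul_smul, hpQ, inv_smul_eq_iff, hwT'])
      have hpL : p ∈ L := hM p (Sylow.smul_eq_iff_mem_normalizer.2 (le_normalizer hp))
      have hw'L : w' ∈ L := subset_closure (by simp [hS0])
      have := mul_mem (inv_mem hpL) (mul_mem hw'L hin)
      rwa [mul_inv_cancel_left, inv_mul_cancel_left] at this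
  have himage : ι '' S0 = genSet := by
    have hval : ∀ (a : G) (f : ℕ → ℕ), (∀ x : Fin 28, f x < 28 ∧ a • F.pt x = F.pt (f x)) →
        ∀ x : Fin 28, ((ι a x : Fin 28) : ℕ) = f x := fun a f hf x =>
      F.pt_inj (ι a x).isLt (hf x).1 ((hι a x).trans (hf x).2)
    have hlt : ∀ {q : ℕ}, q < 27 → ∀ x : Fin 28, transN q x < 28 := fun {q} hq x => by
      unfold transN
      split_ifs with h27
      · norm_num
      · exact lt_trans (mulN_lt hq (by omega)) (by norm_num)
    have v9 := hval (F.φ 9) (transN 9) fun x => ⟨hlt (by norm_num) x, F.φ_smul (by norm_num) x.isLt⟩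
    have v3 := hval (F.φ 3) (transN 3) fun x => ⟨hlt (by norm_num) x, F.φ_smul (by norm_num) x.isLt⟩
    have vh := hval F.h hExt fun x => by
      rw [(sol_spec x (List.mem_range.2 x.isLt)).2]
      refine ⟨?_, by rw [← F.h_smul 1 x.isLt, pow_one]⟩
      unfold hpExt
      split_ifs with h27
      · norm_num
      · exact lt_trans (Frame.hpow_lt (show (x : ℕ) < 27 by omega) 1) (by norm_num)
    have hsol : ∀ x : Fin 28, sol.getD x 0 < 28 := by decide +kernel
    have vw := hval w' (fun x => sol.getD x 0) fun x => ⟨hsol x, (hw' x).symm⟩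
    ext σ
    constructor
    · rintro ⟨a, ha, rfl⟩
      simp only [hS0, Set.mem_insert_iff, Set.mem_singleton_iff] at ha
      rcases ha with rfl | rfl | rfl | rfl
      · exact Or.inl v9
      · exact Or.inr (Or.inl v3)
      · exact Or.inr (Or.inr (Or.inl vh))
      · exact Or.inr (Or.inr (Or.inr vw))
    · rintro (h | h | h | h)
      · exact ⟨F.φ 9, by simp [hS0], Equiv.ext fun x => Fin.ext ((v9 x).trans (h x).symm)⟩
      · exact ⟨F.φ 3, by simp [hS0], Equiv.ext fun x => Fin.ext ((v3 x).trans (h x).symm)⟩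
      · exact ⟨F.h, by simp [hS0], Equiv.ext fun x => Fin.ext ((vh x).trans (h x).symm)⟩
      · exact ⟨w', by simp [hS0], Equiv.ext fun x => Fin.ext ((vw x).trans (h x).symm)⟩
  have hrange : ι.range = Subgroup.closure genSet := by
    rw [← himage, ← MonoidHom.map_closure, ← hL, htop, MonoidHom.range_eq_map]
  exact ⟨(MonoidHom.ofInjective hιi).trans (MulEquiv.subgroupCongr hrange)⟩

omit [Fact (Nat.Prime 3)] in
/-- Two simple groups of order 6048 without elements of orders 9, 14 and 21 are isomorphic. -/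
theorem unique {H : Type*} [Group H] [Finite H] [IsSimpleGroup H] (hG : Nat.card G = 6048)
    (hH : Nat.card H = 6048) (gG : Gap G) (gH : Gap H) : Nonempty (G ≃* H) := by
  haveI : Fact (Nat.Prime 3) := ⟨Nat.prime_three⟩
  obtain ⟨BG⟩ := exists_block hG gG
  obtain ⟨BH⟩ := exists_block hH gH
  obtain ⟨a⟩ := exists_iso BG hG gG
  obtain ⟨b⟩ := exists_iso BH hH gH
  exact ⟨a.trans b.symm⟩

end Cfsg.Agent.SmallSimple.Order6048
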