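import Cfsg.Agent.Lib.SmallSimple.Order6048.Twelve
import Cfsg.Agent.Lib.SmallSimple.Order6048.Unique
import Cfsg.Agent.Lib.Chevalley.Exceptional.G2TwoIso
import Cfsg.Agent.Lib.Classical.PSUThreeSpectrum
import Cfsg.Agent.Lib.AutPSU.Count
import Mathlib.FieldTheory.Finite.GaloisField

/-!
# The group of type G2 over two elements by order and spectrum
-/

set_option autoImplicit false
set_option linter.style.haveILetI false
set_option linter.unusedSectionVars false
set_option maxRecDepth 100000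

namespace Cfsg.Agent.SmallSimple.Order6048

open Subgroup Cfsg.Lie

/-- A group with a normal subgroup of index two and trivial centralizer inside the automorphisms. -/
theorem equiv_mulAut {G P : Type*} [Group G] [Finite G] [Group P] [Finite P] (S : Subgroup G) [S.Normal]
    (hC : centralizer (S : Set G) = ⊥) (e : S ≃* P) (hcard : Nat.card G = Nat.card (MulAut P)) :
    Nonempty (G ≃* MulAut P) := by
  let f : G →* MulAut P := (MulAut.congr e).toMonoidHom.comp MulAut.conjNormal
  have hf : Function.Injective f := by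
    refine (injective_iff_map_eq_one f).2 fun g hg => ?_
    have h1 : (MulAut.conjNormal g : MulAut S) = 1 :=
      (MulAut.congr e).injective (hg.trans (map_one _).symm)
    refine Subgroup.mem_bot.1 (hC ▸ mem_centralizer_iff.2 fun s hs => ?_)
    have h2 := congrArg Subtype.val (DFunLike.congr_fun h1 ⟨s, hs⟩)
    rw [MulAut.conjNormal_apply, MulAut.one_apply] at h2
    exact (mul_inv_eq_iff_eq_mul.1 h2).symm
  exact ⟨MulEquiv.ofBijective f ((Nat.bijective_iff_injective_and_card f).2 ⟨hf, hcard⟩)⟩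

/-- No element inverts an element of order seven inside a group of order 6048. -/
theorem no_invert {G : Type*} [Group G] [Finite G] (hG : Nat.card G = 6048) (hgap : Gap G) {u y : G}
    (hy : orderOf y = 7) (huy : u * y * u⁻¹ = y⁻¹) : False := by
  haveI : Fact (Nat.Prime 7) := ⟨by norm_num⟩
  obtain ⟨Q, hyQ, hy1⟩ := Order2520.exists_sylow
    (fun R => (hgap.sylow7 (Or.inr (Or.inl hG)) R).1) hy
  obtain ⟨hQ, -, -, hN⟩ := hgap.sylow7 (Or.inr (Or.inl hG)) Q
  have hQy : zpowers y = (Q : Subgroup G) := Centralize.sylow_le_iff_mem hyQ hy1 hQ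
  have huN : u ∈ normalizer ((Q : Subgroup G) : Set G) := by
    rw [← hQy]
    refine mem_normalizer_fintype fun x hx => ?_
    obtain ⟨k, rfl⟩ := mem_zpowers_iff.1 hx
    rw [← conj_zpow, huy]
    exact zpow_mem (inv_mem (mem_zpowers y)) k
  have hd := orderOf_dvd_natCard (⟨u, huN⟩ : normalizer ((Q : Subgroup G) : Set G))
  rw [orderOf_mk, show Nat.card (normalizer ((Q : Subgroup G) : Set G)) = 21 by omega] at hd
  have h21 : u ^ 21 = 1 := orderOf_dvd_iff_pow_eq_one.1 hd
  have h2 : u ^ 2 * y = y * u ^ 2 := mul_inv_eq_iff_eq_mul.1 (by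
    rw [pow_two, show u * u * y * (u * u)⁻¹ = u * (u * y * u⁻¹) * u⁻¹ by group, huy, ← conj_inv, huy,
      inv_inv])
  have hc : u * y = y * u := by
    have h := (show Commute (u ^ 2) y from h2).pow_left 11
    rwa [← pow_mul, show 2 * 11 = 21 + 1 from rfl, pow_add, h21, one_mul, pow_one] at h
  have hyy : y * y = 1 := by
    rw [hc, mul_inv_cancel_right] at huy
    nth_rw 2 [huy]
    exact mul_inv_cancel y
  have := orderOf_dvd_of_pow_eq_one ((pow_two y).trans hyy)
  rw [hy] at this
  norm_num at this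

theorem gap_PSU {K : Type*} [Field K] [Fintype K] (hK : Fintype.card K = 9) : Gap (Cfsg.PSU 3 K 3) := by
  intro g
  haveI : Fact (Nat.Prime 3) := ⟨Nat.prime_three⟩
  have hK' : Fintype.card K = 3 ^ 2 := by rw [hK]; norm_num
  haveI : CharP K 3 := charP_of_card_eq_prime_pow hK'
  have h := Classical.PSUThree.spectrum (F := K) (q := 3) 3 (by norm_num) hK'
  have hg : orderOf g ∈ Set.range (orderOf : Cfsg.PSU 3 K 3 → ℕ) := ⟨g, rfl⟩
  rw [h] at hg
  simp only [Set.mem_union, Set.mem_setOf_eq] at hg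
  norm_num at hg
  refine ⟨?_, ?_, ?_⟩ <;> intro e <;> rw [e] at hg <;> norm_num at hg

theorem card_PSU {K : Type*} [Field K] [Fintype K] (hK : Fintype.card K = 9) :
    Nat.card (Cfsg.PSU 3 K 3) = 6048 := by
  classical
  have hF9 : Fintype.card K = 3 ^ 2 := by rw [hK]; norm_num
  have h := Cfsg.Agent.Classical.Unitary.natCard_PSU_mul hF9 (n := 3) (by norm_num)
  rw [Cfsg.Agent.Classical.Unitary.natCard_GU hF9] at h
  norm_num [Finset.prod_range_succ, Nat.even_iff] at h
  simp only [Nat.card_eq_fintype_card] at h ⊢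
  omega

theorem card_mulAut_PSU {K : Type*} [Field K] [Fintype K] (hK : Fintype.card K = 9) :
    Nat.card (MulAut (Cfsg.PSU 3 K 3)) = 12096 := by
  have hF9 : Fintype.card K = 3 ^ 2 := by rw [hK]; norm_num
  haveI : Fact (Nat.Prime 3) := ⟨Nat.prime_three⟩
  rw [AutPSU.Count.card_mulAut hF9 3 (f := 1) (by norm_num) le_rfl (by norm_num), card_PSU hK]
  norm_num

theorem witness_ok : Exceptional.G2Two.eqE (Exceptional.G2Two.word
      [7, 2, 8, 2, 7, 2, 8, 2, 7, 2, 8, 2, 7, 2, 8, 2, 7, 2, 8, 2, 7, 2, 8, 2, 7, 2, 8, 2])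
      Exceptional.G2Two.oneE = true ∧
    Exceptional.G2Two.eqE (Exceptional.G2Two.word [7, 2, 8, 2]) Exceptional.G2Two.oneE = false := by
  decide +kernel

theorem witness_noncomm : ∃ i j : Fin 3,
    Exceptional.G2Two.eq3 (((Exceptional.G2Two.word [7, 2, 8, 2]).1 i j -
        (1 : Matrix (Fin 3) (Fin 3) Exceptional.G2Two.E) i j) *
      star ((Exceptional.G2Two.word [7, 2, 8, 2]).1 i j -
        (1 : Matrix (Fin 3) (Fin 3) Exceptional.G2Two.E) i j)) 1 = true ∨
    Exceptional.G2Two.eq3 (((Exceptional.G2Two.word [7, 2, 8, 2]).1 i j -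
        (1 : Matrix (Fin 3) (Fin 3) Exceptional.G2Two.E) i j) *
      star ((Exceptional.G2Two.word [7, 2, 8, 2]).1 i j -
        (1 : Matrix (Fin 3) (Fin 3) Exceptional.G2Two.E) i j)) 2 = true := by
  decide +kernel

theorem witness_flag : (Exceptional.G2Two.word [7, 2, 8, 2]).2 = false := by decide +kernel

section

open Cfsg.Agent.Exceptional.G2Two

open scoped Matrix

variable {K : Type*} [Field K] [Fintype K] (d : Data K)

theorem witness_ne : imgL d [7, 2, 8, 2] ≠ 1 := by
  intro e
  obtain ⟨h1, -⟩ := imgL_eq d [7, 2, 8, 2] (by simp)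
  obtain ⟨i, j, h⟩ := witness_noncomm
  have hv := congrFun ((h1 (Pi.single j 1)).symm.trans (by rw [e]; rfl) :
    act d (word [7, 2, 8, 2]) (Pi.single j 1) = Pi.single j 1) i
  rw [act, witness_flag, cv, if_neg Bool.false_ne_true, Matrix.mulVec_single_one] at hv
  have hz : d.ι ((word [7, 2, 8, 2]).1 i j - (1 : Matrix (Fin 3) (Fin 3) E) i j) = 0 := by
    rw [map_sub, sub_eq_zero]
    refine (show ((word [7, 2, 8, 2]).1.map d.ι) i j = _ from hv).trans ?_
    simp [Matrix.one_apply, Pi.single_apply, apply_ite d.ι]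
  have h3 : (3 : K) = 0 := by rw [← map_ofNat d.ι]; exact d.ι_three
  rcases h with h | h <;> have e' := ι_eq3 d h <;> rw [map_mul, hz, zero_mul] at e'
  · rw [map_one] at e'; exact zero_ne_one e'
  · rw [map_ofNat] at e'; exact one_ne_zero (show (1 : K) = 0 by linear_combination h3 + e')

variable {F : Type*} [Field F] [Fintype F]

/-- An involution outside the derived group inverting an element of order seven. -/
theorem exists_outer (hK : Fintype.card K = 9) (hF : Fintype.card F = 2) :
    ∃ a y : ↥(chevG2.group F), orderOf y = 7 ∧ a * y * a⁻¹ = y⁻¹ ∧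
      a ∉ commutator ↥(chevG2.group F) := by
  classical
  obtain ⟨d⟩ := exists_data hK
  haveI : Fact (Nat.Prime 2) := ⟨Nat.prime_two⟩
  open Cfsg.Agent.Chevalley in
  have hC := Types.G2.certified
  open Cfsg.Agent.Chevalley in
  have hT : StKernel.HasCerts _ := ⟨⟨_, Types.CoefG2.coef_ok⟩, ⟨_, Types.StCerts.conj_G2⟩⟩
  open Cfsg.Agent.Chevalley in
  obtain ⟨S, hS⟩ : ∃ S, S = StSteinberg.stSys hC (StSteinberg.stHom hC)
      (StSteinberg.stHom_gen (F := F) hC) := ⟨_, rfl⟩
  open Cfsg.Agent.Chevalley in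
  obtain ⟨θ, hθdef⟩ : ∃ θ, θ = StSteinberg.stHom (F := F) hC := ⟨_, rfl⟩
  have hSθ : S.th = θ := by rw [hS, hθdef]; rfl
  open Cfsg.Agent.Chevalley in
  have hθi : Function.Injective θ := by
    rw [← hSθ, ← MonoidHom.ker_eq_bot_iff, eq_bot_iff]
    refine (StKernel.ker_le_Hbar S hT).trans ((Subgroup.closure_le _).2 ?_)
    rintro g ⟨i, c, hi, hc, rfl⟩
    rw [(zero_or_one hF c).resolve_left hc, SetLike.mem_coe, Subgroup.mem_bot, StKernel.hb,
      ← StConj.nb_inv S (hC.simple_lt hi), mul_inv_cancel]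
  open Cfsg.Agent.Chevalley in
  have hθr : θ.range = chevG2.group F := hSθ ▸ StKernel.th_range S
  let e : chevG2.SteinbergGroup F ≃* chevG2.group F :=
    (MonoidHom.ofInjective hθi).trans (MulEquiv.subgroupCongr hθr)
  obtain ⟨ψ, hψ⟩ : ∃ ψ : chevG2.group F →* Equiv.Perm (V K) × Multiplicative (ZMod 2),
      ψ = (PresentedGroup.toGroup (rels d hF)).comp e.symm.toMonoidHom := ⟨_, rfl⟩
  let g : ∀ r : ℕ, r < 12 → ↥(chevG2.group F) := fun r hr =>
    e (PresentedGroup.of ((⟨r, hr⟩, (1 : F)) : Fin chevG2.nroots × F))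
  have hgen : ∀ r (hr : r < 12), ψ (g r hr) = img1 d r := by
    intro r hr
    rw [hψ, MonoidHom.comp_apply, MulEquiv.toMonoidHom_eq_coe, MonoidHom.coe_coe,
      MulEquiv.symm_apply_apply, PresentedGroup.toGroup.of, img_one]
  have hsq : ∀ r (hr : r < 12), g r hr * g r hr = 1 := by
    intro r hr
    let xt : F → chevG2.SteinbergGroup F := fun t =>
      PresentedGroup.of ((⟨r, hr⟩, t) : Fin chevG2.nroots × F)
    have hadd : ∀ s t : F, xt s * xt t = xt (s + t) := fun s t => by
      have h := PresentedGroup.one_of_mem (rels := chevG2.steinbergRels F)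
        (x := chevG2.stX r s * chevG2.stX r t * (chevG2.stX r (s + t))⁻¹)
        (Or.inl (Or.inl ⟨r, s, t, hr, rfl⟩))
      rw [map_mul, map_mul, map_inv, mul_inv_eq_one, ChevalleyDatum.stX, ChevalleyDatum.stX,
        ChevalleyDatum.stX, dif_pos (show r < chevG2.nroots from hr), dif_pos (show r < chevG2.nroots from hr), dif_pos (show r < chevG2.nroots from hr)] at h
      exact h
    have h0 : xt 0 = 1 := by
      have h := hadd 0 0
      rwa [add_zero, mul_eq_left] at h
    show e (xt 1) * e (xt 1) = 1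
    rw [← map_mul, hadd, two_zero hF, h0, map_one]
  set a := g 7 (by norm_num) with ha
  set b := g 2 (by norm_num) * g 8 (by norm_num) * g 2 (by norm_num) with hb
  have ha2 := hsq 7 (by norm_num)
  have hb2 : b * b = 1 := by
    rw [hb]
    simp only [mul_assoc]
    rw [← mul_assoc (g 2 _) (g 2 _), hsq, one_mul, ← mul_assoc (g 8 _) (g 8 _), hsq, one_mul, hsq]
  have hab : a * (a * b) * a⁻¹ = (a * b)⁻¹ := by
    rw [← mul_assoc, ha2, one_mul, mul_inv_rev, inv_eq_of_mul_eq_one_right hb2,
      inv_eq_of_mul_eq_one_right ha2]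
  have hψx : ψ (a * b) = imgL d [7, 2, 8, 2] := by
    simp [ha, hb, map_mul, hgen, imgL, mul_assoc]
  have hψo : orderOf (ψ (a * b)) = 7 := by
    haveI : Fact (Nat.Prime 7) := ⟨by norm_num⟩
    rw [hψx]
    refine orderOf_eq_prime ?_ (witness_ne d)
    have := imgL_of_eqE d (L := [7, 2, 8, 2, 7, 2, 8, 2, 7, 2, 8, 2, 7, 2, 8, 2, 7, 2, 8, 2, 7, 2, 8, 2, 7, 2, 8, 2])
      (L' := []) (by simp) (by simp) witness_ok.1
    simpa [imgL, pow_succ, mul_assoc] using this
  obtain ⟨k, hk⟩ : 7 ∣ orderOf (a * b) := hψo ▸ orderOf_map_dvd ψ (a * b)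
  have hk0 : k ≠ 0 := by
    rintro rfl
    exact (orderOf_pos (a * b)).ne' (by rw [hk, mul_zero])
  refine ⟨a, (a * b) ^ k, ?_, by rw [← conj_pow, hab, inv_pow], ?_⟩
  · rw [orderOf_pow_of_dvd hk0 (hk ▸ dvd_mul_left k 7), hk, Nat.mul_div_cancel _ (Nat.pos_of_ne_zero hk0)]
  · intro hmem
    have h := Abelianization.commutator_subset_ker ((MonoidHom.snd _ _).comp ψ) hmem
    rw [MonoidHom.mem_ker, MonoidHom.comp_apply, MonoidHom.coe_snd, ha, hgen, img1, dif_pos (by norm_num),
      three_ok.2.2] at h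
    exact bs_true_ne h

end

section Target

variable {F : Type*} [Field F] [Fintype F]

theorem card_target (hF : Fintype.card F = 2) : Nat.card (chevG2.group F) = 12096 := by
  classical
  open Cfsg.Agent.Chevalley in
  have h := Types.OrderG2.card_group F
  rw [hF] at h
  norm_num [Fin.prod_univ_two] at h
  simp only [Nat.card_eq_fintype_card] at h ⊢
  omega

/-- The spectrum gap, the derived group and its centralizer in the target. -/
theorem target (hF : Fintype.card F = 2) {K : Type*} [Field K] [Fintype K] (hK : Fintype.card K = 9) :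
    Gap ↥(chevG2.group F) ∧ Nonempty (↥(chevG2.group F) ≃* MulAut (Cfsg.PSU 3 K 3)) := by
  classical
  haveI : Fact (Nat.Prime 7) := ⟨by norm_num⟩
  haveI : Finite ↥(chevG2.group F) := Nat.finite_of_card_ne_zero (by rw [card_target hF]; norm_num)
  obtain ⟨eN⟩ := Exceptional.G2Two.main hK hF
  set N := commutator ↥(chevG2.group F) with hNdef
  have hT := card_target hF
  have hNc : Nat.card N = 6048 := (Nat.card_congr eN.toEquiv).trans (card_PSU hK)
  have hidx : N.index = 2 := by
    have := N.card_mul_index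
    rw [hNc, hT] at this
    omega
  have gN : Gap N := fun g => by
    rw [← eN.orderOf_eq g]
    exact gap_PSU hK (eN g)
  have hN7 : ∀ z : ↥(chevG2.group F), orderOf z = 7 → z ∈ N := fun z hz => by
    have h := sq_mem_of_index_two hidx (z ^ 4)
    rwa [← pow_mul, show 4 * 2 = 7 + 1 from rfl, pow_add, ← hz, pow_orderOf_eq_one, one_mul, pow_one] at h
  obtain ⟨a, y, hy, hay, haN⟩ := exists_outer hK hF
  have hyN := hN7 y hy
  have hcN : centralizer ({y} : Set ↥(chevG2.group F)) ≤ N := by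
    intro t ht
    by_contra htN
    have htaN : t * a ∈ N := (mul_mem_iff_of_index_two hidx).2 (iff_of_false htN haN)
    refine no_invert hNc gN (u := ⟨t * a, htaN⟩) (y := ⟨y, hyN⟩) (by rwa [orderOf_mk]) (Subtype.ext ?_)
    show t * a * y * (t * a)⁻¹ = y⁻¹
    rw [show t * a * y * (t * a)⁻¹ = t * (a * y * a⁻¹) * t⁻¹ by group, hay, ← conj_inv,
      mul_inv_eq_iff_eq_mul.2 (mem_centralizer_singleton_iff.1 ht)]
  have hcy : Nat.card (centralizer ({y} : Set ↥(chevG2.group F))) = 7 := by
    have e : (centralizer ({y} : Set ↥(chevG2.group F))).subgroupOf N = centralizer ({⟨y, hyN⟩} : Set N) := by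
      ext z
      simp [mem_subgroupOf, mem_centralizer_singleton_iff, Subtype.ext_iff]
    rw [← Nat.card_congr (subgroupOfEquivOfLe hcN).toEquiv, e]
    exact gN.cent7 (by rw [hNc]; norm_num) (by rwa [orderOf_mk])
  have hall : ∀ z : ↥(chevG2.group F), orderOf z = 7 → Nat.card (centralizer ({z} : Set ↥(chevG2.group F))) = 7 := by
    intro z hz
    have hS : ∀ R : Sylow 7 ↥(chevG2.group F), Nat.card (R : Subgroup ↥(chevG2.group F)) = 7 := fun R =>
      (Basic.card_sylow_eq_pow (a := 1) (m := 1728) (by rw [hT]; norm_num) (by norm_num) R).trans (pow_one _)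
    obtain ⟨R, hzR, hz1⟩ := Order2520.exists_sylow hS hz
    obtain ⟨Q, hyQ, hy1⟩ := Order2520.exists_sylow hS hy
    obtain ⟨c, hc⟩ := MulAction.exists_smul_eq ↥(chevG2.group F) R Q
    have hRz := Centralize.sylow_le_iff_mem hzR hz1 (hS R)
    have hQy := Centralize.sylow_le_iff_mem hyQ hy1 (hS Q)
    have hcz : c * z * c⁻¹ ∈ zpowers y := by
      rw [hQy, ← hc]
      exact ⟨z, hzR, rfl⟩
    have hcz1 : c * z * c⁻¹ ≠ 1 := fun e => hz1 (conj_eq_one_iff.1 e)
    rw [SelfThree.card_centralizer_of_isConj (isConj_iff.2 ⟨c, rfl⟩ : IsConj z (c * z * c⁻¹)),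
      Order2520.cent_eq (hS Q) (hQy ▸ hcz) hcz1, ← Order2520.cent_eq (hS Q) hyQ hy1]
    exact hcy
  have gT : Gap ↥(chevG2.group F) := by
    intro g
    refine ⟨fun h => ?_, fun h => ?_, fun h => ?_⟩
    · have hm := sq_mem_of_index_two hidx (g ^ 5)
      rw [← pow_mul, show 5 * 2 = 9 + 1 from rfl, pow_add, ← h, pow_orderOf_eq_one, one_mul, pow_one] at hm
      exact (gN ⟨g, hm⟩).1 (by rwa [orderOf_mk])
    · have hz : orderOf (g ^ 2) = 7 := by rw [orderOf_pow, h]; rfl
      have hd := orderOf_dvd_natCard (⟨g, mem_centralizer_singleton_iff.2 ((Commute.refl g).pow_right 2)⟩ :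
        centralizer ({g ^ 2} : Set ↥(chevG2.group F)))
      rw [orderOf_mk, h, hall _ hz] at hd
      norm_num at hd
    · have hz : orderOf (g ^ 3) = 7 := by rw [orderOf_pow, h]; rfl
      have hd := orderOf_dvd_natCard (⟨g, mem_centralizer_singleton_iff.2 ((Commute.refl g).pow_right 3)⟩ :
        centralizer ({g ^ 3} : Set ↥(chevG2.group F)))
      rw [orderOf_mk, h, hall _ hz] at hd
      norm_num at hd
  refine ⟨gT, equiv_mulAut N ?_ eN ((card_target hF).trans (card_mulAut_PSU hK).symm)⟩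
  haveI : IsSimpleGroup N := by
    haveI := Cfsg.Agent.Classical.Unitary.isSimpleGroup_PSU (q := 3)
      (show Fintype.card K = 3 ^ 2 by rw [hK]; norm_num) (le_refl 3) (by omega)
    exact eN.isSimpleGroup
  refine (eq_bot_iff_forall _).2 fun c hc => ?_
  have hcN' : c ∈ N := hcN (mem_centralizer_singleton_iff.2 (mem_centralizer_iff.1 hc y hyN).symm)
  have hcen : (⟨c, hcN'⟩ : N) ∈ center N := mem_center_iff.2 fun s =>
    Subtype.ext (mem_centralizer_iff.1 hc s s.2)
  rcases (inferInstance : (center N).Normal).eq_bot_or_eq_top with hb | ht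
  · rw [hb, mem_bot] at hcen
    exact congrArg Subtype.val hcen
  · exact absurd ((isMulCommutative_iff).2 fun u v => (mem_center_iff.1 (ht ▸ mem_top u) v).symm)
      (Basic.not_comm_of_not_prime (by rw [hNc]; norm_num))

/-- Characterization by order and spectrum. -/
theorem equiv_of_spectrum {G : Type*} [Group G] [Finite G] (hF : Fintype.card F = 2)
    (hs : Set.range (orderOf : G → ℕ) = Set.range (orderOf : ↥(chevG2.group F) → ℕ))
    (hG : Nat.card G = 12096) : Nonempty (G ≃* ↥(chevG2.group F)) := by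
  haveI : Fact (Nat.Prime 3) := ⟨Nat.prime_three⟩
  haveI : Fintype (GaloisField 3 2) := Fintype.ofFinite _
  have hK : Fintype.card (GaloisField 3 2) = 9 := by
    rw [← Nat.card_eq_fintype_card, GaloisField.card 3 2 (by norm_num)]; norm_num
  obtain ⟨gT, ⟨eT⟩⟩ := target hF hK
  have hgap : Gap G := fun g => by
    obtain ⟨t, ht⟩ : orderOf g ∈ Set.range (orderOf : ↥(chevG2.group F) → ℕ) := hs ▸ ⟨g, rfl⟩
    rw [← ht]
    exact gT t
  rcases hgap.structure hG with h | ⟨S, hSn, hSs, hSc, hSC⟩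
  · exact (no_twelve hG hgap).elim
  · haveI := hSn
    haveI := hSs
    haveI := Cfsg.Agent.Classical.Unitary.isSimpleGroup_PSU (F := GaloisField 3 2) (q := 3)
      (by rw [hK]; norm_num) (le_refl 3) (by omega)
    obtain ⟨e⟩ := unique hSc (card_PSU hK) (hgap.subgroup S) (gap_PSU hK)
    obtain ⟨eG⟩ := equiv_mulAut S hSC e (hG.trans (card_mulAut_PSU hK).symm)
    exact ⟨eG.trans eT.symm⟩

end Target

end Cfsg.Agent.SmallSimple.Order6048
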