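import Cfsg.Agent.Lib.SmallSimple.Order6048.Values
import Cfsg.Agent.Lib.SmallSimple.Orders6232.D

/-!
# No simple group has order 12096 and no elements of orders 9, 14 and 21
-/

set_option autoImplicit false
set_option linter.style.haveILetI false
set_option linter.unusedSectionVars false
set_option maxRecDepth 100000

namespace Cfsg.Agent.SmallSimple.Order6048

open Subgroup Cfsg.Agent.Characters Cfsg.Agent.Blocks Cfsg.Agent.PrimeBlock
open scoped ComplexConjugate

namespace Twelve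

/-- The signed degrees. -/
def signs : List ℤ := [-48, -27, -6, 8, 36, 64]

/-- All multisets of a given size from a list. -/
def picks : List ℤ → ℕ → List (List ℤ)
  | [], 0 => [[]]
  | [], _ + 1 => []
  | a :: S, k => (List.range (k + 1)).flatMap fun i => (picks S (k - i)).map (List.replicate i a ++ ·)

theorem picks_spec : ∀ (S : List ℤ) (m : Multiset ℤ) (k : ℕ), Multiset.card m = k → (∀ z ∈ m, z ∈ S) →
    ∃ L ∈ picks S k, (L : Multiset ℤ) = m
  | [], m, k, hk, h => by
    have hm : m = 0 := Multiset.eq_zero_of_forall_notMem fun z hz => by simpa using h z hz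
    subst hm
    rw [Multiset.card_zero] at hk
    subst hk
    exact ⟨[], by simp [picks], rfl⟩
  | a :: S, m, k, hk, h => by
    obtain ⟨L, hL, hLm⟩ := picks_spec S (m.filter (· ≠ a)) (k - m.count a) (by
      have h1 := congrArg Multiset.card (Multiset.filter_add_not (· = a) m)
      rw [Multiset.card_add, Multiset.filter_eq', Multiset.card_replicate] at h1
      simp only [ne_eq]
      omega) fun z hz => by
        obtain ⟨hz1, hz2⟩ := Multiset.mem_filter.1 hz
        exact (List.mem_cons.1 (h z hz1)).resolve_left hz2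
    refine ⟨List.replicate (m.count a) a ++ L, ?_, ?_⟩
    · simp only [picks, List.mem_flatMap, List.mem_map, List.mem_range]
      exact ⟨m.count a, by have := Multiset.count_le_card a m; omega, L, hL, rfl⟩
    · rw [← Multiset.coe_add, Multiset.coe_replicate, hLm, ← Multiset.filter_eq']
      exact Multiset.filter_add_not _ _

/-- The possible values at an involution, for a given signed degree. -/
def vals (z : ℤ) : List ℤ :=
  if z.natAbs = 64 then [0]
  else ((List.range 29).map fun i : ℕ => (i : ℤ) - 14).filter fun a =>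
    decide ((z.natAbs : ℤ) % 4 = a % 4 ∧ a.natAbs < z.natAbs)

/-- The orders of centralizers. -/
def orders : List ℕ :=
  [3, 6, 9, 12, 18, 24, 27, 36, 48, 54, 72, 96, 108, 144, 192, 216]

/-- No solution for the values, except possibly with a centralizer of order 48. -/
def valOK (allow : Bool) : List ℤ → ℤ → ℤ → ℤ → Bool
  | [], s, lin, q =>
    lin != 0 || orders.all fun c =>
      decide ((c : ℤ) * c ≠ q) || decide ((c : ℤ) < s) || (allow && c == 48)
  | z :: zs, s, lin, q => (vals z).all fun a =>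
    decide (222 < s + a * a) || valOK allow zs (s + a * a) (lin + z.sign * a) (q + 1728 / z * (a * a))

/-- The exceptional list. -/
def special : List ℤ := [-27, -27, -27, 8, 36, 36]

theorem valOK_spec (allow : Bool) : ∀ (L : List ℤ) (s lin q : ℤ) (m : Multiset (ℤ × ℤ)),
    valOK allow L s lin q = true → m.map Prod.fst = (L : Multiset ℤ) → (∀ w ∈ m, w.2 ∈ vals w.1) →
    s + (m.map fun w => w.2 * w.2).sum ≤ 222 → lin + (m.map fun w => w.1.sign * w.2).sum = 0 →
    ∀ c ∈ orders, (c : ℤ) * c = q + (m.map fun w => 1728 / w.1 * (w.2 * w.2)).sum →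
      s + (m.map fun w => w.2 * w.2).sum ≤ (c : ℤ) → allow = true ∧ c = 48
  | [], s, lin, q, m, hok, hm, _, _, hlin, c, hc, hq, hle => by
    obtain rfl : m = 0 := Multiset.map_eq_zero.1 (hm.trans rfl)
    simp only [Multiset.map_zero, Multiset.sum_zero, add_zero] at hlin hq hle
    simp only [valOK, Bool.or_eq_true, bne_iff_ne, ne_eq, hlin, not_true_eq_false, false_or,
      List.all_eq_true, decide_eq_true_eq, Bool.and_eq_true, beq_iff_eq] at hok
    rcases hok c hc with (h | h) | h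
    · exact absurd hq h
    · omega
    · exact h
  | z :: zs, s, lin, q, m, hok, hm, hv, hs, hlin, c, hc, hq, hle => by
    obtain ⟨w, hw, hwz⟩ := Multiset.mem_map.1 (show z ∈ m.map Prod.fst by rw [hm]; simp)
    obtain ⟨m', rfl⟩ := Multiset.exists_cons_of_mem hw
    subst hwz
    have hm' : m'.map Prod.fst = (zs : Multiset ℤ) := by
      rw [Multiset.map_cons, ← Multiset.cons_coe] at hm
      exact (Multiset.cons_inj_right _).1 hm
    simp only [Multiset.map_cons, Multiset.sum_cons] at hs hlin hq hle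
    simp only [valOK, List.all_eq_true, Bool.or_eq_true, decide_eq_true_eq] at hok
    have hnn : 0 ≤ (m'.map fun w => w.2 * w.2).sum := Multiset.sum_nonneg fun x hx => by
      obtain ⟨y, -, rfl⟩ := Multiset.mem_map.1 hx
      exact mul_self_nonneg _
    rcases hok w.2 (hv w (Multiset.mem_cons_self _ _)) with h | h
    · omega
    · exact valOK_spec allow zs _ _ _ m' h hm' (fun x hx => hv x (Multiset.mem_cons_of_mem hx))
        (by linarith) (by linarith) c hc (by linarith) (by linarith)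

/-- The lists of degrees. -/
def lists : List (List ℤ) := (picks signs 6).filter fun L => decide (L.sum = -1)

theorem lists_eq : lists.length = 8 := by decide +kernel

theorem check : (lists.all fun L => valOK (L == special) L 1 1 1728) = true := by decide +kernel

theorem mod_spec : ∀ m < 8, ∀ n < 8, ∀ k < 8, ∀ l < 8,
    (4 * (m + n) + 1 + 64 - (4 * k + 3) - (4 * l + 3)) % 4 = 3 →
    (27 + 12 * (m * m + n * n) + 4 * 32 * 32 - (4 * k + 3) ^ 2 - (4 * l + 3) ^ 2 -
      ((4 * (m + n) + 1 + 64 - (4 * k + 3) - (4 * l + 3)) % 32) ^ 2) % 32 ≠ 0 := by decide +kernel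

/-- The exceptional list at an involution central in a Sylow two-subgroup. -/
theorem no_central {m n b b' b'' : ℤ} (hb : b % 4 = 3) (hb' : b' % 4 = 3) (hb'' : b'' % 4 = 3)
    (hlin : 1 + 4 * m + 4 * n - b - b' - b'' = 0)
    (hq : 27 + 12 * (m * m + n * n) = b * b + b' * b' + b'' * b'') : False := by
  have h : ∀ x : ℤ, ∃ r : ℕ, r < 8 ∧ ∃ j : ℤ, x = 8 * j + r := fun x =>
    ⟨(x % 8).toNat, by omega, x / 8, by omega⟩
  obtain ⟨rm, hrm, jm, em⟩ := h m
  obtain ⟨rn, hrn, jn, en⟩ := h n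
  obtain ⟨rk, hrk, jk, ek⟩ := h (b / 4)
  obtain ⟨rl, hrl, jl, el⟩ := h (b' / 4)
  have hb0 : b = 32 * jk + (4 * rk + 3) := by omega
  have hb1 : b' = 32 * jl + (4 * rl + 3) := by omega
  set P : ℕ := 4 * (rm + rn) + 1 + 64 - (4 * rk + 3) - (4 * rl + 3) with hP
  have key := mod_spec rm hrm rn hrn rk hrk rl hrl
  obtain ⟨jp, hjp⟩ : ∃ jp : ℤ, b'' = 32 * jp + ((P % 32 : ℕ) : ℤ) :=
    ⟨(b'' - ((P % 32 : ℕ) : ℤ)) / 32, by omega⟩
  refine key (by omega) ?_
  have hP2 : (P % 32) ^ 2 ≤ 31 ^ 2 := Nat.pow_le_pow_left (by omega) 2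
  have hk2 : (4 * rk + 3) ^ 2 ≤ 31 ^ 2 := Nat.pow_le_pow_left (by omega) 2
  have hl2 : (4 * rl + 3) ^ 2 ≤ 31 ^ 2 := Nat.pow_le_pow_left (by omega) 2
  have hz : (32 : ℤ) ∣ ((27 + 12 * (rm * rm + rn * rn) + 4 * 32 * 32 - (4 * rk + 3) ^ 2 - (4 * rl + 3) ^ 2 -
      (P % 32) ^ 2 : ℕ) : ℤ) := by
    rw [Nat.cast_sub (by omega), Nat.cast_sub (by omega), Nat.cast_sub (by omega)]
    push_cast
    rw [hb0, hb1, hjp, em, en] at hq
    push_cast at hq
    refine ⟨128 + (32 * jk * jk + 2 * jk * (4 * rk + 3)) + (32 * jl * jl + 2 * jl * (4 * rl + 3)) +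
      (32 * jp * jp + 2 * jp * ((P : ℤ) % 32)) - 12 * (2 * jm * jm + 2 * jn * jn) -
      6 * (jm * rm + jn * rn), ?_⟩
    linear_combination hq
  exact Nat.mod_eq_zero_of_dvd (Int.natCast_dvd_natCast.1 hz)

end Twelve

universe u

variable {G : Type u} [Group G] [Finite G]

theorem signed_twelve : ∀ d ∈ List.range 110, d ∣ 1728 → 1 < d → ∀ s ∈ [(1 : ℤ), -1],
    (7 : ℤ) ∣ s - (d : ℤ) → (s * d) ∈ Twelve.signs := by decide +kernel

/-- An involution inverting an element of order seven has seven conjugates doing so. -/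
theorem ways_seven (hgap : Gap G) (hd : Nat.card G ∣ 12096) {u x : G} (hx : orderOf x = 7)
    (hu : orderOf u = 2) (hux : u * x * u⁻¹ = x⁻¹) : ways u u x = 7 := by
  have hu2 : u * u = 1 := by rw [← pow_two, ← hu, pow_orderOf_eq_one]
  have hu' : u⁻¹ = u := inv_eq_of_mul_eq_one_right hu2
  have hC := hgap.cent7 hd hx
  have hinvol : ∀ {a : G}, IsConj u a → a⁻¹ = a := fun {a} h => by
    obtain ⟨g, rfl⟩ := isConj_iff.1 h
    rw [conj_inv, hu']
  have hinv : ∀ {a b : G}, IsConj u a → IsConj u b → a * b = x → a * x * a⁻¹ = x⁻¹ := fun {a b} ha hb e => by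
    subst e
    rw [mul_inv_rev, hinvol hb, hinvol ha, ← mul_assoc,
      show a * a = 1 by nth_rw 1 [← hinvol ha]; exact inv_mul_cancel a, one_mul]
  have hc7 : ∀ {c : G}, c ∈ centralizer ({x} : Set G) → c ^ 7 = 1 := fun {c} hc => by
    have h := pow_card_eq_one' (G := centralizer ({x} : Set G)) (x := ⟨c, hc⟩)
    rw [hC] at h
    exact congrArg Subtype.val h
  have hanti : ∀ {c : G}, c ∈ centralizer ({x} : Set G) → u * c * u⁻¹ = c⁻¹ := fun {c} hc => by
    have hle : zpowers x = centralizer ({x} : Set G) := eq_of_le_of_card_ge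
      (zpowers_le.2 (mem_centralizer_singleton_iff.2 rfl)) (by rw [hC, Nat.card_zpowers, hx])
    obtain ⟨k, rfl⟩ := mem_zpowers_iff.1 (hle.symm ▸ hc : c ∈ zpowers x)
    rw [← conj_zpow, hux, inv_zpow]
  rw [ways, ← hC]
  refine Nat.card_eq_of_bijective (fun q => ⟨q.1.1 * u⁻¹, mem_centralizer_singleton_iff.2 ?_⟩) ⟨?_, ?_⟩
  · have h1 := hinv q.2.1 q.2.2.1 q.2.2.2
    have h2 : u⁻¹ * x * u = x⁻¹ := by rw [hu'] ; rw [hu'] at hux; exact hux
    have h3 : q.1.1 * u⁻¹ * x * (q.1.1 * u⁻¹)⁻¹ = x := by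
      rw [show q.1.1 * u⁻¹ * x * (q.1.1 * u⁻¹)⁻¹ = q.1.1 * (u⁻¹ * x * u) * q.1.1⁻¹ by group, h2,
        ← conj_inv, h1, inv_inv]
    exact mul_inv_eq_iff_eq_mul.1 h3
  · rintro ⟨⟨a, b⟩, ha, hb, hab⟩ ⟨⟨a', b'⟩, ha', hb', hab'⟩ h
    have e : a = a' := mul_right_cancel (congrArg Subtype.val h)
    subst e
    exact Subtype.ext (Prod.ext rfl (mul_left_cancel (hab.trans hab'.symm)))
  · rintro ⟨c, hc⟩
    have hconj : ∀ {c : G}, c ∈ centralizer ({x} : Set G) → IsConj u (c * u) := fun {c} hc => by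
      refine isConj_iff.2 ⟨c ^ 4, ?_⟩
      have h4 := hanti (pow_mem hc 4)
      rw [hu'] at h4
      have h4' : u * (c ^ 4)⁻¹ = c ^ 4 * u := by
        have h5 := hanti (inv_mem (pow_mem hc 4))
        rw [inv_inv, hu'] at h5
        calc u * (c ^ 4)⁻¹ = u * (c ^ 4)⁻¹ * (u * u) := by rw [hu2, mul_one]
          _ = (u * (c ^ 4)⁻¹ * u) * u := by group
          _ = c ^ 4 * u := by rw [h5]
      rw [mul_assoc, h4', ← mul_assoc, ← pow_add, show 4 + 4 = 7 + 1 from rfl, pow_add, hc7 hc, one_mul,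
        pow_one]
    have ha := hconj hc
    refine ⟨⟨(c * u, (c * u)⁻¹ * x), ha, ?_, mul_inv_cancel_left _ _⟩, Subtype.ext (mul_inv_cancel_right c u)⟩
    show IsConj u ((c * u)⁻¹ * x)
    rw [hinvol ha, show c * u * x = c * (u * x * u⁻¹) * u by group, hux]
    exact hconj (mul_mem hc (inv_mem (mem_centralizer_singleton_iff.2 rfl)))

/-- An involution inverting an element of order seven commutes with one of order three. -/
theorem three_dvd_cent (hgap : Gap G) (hG : Nat.card G = 12096) {a y : G} (ha : orderOf a = 2)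
    (hy : orderOf y = 7) (hay : a * y * a⁻¹ = y⁻¹) : 3 ∣ Nat.card (centralizer ({a} : Set G)) := by
  haveI : Fact (Nat.Prime 7) := ⟨by norm_num⟩
  haveI : Fact (Nat.Prime 3) := ⟨Nat.prime_three⟩
  obtain ⟨Q, hyQ, hy1⟩ := Order2520.exists_sylow (fun R => (hgap.sylow7 (Or.inl hG) R).1) hy
  obtain ⟨hQ, -, -, hN⟩ := hgap.sylow7 (Or.inl hG) Q
  have hC := hgap.cent7 hG.dvd hy
  have hQy : zpowers y = (Q : Subgroup G) := Centralize.sylow_le_iff_mem hyQ hy1 hQ
  have haN : a ∈ normalizer ((Q : Subgroup G) : Set G) := by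
    rw [← hQy]
    refine mem_normalizer_fintype fun x hx => ?_
    obtain ⟨k, rfl⟩ := mem_zpowers_iff.1 hx
    rw [← conj_zpow, hay]
    exact zpow_mem (inv_mem (mem_zpowers y)) k
  obtain ⟨⟨g, hgN⟩, hgo⟩ := exists_prime_orderOf_dvd_card' (G := normalizer ((Q : Subgroup G) : Set G)) 3
    ⟨14, by omega⟩
  rw [orderOf_mk] at hgo
  obtain ⟨i, hi⟩ := mem_zpowers_iff.1 (hQy.symm ▸ (mem_normalizer_iff.1 hgN y).1 hyQ : g * y * g⁻¹ ∈ zpowers y)
  set c := a * g * a⁻¹ * g⁻¹ with hc
  have hcy : c * y * c⁻¹ = y := by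
    have e1 : a⁻¹ * y * a = y⁻¹ := by
      have h := congrArg (fun x => a⁻¹ * x⁻¹ * a) hay
      simp only [inv_inv, mul_inv_rev] at h
      rw [← h]; group
    have hg' : ∀ k : ℤ, g * y ^ k * g⁻¹ = y ^ (i * k) := fun k => by rw [← conj_zpow, ← hi, ← zpow_mul]
    have ha' : ∀ k : ℤ, a * y ^ k * a⁻¹ = y ^ (-k) := fun k => by rw [← conj_zpow, hay, inv_zpow, ← zpow_neg]
    have e2 : g⁻¹ * y * g = g⁻¹ * y ^ (1 : ℤ) * g := by rw [zpow_one]
    obtain ⟨j, hj⟩ := mem_zpowers_iff.1 (hQy.symm ▸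
      (mem_normalizer_iff.1 (inv_mem hgN) y).1 hyQ : g⁻¹ * y * g⁻¹⁻¹ ∈ zpowers y)
    rw [inv_inv] at hj
    have hij : g * y ^ j * g⁻¹ = y := by rw [hj]; group
    have e3 : c * y * c⁻¹ = a * (g * (a⁻¹ * (g⁻¹ * y * g) * a) * g⁻¹) * a⁻¹ := by rw [hc]; group
    rw [e3, ← hj, show a⁻¹ * y ^ j * a = a⁻¹ * y ^ j * a⁻¹⁻¹ by rw [inv_inv], ← conj_zpow, inv_inv, e1,
      inv_zpow, ← conj_inv, hij, ← conj_inv, hay, inv_inv]
  have hcC : c ∈ centralizer ({y} : Set G) := mem_centralizer_singleton_iff.2 (mul_inv_eq_iff_eq_mul.1 hcy)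
  have hc7 : c ^ 7 = 1 := by
    have h := pow_card_eq_one' (G := centralizer ({y} : Set G)) (x := ⟨c, hcC⟩)
    rw [hC] at h
    exact congrArg Subtype.val h
  have hac : a * c * a⁻¹ = c⁻¹ := by
    have hle : zpowers y = centralizer ({y} : Set G) := eq_of_le_of_card_ge
      (zpowers_le.2 (mem_centralizer_singleton_iff.2 rfl)) (by rw [hC, Nat.card_zpowers, hy])
    obtain ⟨k, hk⟩ := mem_zpowers_iff.1 (hle.symm ▸ hcC : c ∈ zpowers y)
    rw [← hk, ← conj_zpow, hay, inv_zpow]
  set g' := c ^ 4 * g with hg'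
  have hga : g' ∈ centralizer ({a} : Set G) := by
    refine mem_centralizer_singleton_iff.2 (mul_inv_eq_iff_eq_mul.1 ?_).symm
    rw [hg', show a * (c ^ 4 * g) * a⁻¹ = (a * c ^ 4 * a⁻¹) * (a * g * a⁻¹) by group, ← conj_pow, hac,
      show a * g * a⁻¹ = c * g by rw [hc]; group, ← mul_assoc, inv_pow]
    have e : (c ^ 4)⁻¹ * c = c ^ 4 := by
      rw [inv_mul_eq_iff_eq_mul, ← pow_add, show 4 + 4 = 7 + 1 from rfl, pow_add, hc7, one_mul, pow_one]
    rw [e]
  by_contra h3
  have hg'N : g' ∈ normalizer ((Q : Subgroup G) : Set G) := by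
    refine mul_mem (pow_mem ?_ 4) hgN
    rw [hc]
    exact mul_mem (mul_mem (mul_mem haN hgN) (inv_mem haN)) (inv_mem hgN)
  have hd : orderOf g' ∣ 14 := by
    have h1 := orderOf_dvd_natCard (⟨g', hg'N⟩ : normalizer ((Q : Subgroup G) : Set G))
    have h2 := orderOf_dvd_natCard (⟨g', hga⟩ : centralizer ({a} : Set G))
    rw [orderOf_mk, show Nat.card (normalizer ((Q : Subgroup G) : Set G)) = 42 by omega] at h1
    rw [orderOf_mk] at h2
    have key : ∀ d ∈ (42 : ℕ).divisors, ¬ 3 ∣ d → d ∣ 14 := by decide +kernel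
    exact key _ (Nat.mem_divisors.2 ⟨h1, by norm_num⟩) fun h => h3 (h.trans h2)
  have hgy : g' * y * g'⁻¹ = g * y * g⁻¹ := by
    have hc4 : c ^ 4 ∈ centralizer ({y} : Set G) := pow_mem hcC 4
    rw [hg', show c ^ 4 * g * y * (c ^ 4 * g)⁻¹ = c ^ 4 * (g * y * g⁻¹) * (c ^ 4)⁻¹ by group, ← hi,
      ← conj_zpow, mul_inv_eq_iff_eq_mul.2 (mem_centralizer_singleton_iff.1 hc4)]
  have hiter : ∀ n : ℕ, g' ^ n * y * (g' ^ n)⁻¹ = g ^ n * y * (g ^ n)⁻¹ := by
    intro n
    induction n with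
    | zero => simp
    | succ n ih =>
      rw [pow_succ g', pow_succ g, show g' ^ n * g' * y * (g' ^ n * g')⁻¹ = g' ^ n * (g' * y * g'⁻¹) * (g' ^ n)⁻¹ by group,
        show g ^ n * g * y * (g ^ n * g)⁻¹ = g ^ n * (g * y * g⁻¹) * (g ^ n)⁻¹ by group, hgy, ← hi,
        ← conj_zpow, ← conj_zpow, ih]
  have h14 := hiter 14
  rw [orderOf_dvd_iff_pow_eq_one.1 hd] at h14
  have hg14 : g ^ 14 ∈ centralizer ({y} : Set G) := mem_centralizer_singleton_iff.2
    (mul_inv_eq_iff_eq_mul.1 (h14.symm.trans (by simp)))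
  have ho := orderOf_dvd_natCard (⟨g ^ 14, hg14⟩ : centralizer ({y} : Set G))
  rw [orderOf_mk, hC, Nat.Coprime.orderOf_pow (by rw [hgo]; norm_num), hgo] at ho
  norm_num at ho

/-- There is no simple group of order 12096 without elements of orders 9, 14 and 21. -/
theorem no_twelve [IsSimpleGroup G] (hG : Nat.card G = 12096) (hgap : Gap G) : False := by
  classical
  haveI := Fintype.ofFinite (Cfsg.IrrCharacter G)
  haveI : Fact (Nat.Prime 7) := ⟨by norm_num⟩
  haveI : Fact (Nat.Prime 2) := ⟨Nat.prime_two⟩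
  have hnc : ¬ IsMulCommutative G := Basic.not_comm_of_not_prime (by rw [hG]; norm_num)
  obtain ⟨P⟩ : Nonempty (Sylow 7 G) := inferInstance
  obtain ⟨hP, hC, -, hN⟩ := hgap.sylow7 (Or.inl hG) P
  obtain ⟨D, ht, hts⟩ := exists_pblock' hnc (by norm_num) P hP
  have he : D.e = 6 := by
    have h := relIndex_mul_relIndex ⊥ (centralizer ((P : Subgroup G) : Set G))
      (normalizer ((P : Subgroup G) : Set G)) bot_le (centralizer_le_normalizer _)
    rw [relIndex_bot_left, relIndex_bot_left, D.he, hC] at h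
    omega
  obtain ⟨θ, hY⟩ := Finset.card_eq_one.1 (show D.Y.card = 1 by rw [D.card_Y, he])
  have hθ : θ ∈ D.Y := by rw [hY]; simp
  have hθX : θ ∉ D.X := fun h => Finset.disjoint_left.1 D.disj h hθ
  set M := insert θ (D.X.erase (trivIrr G)) with hMdef
  have hθE : θ ∉ D.X.erase (trivIrr G) := fun h => hθX (Finset.mem_erase.1 h).2
  have hMcard : M.card = 6 := by
    rw [hMdef, Finset.card_insert_of_notMem hθE, Finset.card_erase_of_mem ht, D.card_X, he]
  let ωt : Cfsg.IrrCharacter G → ℤ := fun χ => if χ = θ then -D.ε else D.sgn χ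
  let z : Cfsg.IrrCharacter G → ℤ := fun χ => ωt χ * (deg χ : ℤ)
  have hMne : ∀ χ ∈ M, χ ≠ trivIrr G := by
    intro χ hχ
    rcases Finset.mem_insert.1 hχ with rfl | h
    · exact fun e => hθX (e ▸ ht)
    · exact (Finset.mem_erase.1 h).1
  have hω : ∀ χ ∈ M, ωt χ = 1 ∨ ωt χ = -1 := by
    intro χ hχ
    rcases Finset.mem_insert.1 hχ with rfl | h
    · simp only [ωt, if_pos]
      rcases D.ε_eq with e | e <;> omega
    · simp only [ωt, if_neg (fun e : χ = θ => hθE (e ▸ h))]
      exact D.sgn_eq χ (Finset.mem_erase.1 h).2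
  have hblock : ∀ χ ∈ M, χ ∈ Cfsg.principalBlock D.M G := by
    intro χ hχ
    refine (D.mem_block χ).2 ?_
    rcases Finset.mem_insert.1 hχ with rfl | h
    · exact Or.inr hθ
    · exact Or.inl (Finset.mem_erase.1 h).2
  have hdiv : ∀ χ ∈ M, deg χ ∣ 1728 := by
    intro χ hχ
    have h1 : deg χ ∣ 12096 := by
      obtain ⟨d, hd1, -, hd2⟩ := irr_degree_dvd_card χ.2
      have : deg χ = d := by
        have := deg_cast χ
        rw [hd1] at this
        exact_mod_cast this
      exact hG ▸ this ▸ hd2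
    exact ((Nat.Prime.coprime_iff_not_dvd (by norm_num)).2 (D.not_dvd_deg (hblock χ hχ))).symm.dvd_of_dvd_mul_left
      (show deg χ ∣ 7 * 1728 from h1)
  have hsign : ∀ χ ∈ M, z χ ∈ Twelve.signs := by
    intro χ hχ
    refine signed_twelve _ ?_ (hdiv χ hχ) ?_ _ (by rcases hω χ hχ with e | e <;> simp [e]) ?_
    · have h1 := deg_sq_lt (G := G) (hMne χ hχ)
      rw [hG] at h1
      rw [List.mem_range]
      nlinarith
    · have := deg_ne_one hnc (hMne χ hχ)
      have : 0 < deg χ := charDegree_pos χ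
      omega
    · rcases Finset.mem_insert.1 hχ with rfl | h
      · obtain ⟨c, hc⟩ := Int.modEq_iff_dvd.1 (D.deg_Y χ hθ)
        rw [he] at hc
        simp only [ωt, if_pos]
        exact ⟨c - D.ε, by push_cast at hc; linarith⟩
      · simp only [ωt, if_neg (fun e : χ = θ => hθE (e ▸ h))]
        exact Int.modEq_iff_dvd.1 (D.deg_X χ (Finset.mem_erase.1 h).2)
  have hrel : ∀ g : G, ¬ 7 ∣ orderOf g → 1 + ∑ χ ∈ M, (ωt χ : ℂ) * (χ : G → ℂ) g = 0 := by
    intro g hg
    rw [hMdef, Finset.sum_insert hθE, Finset.sum_congr rfl fun χ hχ => show (ωt χ : ℂ) * (χ : G → ℂ) g =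
      (D.sgn χ : ℂ) * (χ : G → ℂ) g by simp only [ωt, if_neg (fun e : χ = θ => hθE (e ▸ hχ))]]
    have h := D.rel θ hθ g hg
    rw [← Finset.add_sum_erase _ _ ht, hts] at h
    simp only [ωt, if_pos, trivIrr_coe, Int.cast_one, one_mul, Int.cast_neg] at h ⊢
    linear_combination -h
  obtain ⟨x, hx, hx1, hxo⟩ := Order2520.exists_gen hP
  -- the class multiplication, with the centralizer cleared
  have heq : ∀ a : G, ¬ 7 ∣ orderOf a → (ways a a x : ℂ) * (Nat.card (centralizer ({a} : Set G)) : ℂ) *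
      (Nat.card (centralizer ({a} : Set G)) : ℂ) =
      7 * (1728 + ∑ χ ∈ M, (1728 / (z χ : ℂ)) * ((χ : G → ℂ) a * (χ : G → ℂ) a)) := by
    intro a ha
    rw [ways_eq D hC hθ hx hx1 ha ha, hG, ← Finset.add_sum_erase _ _ ht, hts, deg_trivIrr, hMdef,
      Finset.sum_insert hθE]
    have hθd : (deg θ : ℂ) ≠ 0 := Nat.cast_ne_zero.2 (charDegree_pos θ).ne'
    have hs : ∑ χ ∈ D.X.erase (trivIrr G), (D.sgn χ : ℂ) * ((χ : G → ℂ) a * (χ : G → ℂ) a) / (deg χ : ℂ) =
        (∑ χ ∈ D.X.erase (trivIrr G), 1728 / (z χ : ℂ) * ((χ : G → ℂ) a * (χ : G → ℂ) a)) / 1728 := by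
      rw [Finset.sum_div]
      refine Finset.sum_congr rfl fun χ hχ => ?_
      have hd : (deg χ : ℂ) ≠ 0 := Nat.cast_ne_zero.2 (charDegree_pos χ).ne'
      simp only [z, ωt, if_neg (fun e : χ = θ => hθE (e ▸ hχ))]
      rcases D.sgn_eq χ (Finset.mem_erase.1 hχ).2 with e | e <;> rw [e] <;> push_cast <;> field_simp
    have hzθ : (1728 : ℂ) / (z θ : ℂ) = 1728 * (-(D.ε : ℂ)) / (deg θ : ℂ) := by
      simp only [z, ωt, if_pos]
      rcases D.ε_eq with e | e <;> rw [e] <;> push_cast <;> field_simp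
    rw [hs, hzθ]
    simp only [trivIrr_coe, Int.cast_one, one_mul, Nat.cast_one, div_one, mul_one]
    field_simp
    ring
  -- values at involutions
  have hvals : ∀ a : G, orderOf a = 2 → ∃ v : Cfsg.IrrCharacter G → ℤ,
      (∀ χ ∈ M, (χ : G → ℂ) a = (v χ : ℂ) ∧ (4 : ℤ) ∣ (deg χ : ℤ) - v χ ∧ |v χ| < (deg χ : ℤ)) ∧
      1 + ∑ χ ∈ M, (z χ).sign * v χ = 0 ∧
      (ways a a x : ℤ) * (Nat.card (centralizer ({a} : Set G)) : ℤ) * (Nat.card (centralizer ({a} : Set G)) : ℤ) =
        7 * (1728 + ∑ χ ∈ M, 1728 / z χ * (v χ * v χ)) ∧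
      1 + ∑ χ ∈ M, v χ * v χ ≤ (Nat.card (centralizer ({a} : Set G)) : ℤ) := by
    intro a ha
    have ha7 : ¬ 7 ∣ orderOf a := by rw [ha]; norm_num
    let v : Cfsg.IrrCharacter G → ℤ := fun χ =>
      if hχ : χ ≠ trivIrr G then Classical.choose (involution_value hnc hχ ha) else 1
    have hv : ∀ χ ∈ M, (χ : G → ℂ) a = (v χ : ℂ) ∧ (4 : ℤ) ∣ (deg χ : ℤ) - v χ ∧ |v χ| < (deg χ : ℤ) := by
      intro χ hχ
      simp only [v, dif_pos (hMne χ hχ)]
      exact Classical.choose_spec (involution_value hnc (hMne χ hχ) ha)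
    refine ⟨v, hv, ?_, ?_, ?_⟩
    · have h := hrel a ha7
      rw [Finset.sum_congr rfl fun χ hχ => show (ωt χ : ℂ) * (χ : G → ℂ) a = (((z χ).sign * v χ : ℤ) : ℂ) by
        rw [(hv χ hχ).1]
        have hd : 0 < deg χ := charDegree_pos χ
        have : (z χ).sign = ωt χ := by
          rcases hω χ hχ with e | e <;> simp [z, e, Int.sign_natCast_of_ne_zero hd.ne']
        rw [this]
        push_cast
        ring] at h
      exact_mod_cast h
    · have h := heq a ha7
      rw [Finset.sum_congr rfl fun χ hχ => show 1728 / (z χ : ℂ) * ((χ : G → ℂ) a * (χ : G → ℂ) a) =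
        ((1728 / z χ * (v χ * v χ) : ℤ) : ℂ) by
          rw [(hv χ hχ).1]
          have hz : z χ ∣ 1728 := by
            rcases hω χ hχ with e | e <;> simp only [z, e, one_mul, neg_mul, Int.neg_dvd] <;>
              exact_mod_cast hdiv χ hχ
          have hz0 : (z χ : ℂ) ≠ 0 := by
            have hd : 0 < deg χ := charDegree_pos χ
            rcases hω χ hχ with e | e <;> simp [z, e] <;> omega
          rw [Int.cast_mul (1728 / z χ) (v χ * v χ), Int.cast_mul (v χ) (v χ), Int.cast_div hz hz0]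
          norm_num] at h
      exact_mod_cast h
    · have hA := column_le a (insert (trivIrr G) M)
      rw [Finset.sum_insert (fun h => hMne _ h rfl), Finset.sum_congr rfl fun (χ : Cfsg.IrrCharacter G) hχ =>
        show Complex.normSq ((χ : G → ℂ) a) = (((v χ * v χ : ℤ)) : ℝ) by
          rw [(hv χ hχ).1, Complex.normSq_intCast]; push_cast; rfl] at hA
      simp only [trivIrr_coe, map_one] at hA
      exact_mod_cast hA
  -- the degrees
  obtain ⟨L, hL, hLm⟩ := Twelve.picks_spec Twelve.signs (M.val.map z) 6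
    (by rw [Multiset.card_map]; exact hMcard)
    (fun y hy => by obtain ⟨χ, hχ, rfl⟩ := Multiset.mem_map.1 hy; exact hsign χ hχ)
  have hLsum : L.sum = -1 := by
    rw [← Multiset.sum_coe, hLm]
    have h := hrel 1 (by simp)
    simp only [← deg_cast] at h
    have h' : 1 + ∑ χ ∈ M, z χ = 0 := by
      have : ((1 + ∑ χ ∈ M, z χ : ℤ) : ℂ) = 0 := by push_cast [z]; exact h
      exact_mod_cast this
    change ∑ χ ∈ M, z χ = -1
    linarith
  have hok := List.all_eq_true.1 Twelve.check L (by simp [Twelve.lists, hL, hLsum])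
  -- an involution inverting an element of order seven
  have hinv : ∀ a y : G, orderOf a = 2 → orderOf y = 7 → a * y * a⁻¹ = y⁻¹ →
      y = x → L = Twelve.special ∧ Nat.card (centralizer ({a} : Set G)) = 48 := by
    intro a y ha hy hay hyx
    subst hyx
    have ha7 : ¬ 7 ∣ orderOf a := by rw [ha]; norm_num
    obtain ⟨v, hv, hlin, hq, hcol⟩ := hvals a ha
    rw [ways_seven hgap (by rw [hG]) hy ha hay] at hq
    push_cast at hq
    set c := Nat.card (centralizer ({a} : Set G)) with hc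
    have hqc : (c : ℤ) * c = 1728 + ∑ χ ∈ M, 1728 / z χ * (v χ * v χ) := by linarith
    have hbound : ∑ χ ∈ M, 1728 / z χ * (v χ * v χ) ≤ 216 * ∑ χ ∈ M, v χ * v χ := by
      rw [Finset.mul_sum]
      refine Finset.sum_le_sum fun χ hχ => mul_le_mul_of_nonneg_right ?_ (mul_self_nonneg _)
      have := hsign χ hχ
      simp only [Twelve.signs, List.mem_cons, List.not_mem_nil, or_false] at this
      rcases this with e | e | e | e | e | e <;> rw [e] <;> norm_num
    have hc222 : (c : ℤ) ≤ 222 := by nlinarith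
    have hcd : c ∣ 1728 := by
      have hn7 : ¬ 7 ∣ c := by
        intro hd
        obtain ⟨⟨r, hr⟩, hro⟩ := exists_prime_orderOf_dvd_card' (G := centralizer ({a} : Set G)) 7 hd
        rw [orderOf_mk] at hro
        have har : a ∈ centralizer ({r} : Set G) :=
          mem_centralizer_singleton_iff.2 (mem_centralizer_singleton_iff.1 hr).symm
        have := orderOf_dvd_natCard (⟨a, har⟩ : centralizer ({r} : Set G))
        rw [orderOf_mk, ha, hgap.cent7 (by rw [hG]) hro] at this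
        norm_num at this
      exact ((Nat.Prime.coprime_iff_not_dvd (by norm_num)).2 hn7).symm.dvd_of_dvd_mul_left
        (show c ∣ 7 * 1728 from (card_subgroup_dvd_card _).trans hG.dvd)
    have hcm : c ∈ Twelve.orders := by
      have key : ∀ c ∈ (1728 : ℕ).divisors, c ≤ 222 → 3 ∣ c → c ∈ Twelve.orders := by decide +kernel
      exact key c (Nat.mem_divisors.2 ⟨hcd, by norm_num⟩) (by exact_mod_cast hc222)
        (three_dvd_cent hgap hG ha hy hay)
    have hres := Twelve.valOK_spec _ L 1 1 1728 (M.val.map fun χ => (z χ, v χ)) hok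
      (by rw [Multiset.map_map]; exact hLm.symm) (fun w hw => by
        obtain ⟨χ, hχ, rfl⟩ := Multiset.mem_map.1 hw
        obtain ⟨hv1, hv2, hv3⟩ := hv χ hχ
        have hzd : (z χ).natAbs = deg χ := by rcases hω χ hχ with e | e <;> simp [z, e]
        have hz0 : 0 ≤ ∑ χ ∈ M, v χ * v χ - v χ * v χ := by
          rw [← Finset.add_sum_erase _ _ hχ, add_sub_cancel_left]
          exact Finset.sum_nonneg fun _ _ => mul_self_nonneg _
        show v χ ∈ Twelve.vals (z χ)
        unfold Twelve.vals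
        split_ifs with h64
        · -- full degree at two
          have hdef : (χ : G → ℂ) a = 0 := by
            refine BlockCharsA.DefectZeroVanish.eq_zero_of_singular Nat.prime_two χ ?_ (ha ▸ dvd_rfl)
            have hfac : (12096 : ℕ).factorization 2 = 6 := by
              rw [show (12096 : ℕ) = 2 ^ 6 * 189 from rfl, Nat.factorization_mul (by norm_num) (by norm_num),
                Finsupp.add_apply, Nat.Prime.factorization_pow Nat.prime_two, Finsupp.single_eq_same,
                Nat.factorization_eq_zero_of_not_dvd (by norm_num)]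
            have h64' : deg χ = 64 := hzd ▸ h64
            rw [hG, hfac]
            show 2 ^ 6 ∣ deg χ
            rw [h64']; norm_num
          rw [hv1] at hdef
          simp [show v χ = 0 by exact_mod_cast hdef]
        · have hv14 : -14 ≤ v χ ∧ v χ ≤ 14 := by constructor <;> nlinarith
          rw [abs_lt] at hv3
          simp only [List.mem_filter, List.mem_map, List.mem_range, decide_eq_true_eq, hzd]
          exact ⟨⟨(v χ + 14).toNat, by omega, by omega⟩, by omega, by omega⟩)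
      (by simp only [Multiset.map_map, Function.comp_def]; change 1 + ∑ χ ∈ M, v χ * v χ ≤ 222; linarith)
      (by simp only [Multiset.map_map, Function.comp_def]; exact hlin)
      c hcm (by simp only [Multiset.map_map, Function.comp_def]; exact hqc)
      (by simp only [Multiset.map_map, Function.comp_def]; exact hcol)
    exact ⟨beq_iff_eq.1 hres.1, hres.2⟩
  -- such an involution exists
  obtain ⟨u, hu, hux⟩ : ∃ u : G, orderOf u = 2 ∧ u * x * u⁻¹ = x⁻¹ := by
    obtain ⟨⟨u, huN⟩, huo⟩ := exists_prime_orderOf_dvd_card' (G := normalizer ((P : Subgroup G) : Set G)) 2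
      ⟨21, by omega⟩
    rw [orderOf_mk] at huo
    refine ⟨u, huo, ?_⟩
    have hmem : u * x * u⁻¹ ∈ (P : Subgroup G) := (mem_normalizer_iff.1 huN x).1 hx
    have hgen : zpowers x = (P : Subgroup G) := D.zpowers_eq hx hx1
    rw [← hgen, ← mem_powers_iff_mem_zpowers] at hmem
    obtain ⟨j, hj⟩ := hmem
    have hj' : x ^ j = u * x * u⁻¹ := hj
    have h2 : x ^ (j * j) = x := by
      have hu2 : u * u = 1 := by rw [← pow_two, ← huo, pow_orderOf_eq_one]
      rw [pow_mul, hj', conj_pow, hj', show u * (u * x * u⁻¹) * u⁻¹ = (u * u) * x * (u * u)⁻¹ by group, hu2]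
      simp
    have hmod : j * j % 7 = 1 := by
      nth_rw 2 [← pow_one x] at h2
      have := pow_eq_pow_iff_modEq.1 h2
      rw [hxo] at this
      exact this
    have key : ∀ r < 7, r * r % 7 = 1 → r = 1 ∨ r = 6 := by decide
    rcases key (j % 7) (Nat.mod_lt _ (by norm_num)) (by rw [← Nat.mul_mod]; exact hmod) with e | e
    · exfalso
      rw [← pow_mod_orderOf, hxo, e, pow_one] at hj'
      have hd := orderOf_dvd_natCard (⟨u, mem_centralizer_singleton_iff.2 (mul_inv_eq_iff_eq_mul.1 hj'.symm)⟩ :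
        centralizer ({x} : Set G))
      rw [orderOf_mk, huo, hgap.cent7 (by rw [hG]) hxo] at hd
      norm_num at hd
    · rw [← hj', ← pow_mod_orderOf, hxo, e]
      exact eq_inv_of_mul_eq_one_left (by rw [← pow_succ, show 6 + 1 = orderOf x by omega, pow_orderOf_eq_one])
  obtain ⟨hLspec, -⟩ := hinv u x hu hxo hux rfl
  -- a central involution of a Sylow two-subgroup
  obtain ⟨T⟩ : Nonempty (Sylow 2 G) := inferInstance
  have hT : Nat.card (T : Subgroup G) = 64 :=
    (Basic.card_sylow_eq_pow (a := 6) (m := 189) (by rw [hG]; norm_num) (by norm_num) T).trans (by norm_num)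
  haveI : Nontrivial (T : Subgroup G) := Finite.one_lt_card_iff_nontrivial.1 (by rw [hT]; norm_num)
  haveI := T.isPGroup'.center_nontrivial
  obtain ⟨i, hi⟩ := IsPGroup.iff_card.1 (T.isPGroup'.to_subgroup (center (T : Subgroup G)))
  obtain ⟨⟨⟨a, haT⟩, haZ⟩, hao⟩ := exists_prime_orderOf_dvd_card' (G := center (T : Subgroup G)) 2 (by
    have h1 := Finite.one_lt_card (α := center (T : Subgroup G))
    rw [hi] at h1 ⊢
    exact dvd_pow_self 2 fun e => by rw [e] at h1; norm_num at h1)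
  rw [Subgroup.orderOf_mk, Subgroup.orderOf_mk] at hao
  have h64 : 64 ∣ Nat.card (centralizer ({a} : Set G)) := hT ▸ card_dvd_of_le fun t ht =>
    mem_centralizer_singleton_iff.2 (congrArg Subtype.val (mem_center_iff.1 haZ ⟨t, ht⟩))
  obtain ⟨v, hv, hlin, hq, -⟩ := hvals a hao
  by_cases hw : ways a a x = 0
  · rw [hw] at hq
    push_cast at hq
    rw [hLspec] at hLm
    -- the values of the characters of degree 8, 36 and 27
    have h8 : ∀ χ ∈ M, z χ = 8 → v χ = 0 := by
      intro χ hχ hz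
      obtain ⟨hv1, hv2, hv3⟩ := hv χ hχ
      have hd : deg χ = 8 := by
        have : (z χ).natAbs = deg χ := by rcases hω χ hχ with e | e <;> simp [z, e]
        rw [hz] at this
        exact this.symm
      rw [hd] at hv2 hv3
      have hidx : (centralizer ({a} : Set G)).index ∣ 189 := by
        obtain ⟨j, hj⟩ := h64
        have hm := (centralizer ({a} : Set G)).card_mul_index
        rw [hj, hG, mul_assoc] at hm
        exact ⟨j, by rw [mul_comm]; omega⟩
      obtain ⟨n', ρ', hρ', hc'⟩ := χ.2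
      have hint := class_central_char_isIntegral ρ' a
      have h1' := ρ'.char_one
      rw [hc', ← deg_cast, hd] at h1'
      rw [hc', hv1, ← h1'] at hint
      have hdv := dvd_of_isIntegral_div (a := (centralizer ({a} : Set G)).index * (v χ).natAbs) (b := 8)
        (by norm_num) (by
          rcases Int.natAbs_eq (v χ) with e | e
          · rw [e] at hint; push_cast at hint ⊢; simpa using hint
          · have := hint.neg
            rw [e] at this
            push_cast at this ⊢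
            simpa [neg_div] using this)
      have hco : Nat.Coprime 8 (centralizer ({a} : Set G)).index :=
        Nat.Coprime.coprime_dvd_right hidx (by norm_num)
      have := hco.dvd_of_dvd_mul_left hdv
      rw [abs_lt] at hv3
      push_cast at hv3
      omega
    obtain ⟨χ8, h8m, h8z⟩ := Multiset.mem_map.1 (show (8 : ℤ) ∈ M.val.map z by rw [← hLm]; decide)
    obtain ⟨M1, hM1⟩ := Multiset.exists_cons_of_mem h8m
    have hrest : ((36 : ℤ) ::ₘ 36 ::ₘ -27 ::ₘ -27 ::ₘ -27 ::ₘ 0) = M1.map z := by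
      have h := hLm
      rw [hM1, Multiset.map_cons, h8z] at h
      have h' : (8 : ℤ) ::ₘ (36 ::ₘ 36 ::ₘ -27 ::ₘ -27 ::ₘ -27 ::ₘ 0) = 8 ::ₘ M1.map z := by
        rw [← h]; decide
      exact (Multiset.cons_inj_right _).1 h'
    obtain ⟨p1, M2, hp1, hM2, rfl⟩ : ∃ p1 M2, z p1 = 36 ∧
        ((36 : ℤ) ::ₘ -27 ::ₘ -27 ::ₘ -27 ::ₘ 0) = M2.map z ∧ M1 = p1 ::ₘ M2 := by
      obtain ⟨p, hpm, hpz⟩ := Multiset.mem_map.1 (show (36 : ℤ) ∈ M1.map z by rw [← hrest]; simp)
      obtain ⟨R, hR⟩ := Multiset.exists_cons_of_mem hpm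
      rw [hR, Multiset.map_cons, hpz] at hrest
      exact ⟨p, R, hpz, (Multiset.cons_inj_right _).1 hrest, hR⟩
    obtain ⟨p2, M3, hp2, hM3, rfl⟩ : ∃ p M, z p = 36 ∧
        ((-27 : ℤ) ::ₘ -27 ::ₘ -27 ::ₘ 0) = M.map z ∧ M2 = p ::ₘ M := by
      obtain ⟨p, hpm, hpz⟩ := Multiset.mem_map.1 (show (36 : ℤ) ∈ M2.map z by rw [← hM2]; simp)
      obtain ⟨R, hR⟩ := Multiset.exists_cons_of_mem hpm
      rw [hR, Multiset.map_cons, hpz] at hM2
      exact ⟨p, R, hpz, (Multiset.cons_inj_right _).1 hM2, hR⟩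
    obtain ⟨q1, M4, hq1, hM4, rfl⟩ : ∃ p M, z p = -27 ∧
        ((-27 : ℤ) ::ₘ -27 ::ₘ 0) = M.map z ∧ M3 = p ::ₘ M := by
      obtain ⟨p, hpm, hpz⟩ := Multiset.mem_map.1 (show (-27 : ℤ) ∈ M3.map z by rw [← hM3]; simp)
      obtain ⟨R, hR⟩ := Multiset.exists_cons_of_mem hpm
      rw [hR, Multiset.map_cons, hpz] at hM3
      exact ⟨p, R, hpz, (Multiset.cons_inj_right _).1 hM3, hR⟩
    obtain ⟨q2, M5, hq2, hM5, rfl⟩ : ∃ p M, z p = -27 ∧
        ((-27 : ℤ) ::ₘ 0) = M.map z ∧ M4 = p ::ₘ M := by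
      obtain ⟨p, hpm, hpz⟩ := Multiset.mem_map.1 (show (-27 : ℤ) ∈ M4.map z by rw [← hM4]; simp)
      obtain ⟨R, hR⟩ := Multiset.exists_cons_of_mem hpm
      rw [hR, Multiset.map_cons, hpz] at hM4
      exact ⟨p, R, hpz, (Multiset.cons_inj_right _).1 hM4, hR⟩
    obtain ⟨q3, hq3, rfl⟩ := Multiset.map_eq_singleton.1 hM5.symm |> fun ⟨b, h1, h2⟩ => (⟨b, h2, h1⟩ : ∃ b, z b = -27 ∧ M5 = {b})
    have hsum : ∀ f : Cfsg.IrrCharacter G → ℤ,
        ∑ χ ∈ M, f χ = f χ8 + (f p1 + (f p2 + (f q1 + (f q2 + f q3)))) := fun f => by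
      change (M.val.map f).sum = _
      rw [hM1]
      simp
    rw [hsum] at hlin hq
    have hmm : ∀ χ ∈ χ8 ::ₘ p1 ::ₘ p2 ::ₘ q1 ::ₘ q2 ::ₘ {q3}, χ ∈ M := fun χ h =>
      Finset.mem_def.2 (hM1.symm ▸ h)
    have hcong : ∀ χ, χ ∈ M → (4 : ℤ) ∣ (z χ).natAbs - v χ := fun χ hχ => by
      have : (z χ).natAbs = deg χ := by rcases hω χ hχ with e | e <;> simp [z, e]
      rw [this]; exact (hv χ hχ).2.1
    have c1 := hcong p1 (hmm p1 (by simp))
    have c2 := hcong p2 (hmm p2 (by simp))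
    have d1 := hcong q1 (hmm q1 (by simp))
    have d2 := hcong q2 (hmm q2 (by simp))
    have d3 := hcong q3 (hmm q3 (by simp))
    rw [hp1] at c1
    rw [hp2] at c2
    rw [hq1] at d1
    rw [hq2] at d2
    rw [hq3] at d3
    norm_num at c1 c2 d1 d2 d3
    simp only [h8 χ8 (hmm χ8 (by simp)) h8z, hp1, hp2, hq1, hq2, hq3] at hlin hq
    simp only [show Int.sign (36 : ℤ) = 1 from rfl, show Int.sign (-27 : ℤ) = -1 from rfl] at hlin
    norm_num at hlin hq
    obtain ⟨m, hm⟩ : (4 : ℤ) ∣ v p1 := by omega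
    obtain ⟨n, hn⟩ : (4 : ℤ) ∣ v p2 := by omega
    rw [hm, hn] at hlin hq
    exact Twelve.no_central (m := m) (n := n) (b := v q1) (b' := v q2) (b'' := v q3) (by omega) (by omega)
      (by omega) (by linarith) (by linarith)
  · -- it inverts an element of order seven
    rw [ways, ← ne_eq, Nat.card_ne_zero] at hw
    obtain ⟨⟨⟨b, b'⟩, hb, hb', hbb⟩⟩ := hw.1
    have hbo : orderOf b = 2 := by rw [orderOf_of_isConj hb, hao]
    have hb'o : orderOf b' = 2 := by rw [orderOf_of_isConj hb', hao]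
    have e1 : b⁻¹ = b := inv_eq_of_mul_eq_one_right (by rw [← pow_two, ← hbo, pow_orderOf_eq_one])
    have e2 : b'⁻¹ = b' := inv_eq_of_mul_eq_one_right (by rw [← pow_two, ← hb'o, pow_orderOf_eq_one])
    have hbb' : b * b' = x := hbb
    obtain ⟨-, h48⟩ := hinv b x hbo hxo (by
      rw [← hbb', mul_inv_rev, e2, e1, ← mul_assoc, show b * b = 1 by rw [← pow_two, ← hbo, pow_orderOf_eq_one],
        one_mul]) rfl
    rw [SelfThree.card_centralizer_of_isConj hb, h48] at h64
    norm_num at h64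

end Cfsg.Agent.SmallSimple.Order6048
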