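import Cfsg.Agent.Lib.SmallSimple.Order6048.Chars

/-!
# Values at involutions and at elements of order three, and the Sylow subgroups at three
-/

set_option autoImplicit false
set_option linter.style.haveILetI false
set_option linter.unusedSectionVars false
set_option maxRecDepth 100000

namespace Cfsg.Agent.SmallSimple.Order6048

open Subgroup Cfsg.Agent.Characters Cfsg.Agent.Blocks Cfsg.Agent.PrimeBlock
open scoped ComplexConjugate

universe u

variable {G : Type u} [Group G] [Finite G] [IsSimpleGroup G] (B : Block G)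
  (hG : Nat.card G = 6048) (hgap : Gap G)

theorem involution_spec : ∀ a ∈ [(-2 : ℤ), 2], ∀ b ∈ [(-25 : ℤ), -21, -17, -13, -9, -5, -1, 3, 7, 11, 15, 19, 23],
    864 - 144 * (a * a) - 32 * (b * b) + 27 * ((a + b - 1) * (a + b - 1)) = 0 →
      1 + a * a + b * b + 2 * ((a + b - 1) * (a + b - 1)) ≤ 432 → a = -2 ∧ b = 3 := by decide +kernel

theorem three_spec : ∀ a ∈ [(-3 : ℤ), 0, 3],
    ∀ b ∈ [(-24 : ℤ), -21, -18, -15, -12, -9, -6, -3, 0, 3, 6, 9, 12, 15, 18, 21, 24],
    ∀ c ∈ [(9 : ℕ), 18, 27, 36, 54, 72, 108, 144, 216, 288, 432],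
    1 + a * a + b * b + 2 * ((a + b - 1) * (a + b - 1)) ≤ (c : ℤ) →
    0 ≤ 864 - 144 * (a * a) - 32 * (b * b) + 27 * ((a + b - 1) * (a + b - 1)) →
    0 ≤ 864 + 288 * a - 96 * b →
    ((c : ℤ) * c) ∣ 7 * (864 - 144 * (a * a) - 32 * (b * b) + 27 * ((a + b - 1) * (a + b - 1))) →
      a = -3 ∧ b = 0 ∧ 54 ≤ c ∨ a = 0 ∧ b = 0 ∧ c = 9 ∨ a = 0 ∧ b = 9 ∧ 216 ≤ c := by decide +kernel

/-- An element commuting with a conjugate of `g` transports. -/
theorem orderOf_ne_one {g : G} {k : ℕ} (h : orderOf g = k) (hk : k ≠ 1) : g ≠ 1 := fun e => by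
  rw [e, orderOf_one] at h; exact hk h.symm

include hG hgap

theorem not_comm : ¬ IsMulCommutative G := Basic.not_comm_of_not_prime (by rw [hG]; norm_num)

/-- The centralizer of a non-trivial element of order prime to seven. -/
theorem cent_cases {g : G} (hg : g ≠ 1) (h7 : ¬ 7 ∣ orderOf g) :
    Nat.card (centralizer ({g} : Set G)) ∣ 864 ∧ Nat.card (centralizer ({g} : Set G)) ≠ 864 := by
  haveI : Fact (Nat.Prime 7) := ⟨by norm_num⟩
  have hC : Nat.card (centralizer ({g} : Set G)) ∣ 7 * 864 := (card_subgroup_dvd_card _).trans (hG ▸ dvd_rfl)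
  have hn7 : ¬ 7 ∣ Nat.card (centralizer ({g} : Set G)) := by
    intro hd
    obtain ⟨⟨y, hy⟩, hyo⟩ := exists_prime_orderOf_dvd_card' (G := centralizer ({g} : Set G)) 7 hd
    rw [orderOf_mk] at hyo
    have hgy : g ∈ centralizer ({y} : Set G) :=
      mem_centralizer_singleton_iff.2 (mem_centralizer_singleton_iff.1 hy).symm
    have := orderOf_dvd_natCard (⟨g, hgy⟩ : centralizer ({y} : Set G))
    rw [orderOf_mk, hgap.cent7 (by rw [hG]; norm_num) hyo] at this
    rcases (Nat.dvd_prime (by norm_num)).1 this with e | e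
    · exact hg (orderOf_eq_one_iff.1 e)
    · exact h7 (e ▸ dvd_rfl)
  refine ⟨((Nat.Prime.coprime_iff_not_dvd (by norm_num)).2 hn7).symm.dvd_of_dvd_mul_left hC, fun e => ?_⟩
  have hne : centralizer ({g} : Set G) ≠ ⊤ := Orders1092.centralizer_ne_top (not_comm hG hgap) hg
  have h := Basic.two_mul_card_dvd_factorial (not_comm hG hgap) _ hne
  have hmul := (centralizer ({g} : Set G)).card_mul_index
  rw [e, hG] at hmul
  rw [show (centralizer ({g} : Set G)).index = 7 by omega, hG] at h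
  norm_num [Nat.factorial] at h

/-- The bound given by the column of `g`. -/
theorem column_bound {g : G} (h7 : ¬ 7 ∣ orderOf g) {a b : ℤ} (ha : (B.ca : G → ℂ) g = a)
    (hb : (B.cb : G → ℂ) g = b) :
    1 + a * a + b * b + 2 * ((a + b - 1) * (a + b - 1)) ≤ (Nat.card (centralizer ({g} : Set G)) : ℤ) := by
  classical
  haveI := Fintype.ofFinite (Cfsg.IrrCharacter G)
  have h1 : (trivIrr G : G → ℂ) g = 1 := by simp
  have d1 : (trivIrr G : G → ℂ) 1 = 1 := by simp
  have key : ∀ {χ ψ : Cfsg.IrrCharacter G} {z w : ℂ}, (χ : G → ℂ) 1 = z → (ψ : G → ℂ) 1 = w →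
      z ≠ w → χ ≠ ψ := fun e1 e2 hne e => hne (e1.symm.trans ((e ▸ rfl : _ = _).trans e2))
  have n1 := key d1 B.deg_a (by norm_num)
  have n2 := key d1 B.deg_b (by norm_num)
  have n3 := key d1 B.deg_th (by norm_num)
  have n4 := key d1 B.deg_th' (by norm_num)
  have n5 := key B.deg_a B.deg_b (by norm_num)
  have n6 := key B.deg_a B.deg_th (by norm_num)
  have n7 := key B.deg_a B.deg_th' (by norm_num)
  have n8 := key B.deg_b B.deg_th (by norm_num)
  have n9 := key B.deg_b B.deg_th' (by norm_num)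
  have h := column_le g ({trivIrr G, B.ca, B.cb, B.th, B.th'} : Finset (Cfsg.IrrCharacter G))
  rw [Finset.sum_insert (by simp [n1, n2, n3, n4]), Finset.sum_insert (by simp [n5, n6, n7]),
    Finset.sum_insert (by simp [n8, n9]), Finset.sum_pair B.ne, B.rel g h7, B.rel' g h7, h1, ha, hb,
    map_one, show ((a : ℂ) + (b : ℂ) - 1) = ((a + b - 1 : ℤ) : ℂ) by push_cast; rfl,
    Complex.normSq_intCast, Complex.normSq_intCast, Complex.normSq_intCast] at h
  have h' : ((1 + a * a + b * b + 2 * ((a + b - 1) * (a + b - 1)) : ℤ) : ℝ) ≤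
      ((Nat.card (centralizer ({g} : Set G)) : ℤ) : ℝ) := by
    push_cast at h ⊢
    linarith
  exact_mod_cast h'

/-- The integral form of the class multiplication into `x`. -/
theorem eqn_int {u v : G} (hu : ¬ 7 ∣ orderOf u) (hv : ¬ 7 ∣ orderOf v) {a b a' b' : ℤ}
    (ha : (B.ca : G → ℂ) u = a) (hb : (B.cb : G → ℂ) u = b)
    (ha' : (B.ca : G → ℂ) v = a') (hb' : (B.cb : G → ℂ) v = b') :
    (ways u v B.x : ℤ) * (Nat.card (centralizer ({u} : Set G)) : ℤ) *
        (Nat.card (centralizer ({v} : Set G)) : ℤ) =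
      7 * (864 - 144 * (a * a') - 32 * (b * b') + 27 * ((a + b - 1) * (a' + b' - 1))) := by
  have h := B.eqn u v hu hv
  rw [B.rel u hu, B.rel v hv, ha, hb, ha', hb'] at h
  exact_mod_cast h

/-- The values at an involution. -/
theorem at_involution {t : G} (ht : orderOf t = 2) :
    (B.ca : G → ℂ) t = ((-2 : ℤ) : ℂ) ∧ (B.cb : G → ℂ) t = ((3 : ℤ) : ℂ) := by
  have hnc := not_comm hG hgap
  have ht7 : ¬ 7 ∣ orderOf t := by rw [ht]; norm_num
  have h1 : (trivIrr G : G → ℂ) 1 = 1 := by simp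
  have hA : B.ca ≠ trivIrr G := fun e => by
    have h := B.deg_a; rw [e, h1] at h; norm_num at h
  have hB : B.cb ≠ trivIrr G := fun e => by
    have h := B.deg_b; rw [e, h1] at h; norm_num at h
  have dA : deg B.ca = 6 := by have := deg_cast B.ca; rw [B.deg_a] at this; exact_mod_cast this
  have dB : deg B.cb = 27 := by have := deg_cast B.cb; rw [B.deg_b] at this; exact_mod_cast this
  obtain ⟨a, ha, ha4, halt⟩ := involution_value hnc hA ht
  obtain ⟨b, hb, hb4, hblt⟩ := involution_value hnc hB ht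
  rw [dA] at ha4 halt
  rw [dB] at hb4 hblt
  rw [abs_lt] at halt hblt
  push_cast at ha4 hb4 halt hblt
  have he := eqn_int B hG hgap ht7 ht7 ha hb ha hb
  rw [hgap.ways_invol hG B.hx ht ht] at he
  have hc := cent_cases hG hgap (orderOf_ne_one ht (by norm_num)) ht7
  have hle : Nat.card (centralizer ({t} : Set G)) ≤ 432 := by
    have := Nat.le_of_dvd (by norm_num) hc.1
    by_contra hlt
    have key : ∀ c ∈ (864 : ℕ).divisors, 432 < c → c = 864 := by decide +kernel
    exact hc.2 (key _ (Nat.mem_divisors.2 ⟨hc.1, by norm_num⟩) (not_le.1 hlt))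
  have hcol := column_bound B hG hgap ht7 ha hb
  push_cast at he
  obtain ⟨ea, eb⟩ := involution_spec a (by simp only [List.mem_cons, List.not_mem_nil, or_false]; omega)
    b (by simp only [List.mem_cons, List.not_mem_nil, or_false]; omega) (by linarith)
    (hcol.trans (by exact_mod_cast hle))
  exact ⟨ea ▸ ha, eb ▸ hb⟩

theorem card_sylow3 (T : Sylow 3 G) [Fact (Nat.Prime 3)] : Nat.card (T : Subgroup G) = 27 :=
  Basic.card_sylow_eq_pow (a := 3) (m := 224) (by rw [hG]; norm_num) (by norm_num) T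

theorem order_three {T : Subgroup G} (hT : Nat.card T = 27) {g : G} (hgT : g ∈ T) (hg : g ≠ 1) :
    orderOf g = 3 := by
  have hd := orderOf_dvd_natCard (⟨g, hgT⟩ : T)
  rw [hT, Subgroup.orderOf_mk] at hd
  obtain ⟨i, hi, hio⟩ := (Nat.dvd_prime_pow Nat.prime_three).1 (show orderOf g ∣ 3 ^ 3 from hd)
  interval_cases i
  · exact absurd (orderOf_eq_one_iff.1 (by simpa using hio)) hg
  · simpa using hio
  · exact absurd hio (by simpa using (hgap g).1)
  · have h9 := (hgap (g ^ 3)).1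
    rw [orderOf_pow_of_dvd (by norm_num) (by rw [hio]; norm_num), hio] at h9
    norm_num at h9

/-- An element of order three commutes with a subgroup of order nine. -/
theorem nine_dvd_cent {y : G} (hy : orderOf y = 3) : 9 ∣ Nat.card (centralizer ({y} : Set G)) := by
  haveI : Fact (Nat.Prime 3) := ⟨Nat.prime_three⟩
  obtain ⟨T, hT⟩ := (IsPGroup.of_card (p := 3) (n := 1) (by rw [Nat.card_zpowers, hy, pow_one]) :
    IsPGroup 3 (zpowers y)).exists_le_sylow
  have hyT : y ∈ (T : Subgroup G) := hT (mem_zpowers y)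
  have hT27 := card_sylow3 hG hgap T
  set C := (T : Subgroup G) ⊓ centralizer ({y} : Set G) with hC
  have hd : Nat.card C ∣ 3 ^ 3 := (card_dvd_of_le inf_le_left).trans hT27.dvd
  obtain ⟨i, hi, hio⟩ := (Nat.dvd_prime_pow Nat.prime_three).1 hd
  have hlt : 3 < Nat.card C := by
    by_contra hle
    haveI : Nontrivial (T : Subgroup G) := Finite.one_lt_card_iff_nontrivial.1 (by rw [hT27]; norm_num)
    haveI := T.isPGroup'.center_nontrivial
    obtain ⟨⟨⟨w, hw⟩, hwZ⟩, hw1⟩ := exists_ne (1 : center (T : Subgroup G))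
    have hwc : ∀ u ∈ (T : Subgroup G), u * w = w * u := fun u hu =>
      congrArg Subtype.val (mem_center_iff.1 hwZ ⟨u, hu⟩)
    have hyC : zpowers y ≤ C := zpowers_le.2 ⟨hyT, mem_centralizer_singleton_iff.2 rfl⟩
    have heq : zpowers y = C := eq_of_le_of_card_ge hyC (by rw [Nat.card_zpowers, hy]; omega)
    have hwy : w ∈ zpowers y := heq ▸ ⟨hw, mem_centralizer_singleton_iff.2 (hwc y hyT).symm⟩
    have hw' : w ≠ 1 := fun e => hw1 (Subtype.ext (Subtype.ext e))
    have hyw : y ∈ zpowers w := by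
      have : zpowers w = zpowers y := eq_of_le_of_card_ge (zpowers_le.2 hwy)
        (by rw [Nat.card_zpowers, Nat.card_zpowers, hy, order_three hG hgap hT27 hw hw'])
      exact this ▸ mem_zpowers y
    have hall : (T : Subgroup G) ≤ C := fun u hu => by
      refine ⟨hu, mem_centralizer_singleton_iff.2 ?_⟩
      obtain ⟨k, rfl⟩ := mem_zpowers_iff.1 hyw
      exact (Commute.zpow_right (hwc u hu) k).eq
    have := card_dvd_of_le hall
    rw [hT27] at this
    have := Nat.le_of_dvd Nat.card_pos this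
    omega
  refine (?_ : 9 ∣ Nat.card C).trans (card_dvd_of_le inf_le_right)
  rw [hio] at hlt ⊢
  interval_cases i <;> simp_all

/-- The three possible kinds of elements of order three. -/
theorem three_kinds {y : G} (hy : orderOf y = 3) :
    ∃ a b : ℤ, (B.ca : G → ℂ) y = a ∧ (B.cb : G → ℂ) y = b ∧
      (a = -3 ∧ b = 0 ∧ 54 ≤ Nat.card (centralizer ({y} : Set G)) ∨
       a = 0 ∧ b = 0 ∧ Nat.card (centralizer ({y} : Set G)) = 9 ∨
       a = 0 ∧ b = 9 ∧ 216 ≤ Nat.card (centralizer ({y} : Set G))) := by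
  haveI : Fact (Nat.Prime 2) := ⟨Nat.prime_two⟩
  have hnc := not_comm hG hgap
  have hy7 : ¬ 7 ∣ orderOf y := by rw [hy]; norm_num
  have hy1 := orderOf_ne_one hy (by norm_num)
  obtain ⟨a, ha⟩ := B.int_a y
  obtain ⟨b, hb⟩ := B.int_b y
  have h1 : (trivIrr G : G → ℂ) 1 = 1 := by simp
  have hA : B.ca ≠ trivIrr G := fun e => by
    have h := B.deg_a; rw [e, h1] at h; norm_num at h
  have hB : B.cb ≠ trivIrr G := fun e => by
    have h := B.deg_b; rw [e, h1] at h; norm_num at h
  have dA : deg B.ca = 6 := by have := deg_cast B.ca; rw [B.deg_a] at this; exact_mod_cast this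
  have dB : deg B.cb = 27 := by have := deg_cast B.cb; rw [B.deg_b] at this; exact_mod_cast this
  have hva := value_mem hnc Nat.prime_three hA hy1 (k := 1) (by rw [hy, pow_one]) ha
  have hvb := value_mem hnc Nat.prime_three hB hy1 (k := 1) (by rw [hy, pow_one]) hb
  rw [dA, Finset.mem_filter, Finset.mem_Ioo] at hva
  rw [dB, Finset.mem_filter, Finset.mem_Ioo] at hvb
  push_cast at hva hvb
  obtain ⟨hc1, hc2⟩ := cent_cases hG hgap hy1 hy7
  have h9 := nine_dvd_cent hG hgap hy
  have key : ∀ c ∈ (864 : ℕ).divisors, 9 ∣ c → c ≠ 864 →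
      c ∈ [(9 : ℕ), 18, 27, 36, 54, 72, 108, 144, 216, 288, 432] := by decide +kernel
  have hmem := key _ (Nat.mem_divisors.2 ⟨hc1, by norm_num⟩) h9 hc2
  obtain ⟨t, ht⟩ := exists_prime_orderOf_dvd_card' (G := G) 2 (by rw [hG]; norm_num)
  obtain ⟨hta, htb⟩ := at_involution B hG hgap ht
  have e1 := eqn_int B hG hgap hy7 hy7 ha hb ha hb
  have e2 := eqn_int B hG hgap (v := t) hy7 (by rw [ht]; norm_num) ha hb hta htb
  have p1 : (0 : ℤ) ≤ (ways y y B.x : ℤ) * Nat.card (centralizer ({y} : Set G)) * Nat.card (centralizer ({y} : Set G)) := by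
    positivity
  have p2 : (0 : ℤ) ≤ (ways y t B.x : ℤ) * Nat.card (centralizer ({y} : Set G)) * Nat.card (centralizer ({t} : Set G)) := by
    positivity
  rw [e1] at p1
  rw [e2] at p2
  exact ⟨a, b, ha, hb, three_spec a (by simp only [List.mem_cons, List.not_mem_nil, or_false]; omega)
    b (by simp only [List.mem_cons, List.not_mem_nil, or_false]; omega) _ hmem
    (column_bound B hG hgap hy7 ha hb) (by linarith) (by linarith) ⟨ways y y B.x, by rw [← e1]; ring⟩⟩

/-- In a Sylow subgroup there are exactly two elements with the value `-3`, and they generate the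
centre. -/
theorem exists_centre [Fact (Nat.Prime 3)] (T : Sylow 3 G) :
    ∃ w : G, w ∈ (T : Subgroup G) ∧ orderOf w = 3 ∧ (B.ca : G → ℂ) w = ((-3 : ℤ) : ℂ) ∧
      (∀ u ∈ (T : Subgroup G), u * w = w * u) ∧
      (∀ y ∈ (T : Subgroup G), y ≠ 1 → (B.ca : G → ℂ) y = ((-3 : ℤ) : ℂ) → y = w ∨ y = w⁻¹) ∧
      ∀ u ∈ (T : Subgroup G), (∀ v ∈ (T : Subgroup G), v * u = u * v) → u ∈ zpowers w := by
  classical
  haveI := Fintype.ofFinite (T : Subgroup G)
  have hT := card_sylow3 hG hgap T
  have hval : ∀ g : (T : Subgroup G), g ≠ 1 → (B.ca : G → ℂ) g = ((-3 : ℤ) : ℂ) ∨ (B.ca : G → ℂ) g = 0 := by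
    intro g hg
    obtain ⟨a, b, ha, -, h⟩ := three_kinds B hG hgap
      (order_three hG hgap hT g.2 fun e => hg (Subtype.ext e))
    rcases h with ⟨e, -, -⟩ | ⟨e, -, -⟩ | ⟨e, -, -⟩ <;> subst e
    · exact Or.inl ha
    · exact Or.inr (by simpa using ha)
    · exact Or.inr (by simpa using ha)
  set W := (Finset.univ : Finset (T : Subgroup G)).filter
    fun g : (T : Subgroup G) => g ≠ 1 ∧ (B.ca : G → ℂ) g = ((-3 : ℤ) : ℂ) with hW
  have hcard : W.card = 2 := by
    obtain ⟨k, hk⟩ := sum_subgroup_eq B.ca (T : Subgroup G)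
    rw [← Finset.add_sum_erase _ _ (Finset.mem_univ (1 : (T : Subgroup G))), OneMemClass.coe_one, B.deg_a,
      Finset.sum_congr rfl (g := fun g : (T : Subgroup G) =>
        if (B.ca : G → ℂ) g = ((-3 : ℤ) : ℂ) then ((-3 : ℤ) : ℂ) else 0) (fun g hg => by
        rcases hval g (Finset.mem_erase.1 hg).1 with e | e
        · rw [if_pos e, e]
        · rw [e, if_neg (by norm_num)]), ← Finset.sum_filter, Finset.sum_const, hT, nsmul_eq_mul] at hk
    rw [show (Finset.univ.erase (1 : (T : Subgroup G))).filter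
      (fun g : (T : Subgroup G) => (B.ca : G → ℂ) g = ((-3 : ℤ) : ℂ)) = W by
      ext g; simp [hW]] at hk
    have h : (6 : ℤ) - 3 * W.card = 27 * k := by
      have h' : ((6 - 3 * (W.card : ℤ) : ℤ) : ℂ) = ((27 * k : ℤ) : ℂ) := by
        push_cast at hk ⊢; linear_combination hk
      exact_mod_cast h'
    omega
  obtain ⟨w, w', hne, hWw⟩ := Finset.card_eq_two.1 hcard
  have hmem : ∀ g : (T : Subgroup G), g ∈ W ↔ g ≠ 1 ∧ (B.ca : G → ℂ) g = ((-3 : ℤ) : ℂ) := fun g => by simp [hW]
  have hw := (hmem w).1 (by rw [hWw]; simp)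
  have hwo : orderOf (w : G) = 3 := order_three hG hgap hT w.2 fun e => hw.1 (Subtype.ext e)
  have hinv : w⁻¹ = w' := by
    have hi : w⁻¹ ∈ W := (hmem _).2 ⟨inv_ne_one.2 hw.1, by
      rw [InvMemClass.coe_inv, char_inv (irr_isCharacter B.ca), hw.2, map_intCast]⟩
    rw [hWw, Finset.mem_insert, Finset.mem_singleton] at hi
    refine hi.resolve_left fun e => ?_
    have h2 : (w : G) * w = 1 := by
      have := congrArg Subtype.val e
      rw [InvMemClass.coe_inv] at this
      nth_rw 1 [← this]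
      exact inv_mul_cancel _
    have hd := orderOf_dvd_of_pow_eq_one (show (w : G) ^ 2 = 1 by rw [pow_two]; exact h2)
    rw [hwo] at hd
    norm_num at hd
  have honly : ∀ y ∈ (T : Subgroup G), y ≠ 1 → (B.ca : G → ℂ) y = ((-3 : ℤ) : ℂ) → y = (w : G) ∨ y = (w : G)⁻¹ := by
    intro y hy hy1 hya
    have h : (⟨y, hy⟩ : (T : Subgroup G)) ∈ W := (hmem _).2 ⟨fun e => hy1 (congrArg Subtype.val e), hya⟩
    rw [hWw, Finset.mem_insert, Finset.mem_singleton, ← hinv] at h
    rcases h with e | e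
    · exact Or.inl (congrArg Subtype.val e)
    · exact Or.inr (congrArg Subtype.val e)
  have hcen : ∀ u ∈ (T : Subgroup G), u * (w : G) = w * u := by
    intro u hu
    have hf : u * (w : G) * u⁻¹ = w ∨ u * (w : G) * u⁻¹ = (w : G)⁻¹ := honly _
      (mul_mem (mul_mem hu w.2) (inv_mem hu))
      (fun e => hw.1 (Subtype.ext (by simpa [mul_assoc] using congrArg (fun z => u⁻¹ * z * u) e)))
      ((irr_isClassFunction B.ca (w : G) u).trans hw.2)
    rcases hf with e | e
    · exact mul_inv_eq_iff_eq_mul.1 e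
    exfalso
    have hu3 : u ^ 3 = 1 := by
      rcases eq_or_ne u 1 with rfl | hu1
      · simp
      · rw [← order_three hG hgap hT hu hu1, pow_orderOf_eq_one]
    have e2 : u * (u * (w : G) * u⁻¹) * u⁻¹ = w := by
      rw [e, show u * (w : G)⁻¹ * u⁻¹ = (u * w * u⁻¹)⁻¹ by group, e, inv_inv]
    have e3 : u ^ 3 * (w : G) * (u ^ 3)⁻¹ = (w : G)⁻¹ := by
      calc u ^ 3 * (w : G) * (u ^ 3)⁻¹ = u * (u * (u * w * u⁻¹) * u⁻¹) * u⁻¹ := by
            simp [pow_succ, mul_assoc]
        _ = (w : G)⁻¹ := by rw [e2, e]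
    rw [hu3, one_mul, inv_one, mul_one] at e3
    have h2 : (w : G) * w = 1 := by nth_rw 1 [e3]; exact inv_mul_cancel _
    have hd := orderOf_dvd_of_pow_eq_one (show (w : G) ^ 2 = 1 by rw [pow_two]; exact h2)
    rw [hwo] at hd
    norm_num at hd
  refine ⟨w, w.2, hwo, hw.2, hcen, honly, fun u hu huc => ?_⟩
  by_contra huw
  -- a subgroup of order nine avoiding `w`
  set Z := zpowers u ⊔ zpowers (w : G) with hZ
  have hu1 : u ≠ 1 := fun e => huw (e ▸ one_mem _)
  have huo := order_three hG hgap hT hu hu1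
  have hcard9 : ∀ {r s : G}, orderOf r = 3 → orderOf s = 3 → Commute r s → s ∉ zpowers r →
      Nat.card ↥(zpowers r ⊔ zpowers s) = 9 := by
    intro r s hr hs hc hnot
    have hcomm : ∀ (i : zpowers r) (j : zpowers s), Commute (i : G) (j : G) := by
      rintro ⟨i, hi⟩ ⟨j, hj⟩
      obtain ⟨k, rfl⟩ := mem_zpowers_iff.1 hi
      obtain ⟨l, rfl⟩ := mem_zpowers_iff.1 hj
      exact (hc.zpow_left k).zpow_right l
    set φ := MonoidHom.noncommCoprod (zpowers r).subtype (zpowers s).subtype hcomm with hφ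
    have hrange : φ.range = zpowers r ⊔ zpowers s := by
      exact (MonoidHom.noncommCoprod_range _ _ hcomm).trans (by rw [range_subtype, range_subtype])
    have hd : Nat.card ↥(zpowers r ⊔ zpowers s) ∣ 3 ^ 2 := by
      rw [← hrange]
      refine (card_range_dvd φ).trans ?_
      rw [Nat.card_prod, Nat.card_zpowers, Nat.card_zpowers, hr, hs]
      norm_num
    have hlt : 3 < Nat.card ↥(zpowers r ⊔ zpowers s) := by
      by_contra hle
      exact hnot ((eq_of_le_of_card_ge (le_sup_left : zpowers r ≤ zpowers r ⊔ zpowers s)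
        (by rw [Nat.card_zpowers, hr]; omega)) ▸ le_sup_right (a := zpowers r) (mem_zpowers s))
    obtain ⟨i, hi, hio⟩ := (Nat.dvd_prime_pow Nat.prime_three).1 hd
    rw [hio] at hlt ⊢
    interval_cases i <;> simp_all
  have hnotall : ¬ (T : Subgroup G) ≤ Z := fun h => by
    have h27 := Nat.le_of_dvd Nat.card_pos (card_dvd_of_le h)
    rw [hT, hZ, hcard9 huo hwo (hcen u hu) (fun hwu => huw (by
      have : zpowers (w : G) = zpowers u := eq_of_le_of_card_ge (zpowers_le.2 hwu)
        (by rw [Nat.card_zpowers, Nat.card_zpowers, huo, hwo])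
      exact this ▸ mem_zpowers u))] at h27
    omega
  obtain ⟨v, hv, hvZ⟩ := SetLike.not_le_iff_exists.1 hnotall
  have hv1 : v ≠ 1 := fun e => hvZ (e ▸ one_mem _)
  have hvo := order_three hG hgap hT hv hv1
  set U := zpowers u ⊔ zpowers v with hU
  have hU9 : Nat.card U = 9 := hcard9 huo hvo (huc v hv).symm fun h => hvZ (le_sup_left (a := zpowers u) h)
  have hUT : U ≤ (T : Subgroup G) := sup_le (zpowers_le.2 hu) (zpowers_le.2 hv)
  have hwU : (w : G) ∉ U := by
    intro hwU
    have hZU : Z = U := eq_of_le_of_card_ge (sup_le le_sup_left (zpowers_le.2 hwU)) (by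
      rw [hU9, hZ, hcard9 huo hwo (hcen u hu) (fun hwu => huw (by
        have : zpowers (w : G) = zpowers u := eq_of_le_of_card_ge (zpowers_le.2 hwu)
          (by rw [Nat.card_zpowers, Nat.card_zpowers, huo, hwo])
        exact this ▸ mem_zpowers u))])
    exact hvZ (hZU ▸ le_sup_right (a := zpowers u) (mem_zpowers v))
  haveI := Fintype.ofFinite U
  obtain ⟨k, hk⟩ := sum_subgroup_eq B.ca U
  rw [Finset.sum_eq_single (1 : U)] at hk
  · rw [OneMemClass.coe_one, B.deg_a, hU9] at hk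
    have : ((6 : ℕ) : ℂ) = ((9 * k : ℕ) : ℂ) := by push_cast; exact hk
    have := Nat.cast_injective this
    omega
  · intro g _ hg
    have hg1 : (g : G) ≠ 1 := fun e => hg (Subtype.ext e)
    refine (hval ⟨g, hUT g.2⟩ fun e => hg1 (congrArg Subtype.val e)).resolve_left fun e => ?_
    rcases honly g (hUT g.2) hg1 e with e' | e'
    · exact hwU (e' ▸ g.2)
    · exact hwU (inv_inv (w : G) ▸ inv_mem (e' ▸ g.2))
  · simp

/-- An element centralized by a full Sylow subgroup has the value `-3`. -/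
theorem value_of_dvd {y : G} (hy : orderOf y = 3) (h27 : 27 ∣ Nat.card (centralizer ({y} : Set G))) :
    (B.ca : G → ℂ) y = ((-3 : ℤ) : ℂ) := by
  haveI : Fact (Nat.Prime 3) := ⟨Nat.prime_three⟩
  set C := centralizer ({y} : Set G) with hC
  obtain ⟨S⟩ : Nonempty (Sylow 3 C) := inferInstance
  have hyC : y ∈ C := mem_centralizer_singleton_iff.2 rfl
  have hyS : (⟨y, hyC⟩ : C) ∈ (S : Subgroup C) := by
    haveI : (zpowers (⟨y, hyC⟩ : C)).Normal := ⟨fun n hn g => by
      obtain ⟨k, rfl⟩ := mem_zpowers_iff.1 hn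
      have hc : Commute g (⟨y, hyC⟩ : C) := Subtype.ext (mem_centralizer_singleton_iff.1 g.2)
      rw [(hc.zpow_right k).eq, mul_inv_cancel_right]
      exact hn⟩
    have h3 : IsPGroup 3 (zpowers (⟨y, hyC⟩ : C)) :=
      IsPGroup.of_card (n := 1) (by rw [Nat.card_zpowers, Subgroup.orderOf_mk, hy, pow_one])
    have heq := S.is_maximal' (S.isPGroup'.to_sup_of_normal_right h3) le_sup_left
    exact heq.le ((le_sup_right : zpowers (⟨y, hyC⟩ : C) ≤ (S : Subgroup C) ⊔ zpowers ⟨y, hyC⟩) (mem_zpowers _))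
  obtain ⟨T, hT⟩ := (S.isPGroup'.map C.subtype).exists_le_sylow
  have hT27 := card_sylow3 hG hgap T
  have hSeq : (S : Subgroup C).map C.subtype = (T : Subgroup G) := eq_of_le_of_card_ge hT (by
    rw [hT27, card_map_of_injective C.subtype_injective]
    exact Nat.le_of_dvd Nat.card_pos (S.pow_dvd_card_of_pow_dvd_card (n := 3) h27))
  obtain ⟨w, hw, hwo, hwa, -, -, hz⟩ := exists_centre B hG hgap T
  have hyT : y ∈ (T : Subgroup G) := hSeq ▸ ⟨_, hyS, rfl⟩
  have hyw : y ∈ zpowers w := hz y hyT fun v hv => by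
    rw [← hSeq] at hv
    obtain ⟨v', -, rfl⟩ := hv
    exact mem_centralizer_singleton_iff.1 v'.2
  obtain ⟨k, hk⟩ := (mem_powers_iff_mem_zpowers.2 hyw : y ∈ Submonoid.powers w)
  have hk' : w ^ (k % 3) = y := by rw [← hwo, pow_mod_orderOf]; exact hk
  have : k % 3 < 3 := Nat.mod_lt _ (by norm_num)
  interval_cases h : k % 3
  · exact absurd hk'.symm (by simpa using orderOf_ne_one hy (by norm_num))
  · rw [← hk', pow_one, hwa]
  · have : w ^ 2 = w⁻¹ := eq_inv_of_mul_eq_one_left (by rw [← pow_succ, show 2 + 1 = orderOf w by omega, pow_orderOf_eq_one])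
    rw [← hk', this, char_inv (irr_isCharacter B.ca), hwa, map_intCast]

/-- An element of order three either is central in its Sylow subgroup or has a centralizer of
order nine. -/
theorem three_cases {y : G} (hy : orderOf y = 3) :
    (B.ca : G → ℂ) y = ((-3 : ℤ) : ℂ) ∧
        (Nat.card (centralizer ({y} : Set G)) = 54 ∨ Nat.card (centralizer ({y} : Set G)) = 108) ∨
      (B.ca : G → ℂ) y ≠ ((-3 : ℤ) : ℂ) ∧ Nat.card (centralizer ({y} : Set G)) = 9 := by
  classical
  haveI : Fact (Nat.Prime 3) := ⟨Nat.prime_three⟩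
  haveI := Fintype.ofFinite (Cfsg.IrrCharacter G)
  have hdiv : ∀ g : G, orderOf g = 3 → Nat.card (centralizer ({g} : Set G)) ∈ (864 : ℕ).divisors := fun g hg =>
    Nat.mem_divisors.2 ⟨(cent_cases hG hgap (orderOf_ne_one hg (by norm_num)) (by rw [hg]; norm_num)).1, by norm_num⟩
  -- elements with the values 0 and 9 form at most one class of 21 elements
  have hnine : ∀ g : G, orderOf g = 3 → (B.ca : G → ℂ) g = ((0 : ℤ) : ℂ) → (B.cb : G → ℂ) g = ((9 : ℤ) : ℂ) →
      216 ≤ Nat.card (centralizer ({g} : Set G)) → Nat.card (centralizer ({g} : Set G)) = 288 := by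
    intro g hg hga hgb hge
    have hne : ¬ 27 ∣ Nat.card (centralizer ({g} : Set G)) := fun h => by
      have := value_of_dvd B hG hgap hg h
      rw [hga] at this
      norm_num at this
    have key : ∀ c ∈ (864 : ℕ).divisors, 216 ≤ c → ¬ 27 ∣ c → c = 288 := by decide +kernel
    exact key _ (hdiv g hg) hge hne
  -- every Sylow subgroup holds an element with centralizer of order nine
  have hex : ∃ y0 : G, orderOf y0 = 3 ∧ (B.ca : G → ℂ) y0 = ((0 : ℤ) : ℂ) ∧
      (B.cb : G → ℂ) y0 = ((0 : ℤ) : ℂ) ∧ Nat.card (centralizer ({y0} : Set G)) = 9 := by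
    by_contra hcon
    push Not at hcon
    obtain ⟨T⟩ : Nonempty (Sylow 3 G) := inferInstance
    have hT := card_sylow3 hG hgap T
    obtain ⟨w, hw, hwo, hwa, -, honly, -⟩ := exists_centre B hG hgap T
    haveI := Fintype.ofFinite (T : Subgroup G)
    set R := (Finset.univ : Finset (T : Subgroup G)).filter
      fun g : (T : Subgroup G) => (g : G) ≠ 1 ∧ (g : G) ≠ w ∧ (g : G) ≠ w⁻¹ with hR
    have hR24 : 24 ≤ R.card := by
      have h3 : (Finset.univ \ R).card ≤ 3 := by
        refine le_trans (Finset.card_le_card (t := {1, ⟨w, hw⟩, ⟨w⁻¹, inv_mem hw⟩}) fun g hg => ?_)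
          Finset.card_le_three
        simp only [hR, Finset.mem_sdiff, Finset.mem_univ, Finset.mem_filter, true_and, not_and_or,
          not_not] at hg
        simp only [Finset.mem_insert, Finset.mem_singleton, Subtype.ext_iff, OneMemClass.coe_one]
        exact hg
      rw [Finset.card_univ_sdiff, ← Nat.card_eq_fintype_card, hT] at h3
      omega
    have hnine' : ∀ g ∈ R, orderOf (g : G) = 3 ∧ (B.ca : G → ℂ) g = ((0 : ℤ) : ℂ) ∧
        (B.cb : G → ℂ) g = ((9 : ℤ) : ℂ) ∧ Nat.card (centralizer ({(g : G)} : Set G)) = 288 := by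
      intro g hg
      obtain ⟨-, hg1, hgw, hgw'⟩ := Finset.mem_filter.1 hg
      have hgo := order_three hG hgap hT g.2 hg1
      obtain ⟨a, b, ha, hb, h⟩ := three_kinds B hG hgap hgo
      rcases h with ⟨rfl, rfl, hc⟩ | ⟨rfl, rfl, hc⟩ | ⟨rfl, rfl, hc⟩
      · exact ((honly g g.2 hg1 ha).elim hgw hgw').elim
      · exact absurd hc (hcon g hgo ha hb)
      · exact ⟨hgo, ha, hb, hnine g hgo ha hb hc⟩
    obtain ⟨g0, hg0⟩ := Finset.card_pos.1 (show 0 < R.card by omega)
    obtain ⟨o0, a0, b0, c0⟩ := hnine' g0 hg0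
    have hconj : ∀ g ∈ R, IsConj (g0 : G) g := by
      intro g hg
      obtain ⟨o, a, b, c⟩ := hnine' g hg
      have h7 : ∀ {u : G}, orderOf u = 3 → ¬ 7 ∣ orderOf u := fun h => by rw [h]; norm_num
      have key : ∀ {χ ψ : Cfsg.IrrCharacter G} {z w : ℂ}, (χ : G → ℂ) 1 = z → (ψ : G → ℂ) 1 = w →
          z ≠ w → χ ≠ ψ := fun e1 e2 hne e => hne (e1.symm.trans ((e ▸ rfl : _ = _).trans e2))
      refine isConj_of_column ({B.cb, B.th, B.th'} : Finset (Cfsg.IrrCharacter G)) (fun χ hχ => ?_) ?_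
      · simp only [Finset.mem_insert, Finset.mem_singleton] at hχ
        rcases hχ with rfl | rfl | rfl
        · rw [b0, b]
        · rw [B.rel _ (h7 o0), B.rel _ (h7 o), a0, b0, a, b]
        · rw [B.rel' _ (h7 o0), B.rel' _ (h7 o), a0, b0, a, b]
      · rw [Finset.sum_insert (by simp [key B.deg_b B.deg_th (by norm_num), key B.deg_b B.deg_th' (by norm_num)]),
          Finset.sum_pair B.ne, B.rel _ (h7 o0), B.rel' _ (h7 o0), a0, b0, c0, c]
        norm_num
    have h21 : Nat.card {z : G // IsConj (g0 : G) z} = 21 := by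
      have := Basic.card_centralizer_mul_card_class (g0 : G)
      rw [c0, hG] at this
      omega
    have hle : Nat.card R ≤ Nat.card {z : G // IsConj (g0 : G) z} :=
      Nat.card_le_card_of_injective (fun g => ⟨(g.1 : G), hconj g.1 g.2⟩)
        fun g g' h => Subtype.ext (Subtype.ext (by simpa using h))
    rw [h21, Nat.card_eq_fintype_card, Fintype.card_coe] at hle
    omega
  obtain ⟨y0, o0, a0, b0, c0⟩ := hex
  obtain ⟨a, b, ha, hb, h⟩ := three_kinds B hG hgap hy
  have e := eqn_int B hG hgap (u := y) (v := y0) (by rw [hy]; norm_num) (by rw [o0]; norm_num) ha hb a0 b0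
  rw [c0] at e
  rcases h with ⟨rfl, rfl, hc⟩ | ⟨rfl, rfl, hc⟩ | ⟨rfl, rfl, hc⟩
  · refine Or.inl ⟨ha, ?_⟩
    have hd : Nat.card (centralizer ({y} : Set G)) ∣ 756 := by
      have : (Nat.card (centralizer ({y} : Set G)) : ℤ) ∣ (756 : ℕ) :=
        ⟨ways y y0 B.x, by push_cast; push_cast at e; linarith⟩
      exact Int.natCast_dvd_natCast.1 this
    have key : ∀ c ∈ (864 : ℕ).divisors, 54 ≤ c → c ∣ 756 → c = 54 ∨ c = 108 := by decide +kernel
    exact key _ (hdiv y hy) hc hd
  · exact Or.inr ⟨by rw [ha]; norm_num, hc⟩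
  · exfalso
    rw [hnine y hy ha hb hc] at e
    push_cast at e
    omega

end Cfsg.Agent.SmallSimple.Order6048
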